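import Mathlib.RingTheory.PowerSeries.Inverse
import Mathlib.RingTheory.PowerSeries.Derivative
import Mathlib.RingTheory.MvPolynomial.Symmetric.Defs
import Mathlib.Algebra.Group.Torsion

/-! Newton coefficients of a sequence `1, c 1, c 2, …`. -/

namespace Groth.Agent.Lead.Lam

open PowerSeries Finset

variable {R S : Type*} [CommRing R] [CommRing S]

noncomputable def ser (c : ℕ → R) : PowerSeries R := PowerSeries.mk c

noncomputable def logD (c : ℕ → R) : PowerSeries R :=
  PowerSeries.derivative R (ser c) * (ser c).invOfUnit 1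

/-- `nw c k` is the `(k+1)`-st power sum attached to the sequence `c` of elementary functions -/
noncomputable def nw (c : ℕ → R) (k : ℕ) : R := (-1) ^ k * coeff k (logD c)

lemma ser_mul_inv {c : ℕ → R} (h : c 0 = 1) : ser c * (ser c).invOfUnit 1 = 1 :=
  mul_invOfUnit _ _ (by simp [ser, ← coeff_zero_eq_constantCoeff_apply, h])

lemma logD_mul {c : ℕ → R} (h : c 0 = 1) : logD c * ser c = PowerSeries.derivative R (ser c) := by
  rw [logD, mul_assoc, mul_comm _ (ser c), ser_mul_inv h, mul_one]

lemma coeff_logD (c : ℕ → R) (k : ℕ) : coeff k (logD c) = (-1) ^ k * nw c k := by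
  rw [nw, ← mul_assoc, ← mul_pow, neg_one_mul, neg_neg, one_pow, one_mul]

lemma rec_eq {c : ℕ → R} (h : c 0 = 1) (n : ℕ) :
    c (n + 1) * (n + 1) = ∑ i ∈ range (n + 1), (-1) ^ i * nw c i * c (n - i) := by
  have := congrArg (coeff n) (logD_mul h)
  rw [coeff_derivative, coeff_mul, Finset.Nat.sum_antidiagonal_eq_sum_range_succ_mk] at this
  simp only [ser, coeff_mk, coeff_logD] at this
  rw [← this]

lemma rec_split {c : ℕ → R} (h : c 0 = 1) (n : ℕ) :
    (-1) ^ n * nw c n = c (n + 1) * (n + 1) - ∑ i ∈ range n, (-1) ^ i * nw c i * c (n - i) := by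
  rw [rec_eq h, sum_range_succ, Nat.sub_self, h, mul_one]; ring

lemma nw_congr {c d : ℕ → R} (hc : c 0 = 1) (hd : d 0 = 1) :
    ∀ n, (∀ t, 1 ≤ t → t ≤ n + 1 → c t = d t) → nw c n = nw d n := by
  intro n
  induction n using Nat.strong_induction_on with
  | _ n ih =>
    intro h
    have e : (-1 : R) ^ n * nw c n = (-1) ^ n * nw d n := by
      rw [rec_split hc, rec_split hd, h (n + 1) (by omega) le_rfl]
      congr 1
      refine sum_congr rfl fun i hi => ?_
      rw [mem_range] at hi
      rw [ih i hi (fun t h1 h2 => h t h1 (by omega)), h (n - i) (by omega) (by omega)]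
    exact (IsUnit.pow n isUnit_one.neg).mul_left_cancel e

lemma eq_of_nw [IsAddTorsionFree R] {c d : ℕ → R} (hc : c 0 = 1) (hd : d 0 = 1) (N : ℕ)
    (h : ∀ k < N, nw c k = nw d k) : ∀ t ≤ N, c t = d t := by
  intro t
  induction t using Nat.strong_induction_on with
  | _ t ih =>
    intro ht
    cases t with
    | zero => rw [hc, hd]
    | succ n =>
      have e : c (n + 1) * (n + 1) = d (n + 1) * (n + 1) := by
        rw [rec_eq hc, rec_eq hd]
        refine sum_congr rfl fun i hi => ?_
        rw [mem_range] at hi
        rw [h i (by omega), ih (n - i) (by omega) (by omega)]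
      apply nsmul_right_injective (n := n + 1) (by omega)
      simpa [nsmul_eq_mul, mul_comm] using e

lemma map_nw (φ : R →+* S) {c : ℕ → R} (hc : c 0 = 1) (k : ℕ) :
    φ (nw c k) = nw (fun t => φ (c t)) k := by
  have hs : ser (fun t => φ (c t)) = PowerSeries.map φ (ser c) := by ext; simp [ser]
  have hi : (PowerSeries.map φ (ser c)).invOfUnit 1 = PowerSeries.map φ ((ser c).invOfUnit 1) := by
    have e1 : ser (fun t => φ (c t)) * (ser (fun t => φ (c t))).invOfUnit 1 = 1 := ser_mul_inv (by simp [hc])
    have e2 : ser (fun t => φ (c t)) * PowerSeries.map φ ((ser c).invOfUnit 1) = 1 := by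
      rw [hs, ← map_mul, ser_mul_inv hc, map_one]
    rw [← hs]
    exact left_inv_eq_right_inv (by rw [mul_comm]; exact e1) e2
  have hd : PowerSeries.derivative S (PowerSeries.map φ (ser c))
      = PowerSeries.map φ (PowerSeries.derivative R (ser c)) := by
    ext n; simp [coeff_derivative]
  simp only [nw, logD]
  rw [hs, hi, hd, map_mul, map_pow, map_neg, map_one]
  rw [← map_mul (PowerSeries.map φ), coeff_map]

/-- the sequence attached to a product of series -/
def conv (c d : ℕ → R) (k : ℕ) : R := ∑ i ∈ range (k + 1), c i * d (k - i)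

lemma ser_conv (c d : ℕ → R) : ser (conv c d) = ser c * ser d := by
  ext n; simp [ser, conv, coeff_mul, Finset.Nat.sum_antidiagonal_eq_sum_range_succ_mk]

lemma nw_conv {c d : ℕ → R} (hc : c 0 = 1) (hd : d 0 = 1) (k : ℕ) :
    nw (conv c d) k = nw c k + nw d k := by
  have h0 : conv c d 0 = 1 := by simp [conv, hc, hd]
  have key : logD (conv c d) = logD c + logD d := by
    have h1 : (logD (conv c d) - (logD c + logD d)) * ser (conv c d) = 0 := by
      rw [sub_mul, logD_mul h0, ser_conv, add_mul, ← mul_assoc, logD_mul hc, mul_comm (ser c) (ser d),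
        ← mul_assoc, logD_mul hd, Derivation.leibniz, smul_eq_mul, smul_eq_mul]
      ring
    have h2 := congrArg (· * (ser (conv c d)).invOfUnit 1) h1
    simp only [mul_assoc, ser_mul_inv h0, mul_one, zero_mul] at h2
    exact sub_eq_zero.1 h2
  rw [nw, nw, nw, key, map_add]; ring

/-- elementary symmetric functions of a multiset, as a sequence -/
noncomputable def es (m : Multiset R) : ℕ → R := fun k => m.esymm k

lemma es_zero (m : Multiset R) : es m 0 = 1 := by simp [es, Multiset.esymm]

lemma es_cons_succ (a : R) (m : Multiset R) (k : ℕ) :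
    es (a ::ₘ m) (k + 1) = es m (k + 1) + a * es m k := by
  simp [es, Multiset.esymm, Multiset.powersetCard_cons, Multiset.map_map, Multiset.sum_map_mul_left]

/-- a single root -/
def single (a : R) : ℕ → R := fun k => if k = 0 then 1 else if k = 1 then a else 0

lemma es_cons (a : R) (m : Multiset R) : es (a ::ₘ m) = conv (single a) (es m) := by
  funext k
  cases k with
  | zero => simp [es_zero, conv, single]
  | succ k =>
    rw [es_cons_succ, conv, Finset.sum_range_succ', Finset.sum_range_succ']
    simp [single]; ring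

lemma nw_single (a : R) : ∀ k, nw (single a) k = a ^ (k + 1) := by
  intro k
  induction k with
  | zero =>
    have := rec_split (c := single a) (by simp [single]) 0
    simpa [single] using this
  | succ k ih =>
    have := rec_split (c := single a) (by simp [single]) (k + 1)
    rw [Finset.sum_range_succ, Finset.sum_eq_zero, ih] at this
    · simp [single] at this
      apply (IsUnit.pow (k + 1) (isUnit_one (M := R)).neg).mul_left_cancel
      rw [this]; ring
    · intro i hi
      rw [mem_range] at hi
      simp only [single]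
      rw [if_neg (show k + 1 - i ≠ 0 by omega), if_neg (show k + 1 - i ≠ 1 by omega), mul_zero]

lemma nw_es (m : Multiset R) (k : ℕ) : nw (es m) k = (m.map (· ^ (k + 1))).sum := by
  induction m using Multiset.induction_on with
  | empty =>
    have h : es (0 : Multiset R) = single 0 := by
      funext t
      rcases t with _ | _ | t <;> simp [es, single, Multiset.esymm, Multiset.powersetCard_zero_right]
    rw [h, nw_single]; simp
  | cons a m ih =>
    rw [es_cons, nw_conv (by simp [single]) (es_zero m), nw_single, ih]; simp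

/-- the unit sequence -/
lemma nw_single_one (k : ℕ) : nw (single (1 : R)) k = 1 := by rw [nw_single, one_pow]

lemma esymm_extend {ι : Type*} [DecidableEq ι] {s t : Finset ι} (hst : s ⊆ t) (f : ι → R)
    (h0 : ∀ i ∈ t, i ∉ s → f i = 0) (k : ℕ) : (t.val.map f).esymm k = (s.val.map f).esymm k := by
  rw [Finset.esymm_map_val, Finset.esymm_map_val]
  refine (Finset.sum_subset (Finset.powersetCard_mono hst) fun u hu hu' => ?_).symm
  rw [Finset.mem_powersetCard] at hu hu'
  obtain ⟨i, hi, his⟩ : ∃ i ∈ u, i ∉ s := by
    by_contra! h; exact hu' ⟨h, hu.2⟩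
  exact Finset.prod_eq_zero hi (h0 i (hu.1 hi) his)

lemma map_esymm' {F : Type*} [FunLike F R S] [RingHomClass F R S] (φ : F) (m : Multiset R) (k : ℕ) : φ (m.esymm k) = (m.map φ).esymm k := by
  simp only [Multiset.esymm, Multiset.powersetCard_map, Multiset.map_map, Function.comp_def]
  rw [map_multiset_sum, Multiset.map_map]
  simp [Function.comp_def, map_multiset_prod]

end Groth.Agent.Lead.Lam
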