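import Mathlib.FieldTheory.Galois.Basic
import Mathlib.FieldTheory.Separable
import Mathlib.FieldTheory.IsAlgClosed.AlgebraicClosure
import Mathlib.FieldTheory.Finite.Basic
import Mathlib.Algebra.Central.Defs
import Mathlib.Algebra.CharP.Basic
import Mathlib.Algebra.CharP.Lemmas
import Mathlib.LinearAlgebra.FiniteDimensional.Basic
import Mathlib.LinearAlgebra.Dimension.Free
import Mathlib.RingTheory.Adjoin.Basic
import Mathlib.Tactic.NoncommRing
import Mathlib.Tactic.LinearCombination
import Mathlib.Tactic.Module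
import Mathlib.Tactic.Abel
import Mathlib.Tactic.IntervalCases

/-! Inseparable elements in division algebras of prime degree in characteristic `p`. -/

namespace Groth.Agent.Lead.CSADivision

open Polynomial

variable {K : Type*} [Field K] {A : Type*} [DivisionRing A] [Algebra K A]

lemma not_isSeparable_of_pow_mem (p : ℕ) [Fact p.Prime] [CharP K p] [FiniteDimensional K A]
    {x : A} (hx : x ∉ (⊥ : Subalgebra K A)) {b : K} (hb : x ^ p = algebraMap K A b) :
    ¬ IsSeparable K x := by
  intro hs
  have hint : IsIntegral K x := IsIntegral.of_finite K x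
  have hdvd : minpoly K x ∣ X ^ p - C b := minpoly.dvd K x (by simp [hb])
  obtain ⟨z, hz⟩ := IsAlgClosed.exists_pow_nat_eq (algebraMap K (AlgebraicClosure K) b) (Fact.out : p.Prime).pos
  haveI : CharP (AlgebraicClosure K) p := charP_of_injective_algebraMap (algebraMap K _).injective p
  have hroots : ∀ y ∈ (minpoly K x).aroots (AlgebraicClosure K), y = z := by
    intro y hy
    have hy' : aeval y (minpoly K x) = 0 := (mem_aroots.1 hy).2
    have : aeval y (X ^ p - C b) = 0 := by
      obtain ⟨q, hq⟩ := hdvd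
      rw [hq, map_mul, hy', zero_mul]
    simp [sub_eq_zero] at this
    exact frobenius_inj (AlgebraicClosure K) p (by rw [frobenius_def, frobenius_def, this, hz])
  have hcard : (minpoly K x).natDegree ≤ 1 := by
    classical
    rw [← natDegree_map (algebraMap K (AlgebraicClosure K)),
      (IsAlgClosed.splits ((minpoly K x).map (algebraMap K (AlgebraicClosure K)))).natDegree_eq_card_roots]
    have hnd := nodup_roots (Polynomial.Separable.map hs (f := algebraMap K (AlgebraicClosure K)))
    rw [← Multiset.toFinset_card_of_nodup hnd]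
    refine Finset.card_le_one.2 fun y hy y' hy' => ?_
    rw [Multiset.mem_toFinset] at hy hy'
    rw [hroots y hy, hroots y' hy']
  have h1 : (minpoly K x).natDegree = 1 :=
    le_antisymm hcard (minpoly.natDegree_pos hint)
  exact hx (Algebra.mem_bot.2 (minpoly.natDegree_eq_one_iff.1 h1))

variable [FiniteDimensional K A] [Algebra.IsCentral K A] {p : ℕ} [Fact p.Prime]
  (hA : Module.finrank K A = p ^ 2)

omit [Algebra.IsCentral K A] [Fact p.Prime] in
include hA in
lemma finrank_dvd (B : Subalgebra K A) : Module.finrank K B ∣ p ^ 2 := by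
  letI : DivisionRing B := divisionRingOfFiniteDimensional K B
  exact ⟨Module.finrank B A, by rw [← hA, Module.finrank_mul_finrank K B A]⟩

lemma exists_not_commute {x : A} (hx : x ∉ (⊥ : Subalgebra K A)) : ∃ y : A, x * y ≠ y * x := by
  by_contra h
  simp only [not_exists, not_not] at h
  exact hx (Algebra.IsCentral.out (Subalgebra.mem_center_iff.2 fun y => (h y).symm))

include hA in
lemma finrank_adjoin {θ : A} (hθ : θ ∉ (⊥ : Subalgebra K A)) :
    Module.finrank K (Algebra.adjoin K {θ} : Subalgebra K A) = p := by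
  obtain ⟨i, hi, he⟩ := (Nat.dvd_prime_pow (Fact.out : p.Prime)).1 (finrank_dvd hA (Algebra.adjoin K {θ}))
  interval_cases i
  · exfalso
    have : Algebra.adjoin K {θ} = ⊥ := Subalgebra.eq_bot_of_finrank_one (by simpa using he)
    exact hθ (this ▸ Algebra.self_mem_adjoin_singleton K θ)
  · simpa using he
  · exfalso
    obtain ⟨y, hy⟩ := exists_not_commute (K := K) hθ
    have ht : Algebra.adjoin K {θ} = ⊤ := by
      apply Subalgebra.toSubmodule_injective
      rw [Algebra.top_toSubmodule]
      exact Submodule.eq_top_of_finrank_eq (by rw [Subalgebra.finrank_toSubmodule, he, hA])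
    have hle : Algebra.adjoin K {θ} ≤ Subalgebra.centralizer K {θ} :=
      Algebra.adjoin_le (by rintro a rfl; exact (Subalgebra.mem_centralizer_iff K).2 (by rintro b rfl; rfl))
    rw [ht] at hle
    exact hy ((Subalgebra.mem_centralizer_iff K).1 (hle (Algebra.mem_top (x := y))) θ rfl)

include hA in
/-- anything commuting with two non-commuting elements is central -/
lemma mem_bot_of_commute {θ x y : A} (hθ : θ ∉ (⊥ : Subalgebra K A)) (hx : θ * x ≠ x * θ)
    (h1 : Commute y θ) (h2 : Commute y x) : y ∈ (⊥ : Subalgebra K A) := by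
  set B : Subalgebra K A := Subalgebra.centralizer K {y}
  have hθB : θ ∈ B := (Subalgebra.mem_centralizer_iff K).2 (by rintro b rfl; exact h1)
  have hxB : x ∈ B := (Subalgebra.mem_centralizer_iff K).2 (by rintro b rfl; exact h2)
  have hlt : Algebra.adjoin K {θ} < B := by
    refine lt_of_le_of_ne (Algebra.adjoin_le (by simpa using hθB)) fun h => hx ?_
    have hle : Algebra.adjoin K {θ} ≤ Subalgebra.centralizer K {θ} :=
      Algebra.adjoin_le (by rintro a rfl; exact (Subalgebra.mem_centralizer_iff K).2 (by rintro b rfl; rfl))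
    exact (Subalgebra.mem_centralizer_iff K).1 (hle (h.symm ▸ hxB)) θ rfl
  have hfr : p < Module.finrank K B := by
    rw [← finrank_adjoin hA hθ, ← Subalgebra.finrank_toSubmodule, ← Subalgebra.finrank_toSubmodule B]
    exact Submodule.finrank_lt_finrank_of_lt hlt
  obtain ⟨i, hi, he⟩ := (Nat.dvd_prime_pow (Fact.out : p.Prime)).1 (finrank_dvd hA B)
  have hi2 : i = 2 := by
    interval_cases i
    · have := (Fact.out : p.Prime).one_lt; rw [pow_zero] at he; omega
    · rw [pow_one] at he; omega
    · rfl
  subst hi2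
  have ht : B = ⊤ := by
    apply Subalgebra.toSubmodule_injective
    rw [Algebra.top_toSubmodule]
    exact Submodule.eq_top_of_finrank_eq (by rw [Subalgebra.finrank_toSubmodule, he, hA])
  refine Algebra.IsCentral.out (Subalgebra.mem_center_iff.2 fun z => ?_)
  exact ((Subalgebra.mem_centralizer_iff K).1 (ht ▸ Algebra.mem_top : z ∈ B) y rfl).symm

include hA in
lemma inseparable_of_commute [CharP K p] {θ x : A} (hθ : θ ∉ (⊥ : Subalgebra K A))
    (hx : θ * x ≠ x * θ) (h : Commute (x ^ p) θ) : ∃ v : A, ¬ IsSeparable K v := by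
  obtain ⟨b, hb⟩ := Algebra.mem_bot.1 (mem_bot_of_commute hA hθ hx h ((Commute.refl x).pow_left p))
  refine ⟨x, not_isSeparable_of_pow_mem p ?_ hb.symm⟩
  intro h'
  obtain ⟨c, rfl⟩ := Algebra.mem_bot.1 h'
  exact hx (Algebra.commutes c θ).symm

omit [FiniteDimensional K A] [Algebra.IsCentral K A] in
lemma exists_eigen (D : Module.End K A) (s : List K) (w : A) (hw : w ≠ 0)
    (h : (s.map fun c => D - algebraMap K (Module.End K A) c).prod w = 0) :
    ∃ c ∈ s, ∃ x : A, x ≠ 0 ∧ D x = c • x := by
  induction s generalizing w with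
  | nil => simp at h; exact absurd h hw
  | cons c s ih =>
    simp only [List.map_cons, List.prod_cons, Module.End.mul_apply] at h
    by_cases h2 : (s.map fun c => D - algebraMap K (Module.End K A) c).prod w = 0
    · obtain ⟨c', hc', hx⟩ := ih w hw h2
      exact ⟨c', List.mem_cons_of_mem _ hc', hx⟩
    · exact ⟨c, List.mem_cons_self, _, h2, by
        rwa [LinearMap.sub_apply, Module.algebraMap_end_apply, sub_eq_zero] at h⟩

include hA in
lemma inseparable_of_artinSchreier [CharP K p] {θ : A} (hθ : θ ∉ (⊥ : Subalgebra K A)) {a : K}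
    (h : θ ^ p = θ + algebraMap K A a) : ∃ v : A, ¬ IsSeparable K v := by
  haveI : CharP (Module.End K A) p :=
    charP_of_injective_algebraMap (FaithfulSMul.algebraMap_injective K (Module.End K A)) p
  set D : Module.End K A := LinearMap.mulLeft K θ - LinearMap.mulRight K θ with hD
  have hDp : D ^ p = D := by
    rw [hD, sub_pow_char_of_commute p (LinearMap.commute_mulLeft_right θ θ),
      LinearMap.pow_mulLeft, LinearMap.pow_mulRight, h]
    refine LinearMap.ext fun z => ?_
    simp [add_mul, mul_add, Algebra.commutes]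
  obtain ⟨z, hz⟩ := exists_not_commute (K := K) hθ
  have hw : D z ≠ 0 := by simpa [hD, sub_eq_zero] using hz
  classical
  let φ : ZMod p →+* K := ZMod.castHom dvd_rfl K
  set s : List K := (((Finset.univ : Finset (ZMod p)).erase 0).toList).map φ with hs
  have hpoly : ∏ c : ZMod p, (X - C (φ c)) = (X ^ p - X : K[X]) := by
    have h1 : ∏ c : ZMod p, (X - C c) = (X ^ p - X : (ZMod p)[X]) := by
      have hq := FiniteField.roots_X_pow_card_sub_X (ZMod p)
      rw [ZMod.card] at hq
      have hm : (X ^ p - X : (ZMod p)[X]).Monic :=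
        monic_X_pow_sub (by rw [degree_X]; exact_mod_cast (Fact.out : p.Prime).one_lt)
      have hdeg : (X ^ p - X : (ZMod p)[X]).natDegree = p :=
        FiniteField.X_pow_card_sub_X_natDegree_eq _ (Fact.out : p.Prime).one_lt
      have := prod_multiset_X_sub_C_of_monic_of_roots_card_eq hm (by rw [hq, hdeg]; simp)
      rw [hq] at this
      exact this
    simpa [Polynomial.map_prod] using congrArg (Polynomial.map φ) h1
  have hprod : (s.map fun c => D - algebraMap K (Module.End K A) c).prod (D z) = 0 := by
    have h0 := congrArg (Polynomial.aeval D) hpoly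
    rw [← Finset.prod_erase_mul _ _ (Finset.mem_univ (0 : ZMod p)), map_mul, ← Finset.prod_map_toList,
      map_list_prod] at h0
    simp [hDp] at h0
    have := LinearMap.congr_fun h0 z
    simp only [hs, List.map_map]
    simpa [Function.comp_def] using this
  obtain ⟨c, hc, x, hx, hDx⟩ := exists_eigen D s _ hw hprod
  have hc0 : c ≠ 0 := by
    obtain ⟨d, hd, rfl⟩ := List.mem_map.1 hc
    rw [Finset.mem_toList, Finset.mem_erase] at hd
    exact (map_ne_zero φ).2 hd.1
  have hxθ : θ * x = x * (θ + algebraMap K A c) := by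
    have : θ * x - x * θ = c • x := by simpa [hD] using hDx
    rw [Algebra.smul_def, Algebra.commutes, sub_eq_iff_eq_add] at this
    rw [this, mul_add, add_comm]
  have hne : θ * x ≠ x * θ := fun e => by
    rw [e, mul_add, left_eq_add] at hxθ
    rcases mul_eq_zero.1 hxθ with h | h
    · exact hx h
    · exact hc0 ((map_eq_zero (algebraMap K A)).1 h)
  refine inseparable_of_commute hA hθ hne ?_
  have hpow : ∀ n : ℕ, θ * x ^ n = x ^ n * (θ + algebraMap K A (n * c)) := by
    intro n
    induction n with
    | zero => simp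
    | succ n ih =>
      rw [pow_succ, ← mul_assoc, ih, mul_assoc, mul_assoc, add_mul, hxθ, Algebra.commutes (n * c) x,
        ← mul_add, add_assoc, ← map_add]
      congr 4
      push_cast; ring
  have := hpow p
  simp at this
  exact this.symm

include hA in
lemma inseparable_of_galois [CharP K p] {L : Type*} [Field L] [Algebra K L] [IsGalois K L]
    (hL : Module.finrank K L = p) (ι : L →ₐ[K] A) : ∃ v : A, ¬ IsSeparable K v := by
  classical
  haveI : FiniteDimensional K L :=
    Module.finite_of_finrank_pos (by rw [hL]; exact (Fact.out : p.Prime).pos)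
  haveI : CharP L p := charP_of_injective_algebraMap (algebraMap K L).injective p
  have hcard : Nat.card (L ≃ₐ[K] L) = p := by rw [IsGalois.card_aut_eq_finrank, hL]
  obtain ⟨σ, hσ⟩ : ∃ σ : L ≃ₐ[K] L, σ ≠ 1 := by
    by_contra h
    simp only [ne_eq, not_exists, not_not] at h
    haveI : Subsingleton (L ≃ₐ[K] L) := ⟨fun a b => (h a).trans (h b).symm⟩
    rw [Nat.card_unique] at hcard
    exact absurd hcard.symm (Fact.out : p.Prime).one_lt.ne'
  have hfix : ∀ y : L, σ y = y → y ∈ Set.range (algebraMap K L) := by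
    intro y hy
    refine (IsGalois.mem_range_algebraMap_iff_fixed y).2 fun τ => ?_
    obtain ⟨n, rfl⟩ := Subgroup.mem_zpowers_iff.1 (mem_zpowers_of_prime_card hcard hσ (g' := τ))
    exact Subgroup.zpow_mem (MulAction.stabilizer (L ≃ₐ[K] L) y) hy n
  haveI : CharP (Module.End K L) p :=
    charP_of_injective_algebraMap (FaithfulSMul.algebraMap_injective K (Module.End K L)) p
  set g : Module.End K L := (σ.toLinearMap : Module.End K L) - 1 with hg
  have hgp : g ^ p = 0 := by
    have h1 : ∀ n : ℕ, ∀ z : L, ((σ.toLinearMap : Module.End K L) ^ n) z = (σ ^ n) z := fun n => by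
      induction n with
      | zero => intro z; simp
      | succ n ih => intro z; rw [pow_succ, pow_succ, Module.End.mul_apply, AlgEquiv.mul_apply, ih]; rfl
    rw [hg, sub_pow_char_of_commute p (Commute.one_right _), one_pow, sub_eq_zero]
    refine LinearMap.ext fun z => ?_
    rw [h1, ← hcard, pow_card_eq_one']
    rfl
  obtain ⟨z₀, hz₀⟩ : ∃ z, g z ≠ 0 := by
    by_contra h
    simp only [not_exists, not_not] at h
    exact hσ (AlgEquiv.ext fun z => sub_eq_zero.1 (by simpa [hg] using h z))
  have hex : ∃ n, (g ^ n) z₀ = 0 := ⟨p, by simp [hgp]⟩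
  set n := Nat.find hex with hn
  have hn2 : 2 ≤ n := by
    rw [hn, Nat.le_find_iff]
    intro m hm h0
    interval_cases m
    · simp at h0; exact hz₀ (by rw [h0, map_zero])
    · simp at h0; exact hz₀ h0
  have hz1 : g ((g ^ (n - 2)) z₀) ≠ 0 := by
    rw [← Module.End.mul_apply, ← pow_succ']
    exact Nat.find_min hex (by omega)
  have hz2 : g (g ((g ^ (n - 2)) z₀)) = 0 := by
    rw [← Module.End.mul_apply, ← Module.End.mul_apply, ← pow_two, ← pow_add,
      show 2 + (n - 2) = n by omega]
    exact Nat.find_spec hex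
  set z := (g ^ (n - 2)) z₀ with hz
  obtain ⟨k, hk⟩ := hfix (g z) (sub_eq_zero.1 (by simpa [hg] using hz2))
  have hk0 : k ≠ 0 := fun h => hz1 (by rw [← hk, h, map_zero])
  set t : L := algebraMap K L k⁻¹ * z with ht
  have hσt : σ t = t + 1 := by
    have : σ z = z + algebraMap K L k := by rw [hk]; simp [hg]
    rw [ht, map_mul, AlgEquiv.commutes, this, mul_add, ← map_mul, inv_mul_cancel₀ hk0, map_one]
  have hfixt : σ (t ^ p - t) = t ^ p - t := by
    rw [map_sub, map_pow, hσt, add_pow_char, one_pow]; ring
  obtain ⟨a, ha⟩ := hfix _ hfixt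
  refine inseparable_of_artinSchreier hA (θ := ι t) (a := a) ?_ ?_
  · intro hm
    obtain ⟨c, hc⟩ := Algebra.mem_bot.1 hm
    have : t = algebraMap K L c := ι.toRingHom.injective (by simpa using hc.symm)
    rw [this, AlgEquiv.commutes, left_eq_add] at hσt
    exact one_ne_zero hσt
  · rw [← map_pow, ← ι.commutes a, ← map_add]
    congr 1
    rw [ha]; ring

include hA in
lemma finrank_adjoin_le {θ : A} (hθ : θ ∉ (⊥ : Subalgebra K A)) {n : ℕ} (f : K[X]) (hf : f.Monic)
    (hdeg : f.natDegree = n) (h : aeval θ f = 0) : p ≤ n := by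
  classical
  rw [← finrank_adjoin hA hθ, ← Subalgebra.finrank_toSubmodule]
  have hle : (Algebra.adjoin K {θ}).toSubmodule ≤
      Submodule.span K ((Finset.range n).image (fun i => θ ^ i) : Set A) := by
    intro x hx
    rw [Subalgebra.mem_toSubmodule, Algebra.adjoin_singleton_eq_range_aeval] at hx
    obtain ⟨q, rfl⟩ := hx
    change aeval θ q ∈ _
    rw [← aeval_modByMonic_eq_self_of_root (p := q) h, aeval_eq_sum_range' (n := n)]
    · exact Submodule.sum_mem _ fun i hi => Submodule.smul_mem _ _
        (Submodule.subset_span (Finset.mem_image_of_mem _ hi))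
    · have hn1 : f ≠ 1 := fun h1 => by rw [h1, map_one] at h; exact one_ne_zero h
      exact hdeg ▸ natDegree_modByMonic_lt q hf hn1
  refine (Submodule.finrank_mono hle).trans ((finrank_span_finset_le_card _).trans ?_)
  exact (Finset.card_image_le).trans (by simp)

include hA in
lemma exists_monic {θ : A} (hθ : θ ∉ (⊥ : Subalgebra K A)) :
    ∃ f : K[X], f.Monic ∧ f.natDegree = p ∧ aeval θ f = 0 := by
  have hint : IsIntegral K θ := IsIntegral.of_finite K θ
  have hle : (minpoly K θ).natDegree ≤ p := by
    rw [← finrank_adjoin hA hθ]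
    have hli : LinearIndependent K fun i : Fin (minpoly K θ).natDegree =>
        (⟨θ ^ (i : ℕ), pow_mem (Algebra.self_mem_adjoin_singleton K θ) _⟩ : Algebra.adjoin K {θ}) :=
      LinearIndependent.of_comp (Algebra.adjoin K {θ}).val.toLinearMap (linearIndependent_pow θ)
    simpa using hli.fintype_card_le_finrank
  refine ⟨minpoly K θ * X ^ (p - (minpoly K θ).natDegree),
    (minpoly.monic hint).mul (monic_X_pow _), ?_, by simp⟩
  rw [natDegree_mul_X_pow _ (minpoly.ne_zero hint)]
  omega

include hA in
lemma sq_notMem [CharP K p] (hp : 2 < p) {u : A} (hu : u ∉ (⊥ : Subalgebra K A)) :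
    u ^ 2 ∉ (⊥ : Subalgebra K A) := by
  intro h
  obtain ⟨c, hc⟩ := Algebra.mem_bot.1 h
  have := finrank_adjoin_le hA hu (n := 2) (X ^ 2 - C c) (monic_X_pow_sub_C c two_ne_zero)
    natDegree_X_pow_sub_C (by simp [hc])
  omega

include hA in
lemma inseparable_two [CharP K p] (hp : p = 2) : ∃ v : A, ¬ IsSeparable K v := by
  subst hp
  obtain ⟨θ, hθ⟩ : ∃ θ : A, θ ∉ (⊥ : Subalgebra K A) := by
    by_contra h
    simp only [not_exists, not_not] at h
    have : (⊥ : Subalgebra K A) = ⊤ := eq_top_iff.2 fun x _ => h x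
    have := Subalgebra.bot_eq_top_iff_finrank_eq_one.1 this
    omega
  haveI : CharP A 2 := charP_of_injective_algebraMap (algebraMap K A).injective 2
  obtain ⟨f, hf, hdeg, hev⟩ := exists_monic hA hθ
  set b := algebraMap K A (f.coeff 1) with hb
  set c := algebraMap K A (f.coeff 0) with hc
  have hq : θ ^ 2 + b * θ + c = 0 := by
    rw [aeval_eq_sum_range, hdeg] at hev
    have h2 : f.coeff 2 = 1 := hdeg ▸ hf.coeff_natDegree
    simp [Finset.sum_range_succ, Algebra.smul_def, h2] at hev
    rw [hb, hc, ← hev]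
    abel
  obtain ⟨y, hy⟩ := exists_not_commute (K := K) hθ
  set e := θ * y - y * θ with he
  have hcb : ∀ z : A, b * z = z * b := fun z => Algebra.commutes _ z
  have hcc : ∀ z : A, c * z = z * c := fun z => Algebra.commutes _ z
  have key : θ * e = e * (-b - θ) := by
    have : θ * e - e * (-b - θ) = (θ ^ 2 + b * θ + c) * y - y * (θ ^ 2 + b * θ + c) := by
      rw [he]
      simp only [mul_sub, sub_mul, mul_neg, mul_add, add_mul, ← mul_assoc y b, ← hcb y, ← hcc y,
        ← hcb (θ * y), ← hcb (y * θ)]
      noncomm_ring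
    rw [hq, zero_mul, mul_zero, sub_zero, sub_eq_zero] at this
    exact this
  have he0 : e ≠ 0 := sub_ne_zero.2 hy
  by_cases hb0 : b = 0
  · refine ⟨θ, not_isSeparable_of_pow_mem 2 hθ (b := -f.coeff 0) ?_⟩
    rw [map_neg, ← hc, eq_neg_iff_add_eq_zero, ← hq, hb0]; simp
  refine inseparable_of_commute hA hθ (x := e) ?_ ?_
  · intro h
    rw [key, mul_right_inj' he0] at h
    apply hb0
    have : b = -(θ + θ) := by rw [← sub_eq_iff_eq_add.1 h, neg_neg]
    simpa [CharTwo.add_self_eq_zero] using this
  · show e ^ 2 * θ = θ * e ^ 2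
    clear_value e
    rw [pow_two, ← mul_assoc θ, key, mul_assoc e (-b - θ) e, sub_mul, key, neg_mul, hcb e]
    noncomm_ring

omit [FiniteDimensional K A] [Algebra.IsCentral K A] [Fact p.Prime] in
/-- Wedderburn's rotation identity -/
lemma wedderburn_rotate {a b c t s : A} (ha : ∀ z : A, a * z = z * a) (hb : ∀ z : A, b * z = z * b)
    (hc : ∀ z : A, c * z = z * c) (h0 : t ^ 3 + a * t ^ 2 + b * t + c = 0)
    (hQ : t ^ 2 + t * s + s ^ 2 + a * (t + s) + b = 0) :
    (t * s - s * t) * t = s * (t * s - s * t) ∧ s ^ 3 + a * s ^ 2 + b * s + c = 0 := by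
  have e2 : (t ^ 2 + t * s + s ^ 2 + a * (t + s) + b) * s - t * (t ^ 2 + t * s + s ^ 2 + a * (t + s) + b) =
      (s ^ 3 + a * s ^ 2 + b * s + c) - (t ^ 3 + a * t ^ 2 + b * t + c) := by
    rw [mul_add t, mul_add t, ← mul_assoc t a, ← ha t, ← hb t]
    noncomm_ring
  rw [hQ, h0, zero_mul, mul_zero, sub_zero, sub_zero] at e2
  refine ⟨?_, e2.symm⟩
  have e1 : (t * s - s * t) * t - s * (t * s - s * t) =
      (s ^ 3 + a * s ^ 2 + b * s + c) - (t ^ 3 + a * t ^ 2 + b * t + c)
      - (s * (t ^ 2 + t * s + s ^ 2 + a * (t + s) + b) - (t ^ 2 + t * s + s ^ 2 + a * (t + s) + b) * t) := by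
    simp only [add_mul, mul_add, ← mul_assoc s a, ← ha s, ← hb s, ← mul_assoc]
    noncomm_ring
  rw [hQ, h0, ← e2, zero_mul, mul_zero, sub_zero, sub_zero, sub_eq_zero] at e1
  exact e1

include hA in
lemma inseparable_three [CharP K p] (hp : p = 3) : ∃ v : A, ¬ IsSeparable K v := by
  subst hp
  obtain ⟨θ, hθ⟩ : ∃ θ : A, θ ∉ (⊥ : Subalgebra K A) := by
    by_contra h
    simp only [not_exists, not_not] at h
    have : (⊥ : Subalgebra K A) = ⊤ := eq_top_iff.2 fun x _ => h x
    have := Subalgebra.bot_eq_top_iff_finrank_eq_one.1 this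
    omega
  haveI : CharP A 3 := charP_of_injective_algebraMap (algebraMap K A).injective 3
  obtain ⟨f, hf, hdeg, hev⟩ := exists_monic hA hθ
  set a := algebraMap K A (f.coeff 2) with ha'
  set b := algebraMap K A (f.coeff 1) with hb'
  set c := algebraMap K A (f.coeff 0) with hc'
  have h3 : f.coeff 3 = 1 := hdeg ▸ hf.coeff_natDegree
  have hq : θ ^ 3 + a * θ ^ 2 + b * θ + c = 0 := by
    rw [aeval_eq_sum_range, hdeg] at hev
    simp [Finset.sum_range_succ, Algebra.smul_def, h3] at hev
    rw [ha', hb', hc', ← hev]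
    abel
  have ha : ∀ z : A, a * z = z * a := fun z => Algebra.commutes _ z
  have hb : ∀ z : A, b * z = z * b := fun z => Algebra.commutes _ z
  have hc : ∀ z : A, c * z = z * c := fun z => Algebra.commutes _ z
  have three : (3 : A) = 0 := by simpa using CharP.cast_eq_zero A 3
  obtain ⟨y, hy⟩ := exists_not_commute (K := K) hθ
  have hy0 : y ≠ 0 := fun h => hy (by simp [h])
  set θ' := y * θ * y⁻¹ with hθ'
  have hq' : θ' ^ 3 + a * θ' ^ 2 + b * θ' + c = 0 := by
    have h1 : ∀ n : ℕ, θ' ^ n * y = y * θ ^ n := fun n => by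
      induction n with
      | zero => simp
      | succ n ih =>
        rw [pow_succ, mul_assoc, show θ' * y = y * θ by rw [hθ', inv_mul_cancel_right₀ hy0], ← mul_assoc,
          ih, mul_assoc, ← pow_succ]
    have h2 : (θ' ^ 3 + a * θ' ^ 2 + b * θ' + c) * y = y * (θ ^ 3 + a * θ ^ 2 + b * θ + c) := by
      simp only [mul_add, add_mul, mul_assoc, h1, show θ' * y = y * θ by simpa using h1 1]
      simp only [← mul_assoc, ha y, hb y, hc y]
    rw [hq, mul_zero] at h2
    exact (mul_eq_zero.1 h2).resolve_right hy0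
  have hd0 : θ' - θ ≠ 0 := fun h => by
    rw [sub_eq_zero, hθ'] at h
    apply hy
    calc θ * y = y * θ * y⁻¹ * y := by rw [h]
      _ = y * θ := inv_mul_cancel_right₀ hy0 _
  set d := θ' - θ with hd
  set s := d * θ' * d⁻¹ with hs'
  have hsd : s * d = d * θ' := inv_mul_cancel_right₀ hd0 _
  have hQ : θ ^ 2 + θ * s + s ^ 2 + a * (θ + s) + b = 0 := by
    have h2 : (θ ^ 2 + θ * s + s ^ 2 + a * (θ + s) + b) * d =
        (θ' ^ 3 + a * θ' ^ 2 + b * θ' + c) - (θ ^ 3 + a * θ ^ 2 + b * θ + c) := by
      simp only [add_mul, mul_add, mul_assoc, hsd, pow_two s]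
      rw [← mul_assoc s d θ', hsd, hd]
      simp only [mul_sub, sub_mul, ← mul_assoc]
      noncomm_ring
    rw [hq, hq', sub_zero] at h2
    exact (mul_eq_zero.1 h2).resolve_right hd0
  obtain ⟨hrot, hs⟩ := wedderburn_rotate ha hb hc hq hQ
  set r := -a - θ - s with hr
  have hQ' : s ^ 2 + s * r + r ^ 2 + a * (s + r) + b = 0 := by
    rw [← hQ, hr]
    simp only [mul_add, add_mul, mul_sub, sub_mul, pow_two, neg_mul, mul_neg, ← ha θ, ← ha s]
    noncomm_ring
  obtain ⟨hrot', hrt⟩ := wedderburn_rotate ha hb hc hs hQ'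
  have hQ'' : r ^ 2 + r * θ + θ ^ 2 + a * (r + θ) + b = 0 := by
    rw [← hQ, hr]
    simp only [mul_add, add_mul, mul_sub, sub_mul, pow_two, neg_mul, mul_neg, ← ha θ, ← ha s]
    noncomm_ring
  obtain ⟨hrot'', -⟩ := wedderburn_rotate ha hb hc hrt hQ''
  set e := θ * s - s * θ with he
  have e' : s * r - r * s = e := by
    rw [hr, he]
    simp only [mul_sub, sub_mul, mul_neg, neg_mul, ← ha s]
    noncomm_ring
  have e'' : r * θ - θ * r = e := by
    rw [hr, he]
    simp only [mul_sub, sub_mul, mul_neg, neg_mul, ← ha θ]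
    noncomm_ring
  rw [e'] at hrot'
  rw [e''] at hrot''
  by_cases he0 : e = 0
  · have hcomm : θ * s = s * θ := sub_eq_zero.1 he0
    by_cases hst : s = θ
    · -- `[y θ] ` lies in the centraliser of `θ`
      set u := d * y with hu
      have hud : u = y * θ - θ * y := by
        rw [hu, hd, sub_mul, hθ', inv_mul_cancel_right₀ hy0]
      have huθ : u * θ = θ * u := by
        have h := hsd
        rw [hst] at h
        calc u * θ = d * (y * θ) := by rw [hu, mul_assoc]
          _ = d * (θ' * y) := by rw [hθ', inv_mul_cancel_right₀ hy0]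
          _ = d * θ' * y := (mul_assoc _ _ _).symm
          _ = θ * d * y := by rw [h]
          _ = θ * u := by rw [hu, mul_assoc]
      have h1 : y * θ = θ * y + u := by rw [hud]; abel
      have h2 : y * θ ^ 2 = θ ^ 2 * y + 2 * (θ * u) := by
        rw [pow_two, ← mul_assoc, h1, add_mul, huθ, mul_assoc, h1, mul_add, ← mul_assoc]
        noncomm_ring
      have h4 : y * θ ^ 3 = θ ^ 3 * y := by
        calc y * θ ^ 3 = (y * θ ^ 2) * θ := by rw [mul_assoc, ← pow_succ]
          _ = θ ^ 2 * (y * θ) + 2 * (θ * (u * θ)) := by rw [h2, add_mul]; noncomm_ring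
          _ = θ ^ 3 * y + 3 * (θ ^ 2 * u) := by rw [h1, huθ]; noncomm_ring
          _ = θ ^ 3 * y := by rw [three, zero_mul, add_zero]
      refine ⟨θ, not_isSeparable_of_pow_mem 3 hθ (b := _) (Algebra.mem_bot.1 ?_).choose_spec.symm⟩
      exact mem_bot_of_commute hA hθ hy ((Commute.refl θ).pow_left 3) h4.symm
    · set u := d * y with hu
      have hu0 : u ≠ 0 := mul_ne_zero hd0 hy0
      have h1 : u * θ = s * u := by
        rw [hu, mul_assoc, show y * θ = θ' * y by rw [hθ', inv_mul_cancel_right₀ hy0], ← mul_assoc,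
          ← hsd, mul_assoc]
      have hne : θ * u ≠ u * θ := fun h => by
        rw [h1] at h
        exact hst (mul_right_cancel₀ hu0 h).symm
      set v := u * s * u⁻¹ with hv
      have hvu : v * u = u * s := inv_mul_cancel_right₀ hu0 _
      have hsθ : Commute s θ := hcomm.symm
      have hvs : Commute v s := by
        have : v * s * u = s * v * u := by
          rw [mul_assoc, ← h1, ← mul_assoc, hvu, mul_assoc, ← hcomm, ← mul_assoc, h1, mul_assoc s v, hvu,
            mul_assoc]
        exact mul_right_cancel₀ hu0 this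
      have hs_bot : s ∉ (⊥ : Subalgebra K A) := fun h => by
        obtain ⟨k, hk⟩ := Algebra.mem_bot.1 h
        rw [← hk, Algebra.commutes] at h1
        exact hθ (Algebra.mem_bot.2 ⟨k, (mul_left_cancel₀ hu0 h1).symm⟩)
      have hvθ : Commute v θ := by
        by_contra h
        exact hs_bot (mem_bot_of_commute hA hθ (x := v) (fun e => h e.symm) hsθ hvs.symm)
      have hvr : (v - θ) * (v - s) * (v - r) = 0 := by
        have hfv : (v ^ 3 + a * v ^ 2 + b * v + c) * u = u * (s ^ 3 + a * s ^ 2 + b * s + c) := by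
          have h1 : ∀ n : ℕ, v ^ n * u = u * s ^ n := fun n => by
            induction n with
            | zero => simp
            | succ n ih => rw [pow_succ, mul_assoc, hvu, ← mul_assoc, ih, mul_assoc, ← pow_succ]
          simp only [mul_add, add_mul, mul_assoc, h1, hvu]
          simp only [← mul_assoc, ha u, hb u, hc u]
        rw [hs, mul_zero] at hfv
        have hfv := (mul_eq_zero.1 hfv).resolve_right hu0
        have : (v - θ) * (v - s) * (v - r) = (v ^ 3 + a * v ^ 2 + b * v + c) -
            (θ ^ 3 + a * θ ^ 2 + b * θ + c) - (v - θ) * (θ ^ 2 + θ * s + s ^ 2 + a * (θ + s) + b) := by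
          have key : ∀ {R : Type _} [CommRing R] (v t s a b c : R),
              (v - t) * (v - s) * (v - (-a - t - s)) = (v ^ 3 + a * v ^ 2 + b * v + c) -
                (t ^ 3 + a * t ^ 2 + b * t + c) - (v - t) * (t ^ 2 + t * s + s ^ 2 + a * (t + s) + b) := by
            intros; ring
          have hS : ∀ x ∈ ({v, θ, s, a, b, c} : Set A), ∀ z ∈ ({v, θ, s, a, b, c} : Set A),
              x * z = z * x := by
            simp only [Set.mem_insert_iff, Set.mem_singleton_iff]
            rintro x (rfl | rfl | rfl | rfl | rfl | rfl) z (rfl | rfl | rfl | rfl | rfl | rfl)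
            all_goals first
              | rfl
              | exact ha _ | exact hb _ | exact hc _
              | exact (ha _).symm | exact (hb _).symm | exact (hc _).symm
              | exact hvθ | exact hvs | exact hsθ
              | exact hvθ.symm | exact hvs.symm | exact hsθ.symm
          letI := Subring.closureCommRingOfComm hS
          have hmem : ∀ x ∈ ({v, θ, s, a, b, c} : Set A), x ∈ Subring.closure ({v, θ, s, a, b, c} : Set A) :=
            fun x hx => Subring.subset_closure hx
          have := congrArg Subtype.val (key (⟨v, hmem v (by simp)⟩ : Subring.closure ({v, θ, s, a, b, c} : Set A))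
            ⟨θ, hmem θ (by simp)⟩ ⟨s, hmem s (by simp)⟩ ⟨a, hmem a (by simp)⟩ ⟨b, hmem b (by simp)⟩ ⟨c, hmem c (by simp)⟩)
          simpa [hr] using this
        rw [this, hfv, hq, hQ, mul_zero, sub_zero, sub_zero]
      rcases mul_eq_zero.1 hvr with h | h
      rcases mul_eq_zero.1 h with h | h
      · -- the swap: impossible
        exfalso
        rw [sub_eq_zero] at h
        rw [h] at hvu
        have hu_bot : u ∉ (⊥ : Subalgebra K A) := fun hm => by
          obtain ⟨k, hk⟩ := Algebra.mem_bot.1 hm
          rw [← hk] at hne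
          exact hne (Algebra.commutes _ _).symm
        refine sq_notMem hA (by norm_num) hu_bot (mem_bot_of_commute hA hθ hne ?_ ((Commute.refl u).pow_left 2))
        show u ^ 2 * θ = θ * u ^ 2
        rw [pow_two, mul_assoc, h1, ← mul_assoc, ← hvu, mul_assoc]
      · exfalso
        rw [sub_eq_zero] at h
        rw [h, ← h1] at hvu
        exact hst (mul_left_cancel₀ hu0 hvu).symm
      · rw [sub_eq_zero] at h
        rw [h] at hvu
        have h3 : u * r = θ * u := by
          rw [hr]
          simp only [mul_sub, sub_mul, mul_neg, neg_mul, ← hvu, h1, ← ha u]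
          rw [hr, sub_mul, sub_mul, neg_mul]
          abel
        refine inseparable_of_commute hA hθ hne ?_
        show u ^ 3 * θ = θ * u ^ 3
        calc u ^ 3 * θ = u * (u * (u * θ)) := by rw [pow_succ, pow_two]; simp only [mul_assoc]
          _ = u * (u * s * u) := by simp only [h1, mul_assoc]
          _ = u * r * (u * u) := by rw [← hvu]; simp only [mul_assoc]
          _ = θ * u ^ 3 := by rw [h3, pow_succ, pow_two]; simp only [mul_assoc]
  · refine inseparable_of_commute hA hθ (x := e) ?_ ?_
    · intro h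
      have hts : θ = s := mul_right_cancel₀ he0 (h.trans hrot)
      exact he0 (by rw [he, ← hts, sub_self])
    · show e ^ 3 * θ = θ * e ^ 3
      calc e ^ 3 * θ = e * (e * (e * θ)) := by rw [pow_succ, pow_two]; simp only [mul_assoc]
        _ = e * (e * s * e) := by simp only [hrot, mul_assoc]
        _ = e * r * (e * e) := by rw [hrot']; simp only [mul_assoc]
        _ = θ * e ^ 3 := by rw [hrot'', pow_succ, pow_two]; simp only [mul_assoc]

end Groth.Agent.Lead.CSADivision
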