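import Mathlib.RingTheory.HopfAlgebra.Convolution
import Mathlib.RingTheory.SimpleModule.Isotypic
import Mathlib.RingTheory.Trace.Basic
import Mathlib.LinearAlgebra.Trace
import Mathlib.LinearAlgebra.Charpoly.BaseChange
import Mathlib.LinearAlgebra.TensorProduct.Basis
import Mathlib.Algebra.CharZero.Defs
import Mathlib.Tactic.Abel

/-! A finite commutative Hopf algebra in characteristic zero is cosemisimple. -/

namespace Groth.Agent.Lead.Cosemisimple

open TensorProduct Coalgebra WithConv LinearMap HopfAlgebra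

variable {K : Type*} [Field K] {A : Type*} [CommRing A] [HopfAlgebra K A]

local notation "Δ" => (comul : A →ₗ[K] A ⊗[K] A)

/-- left inclusion -/
noncomputable def j₁ : A →ₐ[K] A ⊗[K] A := Algebra.TensorProduct.includeLeft
/-- right inclusion -/
noncomputable def j₂ : A →ₐ[K] A ⊗[K] A := Algebra.TensorProduct.includeRight
/-- the antipode as an algebra map -/
noncomputable def Sa : A →ₐ[K] A := antipodeAlgHom K A

/-- partial evaluation of the right factor -/
noncomputable def evR (φ : A →ₗ[K] K) : A ⊗[K] A →ₗ[K] A :=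
  (TensorProduct.rid K A).toLinearMap ∘ₗ lTensor A φ
/-- partial evaluation of the left factor -/
noncomputable def evL (φ : A →ₗ[K] K) : A ⊗[K] A →ₗ[K] A :=
  (TensorProduct.lid K A).toLinearMap ∘ₗ rTensor A φ

@[simp] lemma evR_tmul (φ : A →ₗ[K] K) (x y : A) : evR φ (x ⊗ₜ y) = φ y • x := by simp [evR]
@[simp] lemma evL_tmul (φ : A →ₗ[K] K) (x y : A) : evL φ (x ⊗ₜ y) = φ x • y := by simp [evL]

/-- left hit operators -/
noncomputable def Lh (φ : A →ₗ[K] K) : Module.End K A := evR φ ∘ₗ Δ
/-- right hit operators -/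
noncomputable def Rh (φ : A →ₗ[K] K) : Module.End K A := evL φ ∘ₗ Δ

lemma conv_j₁_j₂ (f : A →ₗ[K] A) (g : A →ₗ[K] A) (a : A) :
    (toConv (j₁.toLinearMap ∘ₗ f) * toConv (j₂.toLinearMap ∘ₗ g) :
      WithConv (A →ₗ[K] A ⊗[K] A)) a = TensorProduct.map f g (Δ a) := by
  rw [(ℛ K a).convMul_apply, ← (ℛ K a).eq, map_sum]
  simp [j₁, j₂]

lemma comul_eq : toConv Δ = toConv j₁.toLinearMap * toConv j₂.toLinearMap := by
  apply WithConv.ext
  refine LinearMap.ext fun a => ?_
  have := conv_j₁_j₂ (LinearMap.id : A →ₗ[K] A) LinearMap.id a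
  simp at this
  exact this.symm

lemma comulAlgHom_eq : toConv (Bialgebra.comulAlgHom K A) = toConv j₁ * toConv j₂ := by
  apply WithConv.ofConv_injective
  apply AlgHom.toLinearMap_injective
  apply WithConv.toConv_injective
  rw [AlgHom.toLinearMap_convMul]
  exact comul_eq

lemma quad {M : Type*} [Monoid M] {a b c d : M} (h1 : b * c = 1) (h2 : a * d = 1) :
    a * b * (c * d) = 1 := by
  rw [mul_assoc, ← mul_assoc b, h1, one_mul, h2]

lemma conv_inv {B : Type*} [CommRing B] [Algebra K B] (h : A →ₐ[K] B) :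
    toConv h * toConv (h.comp Sa) = 1 := by
  have e : toConv (AlgHom.id K A) * toConv (Sa (K := K) (A := A)) = 1 := by
    apply WithConv.ofConv_injective
    apply AlgHom.toLinearMap_injective
    apply WithConv.toConv_injective
    rw [AlgHom.toLinearMap_convMul, AlgHom.toLinearMap_convOne]
    exact LinearMap.id_mul_antipode
  have := AlgHom.comp_convMul_distrib h (toConv (AlgHom.id K A)) (toConv Sa)
  rw [e] at this
  apply WithConv.ofConv_injective
  simp only [ofConv_toConv, AlgHom.comp_id] at this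
  rw [← this]
  ext a
  simp [AlgHom.convOne_apply]

lemma conv_inv' {B : Type*} [CommRing B] [Algebra K B] (h : A →ₐ[K] B) :
    toConv (h.comp Sa) * toConv h = 1 := by
  have := AlgHom.comp_convMul_distrib h (toConv (Sa (K := K) (A := A))) (toConv (AlgHom.id K A))
  rw [show toConv (Sa (K := K) (A := A)) * toConv (AlgHom.id K A) = 1 from AlgHom.antipode_id_cancel] at this
  apply WithConv.ofConv_injective
  simp only [ofConv_toConv, AlgHom.comp_id] at this
  rw [← this]
  ext a
  simp [AlgHom.convOne_apply]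

/-- the Galois map `x ⊗ y ↦ (x ⊗ 1) Δ y` -/
noncomputable def τhom : A ⊗[K] A →ₐ[A] A ⊗[K] A :=
  Algebra.TensorProduct.lift (Algebra.ofId A (A ⊗[K] A)) (Bialgebra.comulAlgHom K A)
    fun _ _ => Commute.all _ _

/-- its inverse -/
noncomputable def τinv : A ⊗[K] A →ₐ[A] A ⊗[K] A :=
  Algebra.TensorProduct.lift (Algebra.ofId A (A ⊗[K] A))
    ((Algebra.TensorProduct.map Sa (AlgHom.id K A)).comp (Bialgebra.comulAlgHom K A))
    fun _ _ => Commute.all _ _

lemma mapS_eq : toConv ((Algebra.TensorProduct.map Sa (AlgHom.id K A)).comp (Bialgebra.comulAlgHom K A))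
    = toConv (j₁.comp Sa) * toConv j₂ := by
  have h := AlgHom.comp_convMul_distrib (Algebra.TensorProduct.map Sa (AlgHom.id K A)) (toConv j₁) (toConv j₂)
  rw [← comulAlgHom_eq] at h
  have e₁ : (Algebra.TensorProduct.map Sa (AlgHom.id K A)).comp (j₁ (K := K) (A := A)) = j₁.comp Sa := by
    ext x; simp [j₁]
  have e₂ : (Algebra.TensorProduct.map Sa (AlgHom.id K A)).comp (j₂ (K := K) (A := A)) = j₂ := by
    ext x; simp [j₂]
  simp only [ofConv_toConv, e₁, e₂] at h
  rw [h]

lemma τhom_comp_j₁ : (τhom.restrictScalars K).comp (j₁ (K := K) (A := A)) = j₁ := by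
  ext x; simp [τhom, j₁]

lemma τinv_comp_j₁ : (τinv.restrictScalars K).comp (j₁ (K := K) (A := A)) = j₁ := by
  ext x; simp [τinv, j₁]

lemma τhom_comp_j₂ : (τhom.restrictScalars K).comp (j₂ (K := K) (A := A)) = Bialgebra.comulAlgHom K A := by
  ext x; simp [τhom, j₂]

lemma τinv_comp_j₂ : (τinv.restrictScalars K).comp (j₂ (K := K) (A := A)) =
    (Algebra.TensorProduct.map Sa (AlgHom.id K A)).comp (Bialgebra.comulAlgHom K A) := by
  ext x; simp [τinv, j₂]

/-- the Galois isomorphism -/
noncomputable def τ : A ⊗[K] A ≃ₐ[A] A ⊗[K] A :=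
  AlgEquiv.ofAlgHom τhom τinv
    (by
      refine Algebra.TensorProduct.ext (Subsingleton.elim _ _) ?_
      have key : toConv (((τhom.restrictScalars K).comp (τinv.restrictScalars K)).comp j₂) = toConv (j₂ (K := K) (A := A)) := by
        rw [AlgHom.comp_assoc, τinv_comp_j₂,
          show (Algebra.TensorProduct.map Sa (AlgHom.id K A)).comp (Bialgebra.comulAlgHom K A) =
            (toConv (j₁.comp Sa) * toConv j₂).ofConv from congrArg WithConv.ofConv mapS_eq,
          AlgHom.comp_convMul_distrib]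
        simp only [ofConv_toConv, ← AlgHom.comp_assoc, τhom_comp_j₁, τhom_comp_j₂, toConv_ofConv]
        rw [comulAlgHom_eq, ← mul_assoc, conv_inv', one_mul]
      exact congrArg WithConv.ofConv key)
    (by
      refine Algebra.TensorProduct.ext (Subsingleton.elim _ _) ?_
      have key : toConv (((τinv.restrictScalars K).comp (τhom.restrictScalars K)).comp j₂) = toConv (j₂ (K := K) (A := A)) := by
        rw [AlgHom.comp_assoc, τhom_comp_j₂,
          show Bialgebra.comulAlgHom K A = (toConv j₁ * toConv j₂).ofConv from congrArg WithConv.ofConv comulAlgHom_eq,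
          AlgHom.comp_convMul_distrib]
        simp only [ofConv_toConv, τinv_comp_j₁, τinv_comp_j₂, toConv_ofConv]
        rw [mapS_eq, ← mul_assoc, conv_inv, one_mul]
      exact congrArg WithConv.ofConv key)

variable [Module.Finite K A] [CharZero K]

/-- normalised trace -/
noncomputable def lam : A →ₗ[K] K :=
  (Module.finrank K A : K)⁻¹ • Algebra.trace K A

omit [Module.Finite K A] [CharZero K] in
include K in
lemma nontrivial' : Nontrivial A := by
  refine ⟨⟨0, 1, fun h => ?_⟩⟩
  have := congrArg (counit (R := K)) h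
  simp at this

lemma lam_one : lam (K := K) (1 : A) = 1 := by
  haveI := nontrivial' (K := K) (A := A)
  rw [lam, LinearMap.smul_apply, ← map_one (algebraMap K A), Algebra.trace_algebraMap]
  simp only [nsmul_eq_mul, mul_one, smul_eq_mul]
  exact inv_mul_cancel₀ (Nat.cast_ne_zero.2 Module.finrank_pos.ne')

omit [CharZero K] in
lemma trace_tensor (x y : A) : Algebra.trace A (A ⊗[K] A) (x ⊗ₜ y) = Algebra.trace K A y • x := by
  have h : Algebra.lmul A (A ⊗[K] A) (x ⊗ₜ y) = x • ((Algebra.lmul K A y).baseChange A) := by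
    refine TensorProduct.AlgebraTensorModule.ext fun a c => ?_
    simp [TensorProduct.smul_tmul', smul_eq_mul]
  rw [Algebra.trace_apply, Algebra.trace_apply]
  erw [h]
  rw [map_smul, LinearMap.trace_baseChange]
  simp [Algebra.smul_def, mul_comm]

lemma evR_lam (f : A) : evR (lam (K := K)) (Δ f) = lam (K := K) f • (1 : A) := by
  have h1 : ∀ z : A ⊗[K] A, evR (lam (K := K)) z = (Module.finrank K A : K)⁻¹ • Algebra.trace A (A ⊗[K] A) z := by
    intro z
    induction z using TensorProduct.induction_on with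
    | zero => simp
    | tmul x y => rw [evR_tmul, trace_tensor, lam, LinearMap.smul_apply, smul_assoc]
    | add a b ha hb => rw [map_add, map_add, ha, hb, smul_add]
  have h2 := Algebra.trace_eq_of_algEquiv (τ (K := K) (A := A)) ((1 : A) ⊗ₜ[K] f)
  have h3 : τ (K := K) (A := A) ((1 : A) ⊗ₜ[K] f) = Δ f := by
    simp [τ, τhom, ← Algebra.TensorProduct.one_def]
  rw [h3, trace_tensor] at h2
  rw [h1, h2, lam, LinearMap.smul_apply, smul_assoc]

/-- `A → A ⊗ (A ⊗ A)` maps -/
noncomputable def Θ₁ : A ⊗[K] A →ₐ[K] A ⊗[K] (A ⊗[K] A) :=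
  (Algebra.TensorProduct.assoc K K K A A A).toAlgHom.comp
    (Algebra.TensorProduct.map (Bialgebra.comulAlgHom K A) (AlgHom.id K A))
/-- coassociated twin -/
noncomputable def Θ₂ : A ⊗[K] A →ₐ[K] A ⊗[K] (A ⊗[K] A) :=
  Algebra.TensorProduct.map (AlgHom.id K A) (Bialgebra.comulAlgHom K A)
/-- middle embedding -/
noncomputable def ι₁₂ : A ⊗[K] A →ₐ[K] A ⊗[K] (A ⊗[K] A) :=
  Algebra.TensorProduct.map (AlgHom.id K A) j₁

omit [Module.Finite K A] [CharZero K] in
lemma Θ_comul (a : A) : Θ₁ (Δ a) = Θ₂ (Δ a) := by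
  have h := coassoc_apply (R := K) a
  simp only [Θ₁, Θ₂]
  rw [← (ℛ K a).eq] at h ⊢
  simp at h ⊢
  exact h

/-- projection averaged over the Haar functional -/
noncomputable def avg (π : A →ₗ[K] A) : A →ₗ[K] A :=
  evR (lam (K := K)) ∘ₗ (toConv (Δ ∘ₗ π) * toConv (j₂.toLinearMap ∘ₗ Sa.toLinearMap) :
    WithConv (A →ₗ[K] A ⊗[K] A)).ofConv

lemma avg_equivariant (π : A →ₗ[K] A) (a : A) :
    Δ (avg π a) = TensorProduct.map (avg π) LinearMap.id (Δ a) := by
  rw [← conv_j₁_j₂ (avg π) LinearMap.id a]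
  simp only [LinearMap.comp_id]
  suffices h : toConv (Δ ∘ₗ avg π) = toConv (j₁.toLinearMap ∘ₗ avg π) * toConv j₂.toLinearMap from
    congrArg (fun F : WithConv (A →ₗ[K] A ⊗[K] A) => F a) h
  set s : WithConv (A →ₗ[K] A ⊗[K] A) := toConv (j₂.toLinearMap ∘ₗ Sa.toLinearMap) with hs
  have hinv : s * toConv (j₂ (K := K) (A := A)).toLinearMap = 1 := by
    have := congrArg (fun F : WithConv (A →ₐ[K] A ⊗[K] A) => toConv F.ofConv.toLinearMap)
      (conv_inv' (K := K) (A := A) j₂)
    simpa only [AlgHom.toLinearMap_convMul, AlgHom.toLinearMap_convOne, AlgHom.comp_toLinearMap, ofConv_toConv] using this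
  suffices h : toConv (Δ ∘ₗ avg π) * s = toConv (j₁.toLinearMap ∘ₗ avg π) by
    rw [← h, mul_assoc, hinv, mul_one]
  set F : WithConv (A →ₗ[K] A ⊗[K] A) := toConv (Δ ∘ₗ π) * s with hF
  have havg : avg π = evR (lam (K := K)) ∘ₗ F.ofConv := rfl
  set L3 : A ⊗[K] (A ⊗[K] A) →ₗ[K] A ⊗[K] A := lTensor A (evR (lam (K := K))) with hL3
  have hL : ∀ z w, L3 (z * ι₁₂ w) = L3 z * w := by
    intro z w
    induction z using TensorProduct.induction_on with
    | zero => simp
    | add z z' hz hz' => simp only [add_mul, map_add, hz, hz']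
    | tmul x yz =>
      induction yz using TensorProduct.induction_on with
      | zero => simp
      | add y y' hy hy' => simp only [TensorProduct.tmul_add, add_mul, map_add, hy, hy']
      | tmul y z =>
        induction w using TensorProduct.induction_on with
        | zero => simp
        | add w w' hw hw' => simp only [map_add, mul_add, hw, hw']
        | tmul u v => simp [hL3, ι₁₂, j₁, TensorProduct.smul_tmul']
  have hΘ₁ : ∀ z, Δ (evR (lam (K := K)) z) = L3 (Θ₁ z) := by
    intro z
    induction z using TensorProduct.induction_on with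
    | zero => simp
    | add z z' hz hz' => simp only [map_add, hz, hz']
    | tmul x y =>
      rw [evR_tmul, map_smul, ← (ℛ K x).eq]
      simp [Θ₁, hL3, ← (ℛ K x).eq, TensorProduct.sum_tmul, Finset.smul_sum]
  have hΘ₂ : ∀ z, L3 (Θ₂ z) = j₁ (evR (lam (K := K)) z) := by
    intro z
    induction z using TensorProduct.induction_on with
    | zero => simp
    | add z z' hz hz' => simp only [map_add, hz, hz']
    | tmul x y => simp [Θ₂, hL3, j₁, evR_lam, TensorProduct.smul_tmul']
  have hconvL : toConv (Δ ∘ₗ avg π) * s = toConv (L3 ∘ₗ (toConv ((Θ₁ (K := K) (A := A)).toLinearMap ∘ₗ F.ofConv) *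
      toConv ((ι₁₂ (K := K) (A := A)).toLinearMap ∘ₗ s.ofConv) : WithConv (A →ₗ[K] A ⊗[K] (A ⊗[K] A))).ofConv) := by
    apply WithConv.ext
    refine LinearMap.ext fun c => ?_
    show (toConv (Δ ∘ₗ avg π) * s) c = L3 ((toConv ((Θ₁ (K := K) (A := A)).toLinearMap ∘ₗ F.ofConv) *
      toConv ((ι₁₂ (K := K) (A := A)).toLinearMap ∘ₗ s.ofConv) : WithConv (A →ₗ[K] A ⊗[K] (A ⊗[K] A))) c)
    rw [(ℛ K c).convMul_apply, (ℛ K c).convMul_apply, map_sum]
    refine Finset.sum_congr rfl fun i _ => ?_
    simp only [havg, WithConv.ofConv_toConv, LinearMap.comp_apply, AlgHom.toLinearMap_apply, hL, hΘ₁]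
  have hmid : toConv ((Θ₁ (K := K) (A := A)).toLinearMap ∘ₗ s.ofConv) * toConv ((ι₁₂ (K := K) (A := A)).toLinearMap ∘ₗ s.ofConv) =
      toConv ((Θ₂ (K := K) (A := A)).toLinearMap ∘ₗ s.ofConv) := by
    have h : toConv ((Θ₁ (K := K) (A := A)).comp (j₂.comp Sa)) * toConv ((ι₁₂ (K := K) (A := A)).comp (j₂.comp Sa)) =
        toConv ((Θ₂ (K := K) (A := A)).comp (j₂.comp (Sa (K := K) (A := A)))) := by
      have e1 : (Θ₁ (K := K) (A := A)).comp (j₂ (K := K) (A := A)) =
          (Algebra.TensorProduct.includeRight : A ⊗[K] A →ₐ[K] A ⊗[K] (A ⊗[K] A)).comp j₂ := by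
        ext x; simp [Θ₁, j₂, Algebra.TensorProduct.one_def]
      have e2 : (ι₁₂ (K := K) (A := A)).comp (j₂ (K := K) (A := A)) =
          (Algebra.TensorProduct.includeRight : A ⊗[K] A →ₐ[K] A ⊗[K] (A ⊗[K] A)).comp j₁ := by
        ext x; simp [ι₁₂, j₁, j₂]
      have e3 : (Θ₂ (K := K) (A := A)).comp (j₂ (K := K) (A := A)) =
          (Algebra.TensorProduct.includeRight : A ⊗[K] A →ₐ[K] A ⊗[K] (A ⊗[K] A)).comp (Bialgebra.comulAlgHom K A) := by
        ext x; simp [Θ₂, j₂]
      have ec : (Θ₂ (K := K) (A := A)).comp (j₂ (K := K) (A := A)) = (toConv ((ι₁₂ (K := K) (A := A)).comp j₂) *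
          toConv ((Θ₁ (K := K) (A := A)).comp j₂)).ofConv := by
        rw [e1, e2, e3, show Bialgebra.comulAlgHom K A = (toConv j₁ * toConv j₂).ofConv from congrArg WithConv.ofConv comulAlgHom_eq,
          AlgHom.comp_convMul_distrib]
      simp only [← AlgHom.comp_assoc]
      have ec' : toConv ((Θ₂ (K := K) (A := A)).comp (j₂ (K := K) (A := A))) = toConv ((ι₁₂ (K := K) (A := A)).comp j₂) *
          toConv ((Θ₁ (K := K) (A := A)).comp j₂) := by rw [ec, toConv_ofConv]
      refine left_inv_eq_right_inv (a := toConv ((Θ₂ (K := K) (A := A)).comp (j₂ (K := K) (A := A)))) ?_ (conv_inv _)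
      rw [ec']
      exact quad (conv_inv' _) (conv_inv' _)
    have := congrArg (fun F : WithConv (A →ₐ[K] A ⊗[K] (A ⊗[K] A)) => toConv F.ofConv.toLinearMap) h
    simpa only [AlgHom.toLinearMap_convMul, AlgHom.comp_toLinearMap, ofConv_toConv, LinearMap.comp_assoc, hs] using this
  rw [hconvL, hF, LinearMap.algHom_comp_convMul_distrib]
  simp only [toConv_ofConv]
  rw [mul_assoc, hmid]
  have hΘΔ : (Θ₁ (K := K) (A := A)).toLinearMap ∘ₗ (toConv (Δ ∘ₗ π)).ofConv = (Θ₂ (K := K) (A := A)).toLinearMap ∘ₗ (toConv (Δ ∘ₗ π)).ofConv :=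
    LinearMap.ext fun x => Θ_comul (π x)
  rw [hΘΔ, show toConv ((Θ₂ (K := K) (A := A)).toLinearMap ∘ₗ (toConv (Δ ∘ₗ π)).ofConv) * toConv ((Θ₂ (K := K) (A := A)).toLinearMap ∘ₗ s.ofConv) =
      toConv ((Θ₂ (K := K) (A := A)).toLinearMap ∘ₗ F.ofConv) by
    rw [hF, LinearMap.algHom_comp_convMul_distrib, toConv_ofConv]]
  apply WithConv.ext
  refine LinearMap.ext fun c => ?_
  simp only [ofConv_toConv, LinearMap.comp_apply, AlgHom.toLinearMap_apply, hΘ₂, havg]

omit [Module.Finite K A] [CharZero K] in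
/-- operators detect membership -/
lemma map_fix_right [Module.Finite K A] (π : A →ₗ[K] A) (b : A) (h : ∀ φ : A →ₗ[K] K, π (Lh φ b) = Lh φ b) :
    TensorProduct.map π LinearMap.id (Δ b) = Δ b := by
  let e := Module.finBasis K A
  apply ((TensorProduct.equivFinsuppOfBasisRight e (M := A))).injective
  ext i
  have h2 : ∀ z : A ⊗[K] A, TensorProduct.equivFinsuppOfBasisRight e z i = evR (e.coord i) z := by
    intro z
    induction z using TensorProduct.induction_on with
    | zero => simp
    | add z z' hz hz' => simp [map_add, hz, hz']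
    | tmul x y => simp
  rw [h2, h2]
  have h3 : ∀ z, evR (e.coord i) (TensorProduct.map π LinearMap.id z) = π (evR (e.coord i) z) := by
    intro z
    induction z using TensorProduct.induction_on with
    | zero => simp
    | add z z' hz hz' => simp [map_add, hz, hz']
    | tmul x y => simp
  rw [h3]; exact h _

omit [Module.Finite K A] [CharZero K] in
/-- operators detect membership -/
lemma map_fix_left [Module.Finite K A] (π : A →ₗ[K] A) (b : A) (h : ∀ φ : A →ₗ[K] K, π (Rh φ b) = Rh φ b) :
    TensorProduct.map LinearMap.id π (Δ b) = Δ b := by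
  let e := Module.finBasis K A
  apply ((TensorProduct.equivFinsuppOfBasisLeft e (N := A))).injective
  ext i
  have h2 : ∀ z : A ⊗[K] A, TensorProduct.equivFinsuppOfBasisLeft e z i = evL (e.coord i) z := by
    intro z
    induction z using TensorProduct.induction_on with
    | zero => simp
    | add z z' hz hz' => simp [map_add, hz, hz']
    | tmul x y => simp
  rw [h2, h2]
  have h3 : ∀ z, evL (e.coord i) (TensorProduct.map LinearMap.id π z) = π (evL (e.coord i) z) := by
    intro z
    induction z using TensorProduct.induction_on with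
    | zero => simp
    | add z z' hz hz' => simp [map_add, hz, hz']
    | tmul x y => simp
  rw [h3]; exact h _

omit [Module.Finite K A] [CharZero K] in
lemma Rh_comm (φ ψ : A →ₗ[K] K) (a : A) : Rh φ (Lh ψ a) = Lh ψ (Rh φ a) := by
  set F : A ⊗[K] (A ⊗[K] A) →ₗ[K] A := (TensorProduct.lid K A).toLinearMap ∘ₗ TensorProduct.map φ (evR ψ)
  have h1 : ∀ z : A ⊗[K] A, evL φ (Δ (evR ψ z)) = F (Θ₁ z) := by
    intro z
    induction z using TensorProduct.induction_on with
    | zero => simp
    | add z z' hz hz' => simp only [map_add, hz, hz']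
    | tmul x y =>
      rw [evR_tmul, map_smul, map_smul, ← (ℛ K x).eq]
      simp [Θ₁, F, ← (ℛ K x).eq, TensorProduct.sum_tmul, Finset.smul_sum, smul_comm (ψ y)]
  have h2 : ∀ z : A ⊗[K] A, evR ψ (Δ (evL φ z)) = F (Θ₂ z) := by
    intro z
    induction z using TensorProduct.induction_on with
    | zero => simp
    | add z z' hz hz' => simp only [map_add, hz, hz']
    | tmul x y =>
      rw [evL_tmul, map_smul, map_smul]
      simp [Θ₂, F]
  show evL φ (Δ (evR ψ (Δ a))) = evR ψ (Δ (evL φ (Δ a)))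
  rw [h1, h2, Θ_comul]

variable (K A) in
/-- the algebra of hit operators -/
noncomputable abbrev E : Subalgebra K (Module.End K A) := Algebra.adjoin K (Set.range (Lh (K := K) (A := A)))

omit [Module.Finite K A] [CharZero K] in
lemma comm_of_gen {f : A →ₗ[K] A} (h : ∀ (φ : A →ₗ[K] K) (a : A), f (Lh φ a) = Lh φ (f a)) {x : Module.End K A}
    (hx : x ∈ E K A) : ∀ a, f (x a) = x (f a) := by
  induction hx using Algebra.adjoin_induction with
  | mem y hy => obtain ⟨φ, rfl⟩ := hy; exact h φ
  | algebraMap r => intro a; simp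
  | add y z _ _ hy hz => intro a; simp [hy, hz]
  | mul y z _ _ hy hz => intro a; simp [hy, hz]

/-- a linear map commuting with the generators is linear over the hit algebra -/
noncomputable def endOfComm (f : A →ₗ[K] A) (h : ∀ (φ : A →ₗ[K] K) (a : A), f (Lh φ a) = Lh φ (f a)) : Module.End (E K A) A :=
  { toFun := f
    map_add' := map_add f
    map_smul' := fun x a => comm_of_gen h x.2 a }

omit [CharZero K] in
lemma Lh_equivariant (f : A →ₗ[K] A) (h : ∀ a, Δ (f a) = TensorProduct.map f LinearMap.id (Δ a))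
    (φ : A →ₗ[K] K) (a : A) : f (Lh φ a) = Lh φ (f a) := by
  show f (evR φ (Δ a)) = evR φ (Δ (f a))
  rw [h]
  induction Δ a using TensorProduct.induction_on with
  | zero => simp
  | add z z' hz hz' => simp only [map_add, hz, hz']
  | tmul x y => simp

theorem semisimple : IsSemisimpleModule (E K A) A := by
  refine (isSemisimpleModule_iff (E K A) A).2 ⟨fun W => ?_⟩
  set D : Submodule K A := W.restrictScalars K
  obtain ⟨C, hC⟩ := Submodule.exists_isCompl D
  set π : A →ₗ[K] A := D.subtype ∘ₗ D.projectionOnto C hC with hπ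
  have hπD : ∀ x, π x ∈ W := fun x => (D.projectionOnto C hC x).2
  have hfix : ∀ d ∈ W, π d = d := fun d hd => by
    have := Submodule.projectionOnto_apply_left hC (⟨d, hd⟩ : D)
    simp [hπ, this]
  set f : Module.End (E K A) A := endOfComm (avg π) (Lh_equivariant _ (avg_equivariant π)) with hf
  have hL : ∀ φ, ∀ d ∈ W, Lh φ d ∈ W := fun φ d hd =>
    W.smul_mem ⟨Lh φ, Algebra.subset_adjoin ⟨φ, rfl⟩⟩ hd
  have hrange : ∀ x, f x ∈ W := by
    intro x
    show evR (lam (K := K)) ((toConv (Δ ∘ₗ π) * toConv (j₂.toLinearMap ∘ₗ Sa.toLinearMap) :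
      WithConv (A →ₗ[K] A ⊗[K] A)) x) ∈ W
    rw [(ℛ K x).convMul_apply, map_sum]
    refine W.sum_mem fun i _ => ?_
    set y := (toConv (j₂.toLinearMap ∘ₗ Sa.toLinearMap) : WithConv (A →ₗ[K] A ⊗[K] A)) ((ℛ K x).right i)
    have : ∀ (z : A ⊗[K] A) (u : A), evR (lam (K := K)) (z * (1 : A) ⊗ₜ[K] u) =
        evR (lam (K := K) ∘ₗ LinearMap.mulRight K u) z := by
      intro z u
      induction z using TensorProduct.induction_on with
      | zero => simp
      | add z z' hz hz' => simp only [add_mul, map_add, hz, hz']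
      | tmul a b => simp
    show evR (lam (K := K)) (Δ (π ((ℛ K x).left i)) * (1 : A) ⊗ₜ[K] (Sa ((ℛ K x).right i))) ∈ W
    rw [this]
    exact hL _ _ (hπD _)
  have hid : ∀ d ∈ W, f d = d := by
    intro d hd
    show evR (lam (K := K)) ((toConv (Δ ∘ₗ π) * toConv (j₂.toLinearMap ∘ₗ Sa.toLinearMap) :
      WithConv (A →ₗ[K] A ⊗[K] A)) d) = d
    have h1 : (toConv (Δ ∘ₗ π) * toConv (j₂.toLinearMap ∘ₗ Sa.toLinearMap) :
        WithConv (A →ₗ[K] A ⊗[K] A)) d = (toConv Δ * toConv (j₂.toLinearMap ∘ₗ Sa.toLinearMap) :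
        WithConv (A →ₗ[K] A ⊗[K] A)) d := by
      simp only [LinearMap.convMul_apply, ofConv_toConv]
      conv_lhs => rw [show TensorProduct.map (Δ ∘ₗ π) (j₂.toLinearMap ∘ₗ Sa.toLinearMap) =
        TensorProduct.map Δ (j₂.toLinearMap ∘ₗ Sa.toLinearMap) ∘ₗ TensorProduct.map π LinearMap.id by
          rw [← TensorProduct.map_comp]; rfl, LinearMap.comp_apply,
        map_fix_right π d fun φ => hfix _ (hL φ d hd)]
    rw [h1]
    have h2 : toConv Δ * toConv (j₂.toLinearMap ∘ₗ Sa.toLinearMap) =
        toConv (j₁ (K := K) (A := A)).toLinearMap := by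
      have h : toConv (Bialgebra.comulAlgHom K A) * toConv (j₂.comp Sa) = toConv (j₁ (K := K) (A := A)) := by
        rw [comulAlgHom_eq, mul_assoc, conv_inv, mul_one]
      have := congrArg (fun F : WithConv (A →ₐ[K] A ⊗[K] A) => toConv F.ofConv.toLinearMap) h
      simp only [AlgHom.toLinearMap_convMul, ofConv_toConv, AlgHom.comp_toLinearMap] at this
      exact this
    rw [h2]
    simp [j₁, lam_one]
  have hp : ∀ x : W, LinearMap.codRestrict W f hrange x = x := fun x => Subtype.ext (hid x x.2)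
  have h := LinearMap.isCompl_of_proj (R := E K A) (E := A) (p := W) (f := LinearMap.codRestrict W f hrange) hp
  rw [LinearMap.ker_codRestrict] at h
  exact ⟨_, h⟩

omit [Module.Finite K A] [CharZero K] in
/-- `E`-endomorphisms are right hits -/
lemma end_eq (f : Module.End (E K A) A) (a : A) :
    f a = Rh ((counit (R := K) (A := A)) ∘ₗ f.restrictScalars K) a := by
  have hf : ∀ φ x, f (Lh φ x) = Lh φ (f x) := fun φ x =>
    f.map_smul ⟨Lh φ, Algebra.subset_adjoin ⟨φ, rfl⟩⟩ x
  set g : A →ₗ[K] A := f.restrictScalars K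
  -- compare the coefficients
  apply Module.Basis.ext_elem (Module.Free.chooseBasis K A)
  intro i
  set ψ : A →ₗ[K] K := (Module.Free.chooseBasis K A).coord i
  show ψ (f a) = ψ (evL (counit ∘ₗ g) (Δ a))
  have h2 : ∀ z, ψ (evL (counit ∘ₗ g) z) = counit (R := K) (g (evR ψ z)) := by
    intro z
    induction z using TensorProduct.induction_on with
    | zero => simp
    | add z z' hz hz' => simp only [map_add, hz, hz']
    | tmul x y => simp [mul_comm]
  rw [h2]
  show ψ (f a) = counit (R := K) (f (Lh ψ a))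
  rw [hf]
  show ψ (f a) = counit (R := K) (evR ψ (Δ (f a)))
  have h3 : ∀ z : A ⊗[K] A, counit (R := K) (evR ψ z) = ψ (evL (counit (R := K)) z) := by
    intro z
    induction z using TensorProduct.induction_on with
    | zero => simp
    | add z z' hz hz' => simp only [map_add, hz, hz']
    | tmul x y => simp [mul_comm]
  rw [h3, evL, LinearMap.comp_apply, rTensor_counit_comul]
  simp

theorem exists_decomposition :
    ∃ (D : isotypicComponents (E K A) A → Submodule K A), iSupIndep D ∧ iSup D = ⊤ ∧ ∀ i,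
      D i ≠ ⊥ ∧ (∀ b ∈ (D i), Δ b ∈ LinearMap.range (TensorProduct.map (D i).subtype (D i).subtype)) ∧
      ∀ B : Submodule K A, B ≤ D i →
        (∀ b ∈ B, Δ b ∈ LinearMap.range (TensorProduct.map B.subtype B.subtype)) → B = ⊥ ∨ B = D i := by
  haveI := semisimple (K := K) (A := A)
  refine ⟨fun c => c.1.restrictScalars K, ?_, ?_, fun c => ⟨?_, ?_, ?_⟩⟩
  · have h : iSupIndep (fun c : isotypicComponents (E K A) A => c.1) :=
      (sSupIndep_iff (isotypicComponents (E K A) A)).1 (sSupIndep_isotypicComponents (E K A) A)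
    intro c
    have := h c
    refine Submodule.disjoint_def.2 fun x hx hx' => Submodule.disjoint_def.1 this x hx ?_
    simp only [← Submodule.restrictScalars_iSup] at hx'
    exact hx'
  · rw [← Submodule.restrictScalars_iSup, ← sSup_eq_iSup', sSup_isotypicComponents, Submodule.restrictScalars_top]
  · rw [Ne, Submodule.restrictScalars_eq_bot_iff]
    exact (bot_lt_isotypicComponents c.2).ne'
  · intro b hb
    set D : Submodule K A := c.1.restrictScalars K with hD
    obtain ⟨C, hC⟩ := Submodule.exists_isCompl D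
    set p := D.projectionOnto C hC
    have hfix : ∀ d ∈ D, (D.subtype ∘ₗ p) d = d := fun d hd => by
      have := Submodule.projectionOnto_apply_left hC (⟨d, hd⟩ : D)
      simp [p, this]
    have hR : ∀ φ, Rh φ b ∈ D := fun φ =>
      (Submodule.IsFullyInvariant.of_mem_isotypicComponents c.2)
        (endOfComm (Rh φ) (fun ψ x => Rh_comm φ ψ x)) hb
    have hL : ∀ φ, Lh φ b ∈ D := fun φ => c.1.smul_mem ⟨Lh φ, Algebra.subset_adjoin ⟨φ, rfl⟩⟩ hb
    refine ⟨TensorProduct.map p p (Δ b), ?_⟩
    rw [← LinearMap.comp_apply, ← TensorProduct.map_comp]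
    conv_lhs => rw [show TensorProduct.map (D.subtype ∘ₗ p) (D.subtype ∘ₗ p) =
      TensorProduct.map (D.subtype ∘ₗ p) LinearMap.id ∘ₗ TensorProduct.map LinearMap.id (D.subtype ∘ₗ p) by
        rw [← TensorProduct.map_comp]; rfl, LinearMap.comp_apply,
      map_fix_left _ b fun φ => hfix _ (hR φ), map_fix_right _ b fun φ => hfix _ (hL φ)]
  · intro B hB hsub
    have hmemR : ∀ φ : A →ₗ[K] K, ∀ b ∈ B, Lh φ b ∈ B ∧ Rh φ b ∈ B := by
      intro φ b hb
      obtain ⟨t, ht⟩ := hsub b hb
      show evR φ (Δ b) ∈ B ∧ evL φ (Δ b) ∈ B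
      rw [← ht]
      clear ht
      induction t using TensorProduct.induction_on with
      | zero => simp
      | add z z' hz hz' => simp only [map_add]; exact ⟨B.add_mem hz.1 hz'.1, B.add_mem hz.2 hz'.2⟩
      | tmul x y => simp only [TensorProduct.map_tmul, evR_tmul, evL_tmul]; exact ⟨B.smul_mem _ x.2, B.smul_mem _ y.2⟩
    let W : Submodule (E K A) A :=
      { carrier := B
        add_mem' := B.add_mem
        zero_mem' := B.zero_mem
        smul_mem' := by
          rintro ⟨x, hx⟩ a ha
          show x a ∈ B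
          induction hx using Algebra.adjoin_induction generalizing a with
          | mem y hy => obtain ⟨φ, rfl⟩ := hy; exact (hmemR φ a ha).1
          | algebraMap r => simpa using B.smul_mem r ha
          | add y z _ _ hy hz => exact B.add_mem (hy ha) (hz ha)
          | mul y z _ _ hy hz => exact hy (hz ha) }
    have hW : W.IsFullyInvariant := fun f a ha => by
      show f a ∈ B
      rw [end_eq]; exact (hmemR _ a ha).2
    obtain ⟨s, hs, hWs⟩ := (isFullyInvariant_iff_sSup_isotypicComponents (R := E K A) (M := A) (m := W)).1 hW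
    rcases s.eq_empty_or_nonempty with rfl | ⟨c', hc'⟩
    · left
      rw [sSup_empty] at hWs
      ext x
      exact SetLike.ext_iff.1 hWs x
    · right
      have hle : c' ≤ c.1 := fun x hx => hB (show x ∈ B from (hWs ▸ le_sSup hc' : c' ≤ W) hx)
      have : c' = c.1 := by
        by_contra hne
        have hd := sSupIndep_isotypicComponents (E K A) A (hs hc')
        exact (bot_lt_isotypicComponents (hs hc')).ne'
          (hd.eq_bot_of_le (hle.trans (le_sSup ⟨c.2, fun h => hne h.symm⟩)))
      refine le_antisymm hB fun x hx => ?_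
      exact (hWs ▸ le_sSup hc' : c' ≤ W) (this ▸ hx)

end Groth.Agent.Lead.Cosemisimple
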