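import Mathlib.RingTheory.Kaehler.Basic
import Mathlib.Tactic.Module
import Mathlib.Tactic.Abel
import Mathlib.Tactic.LinearCombination

/-!
Exactness of the four-term resolution on the symmetric cube, in affine form.
-/

set_option autoImplicit false
universe u v w

namespace Groth.Agent.Lead.DiagSym3

open TensorProduct KaehlerDifferential

variable {k : Type u} [Field k] {A : Type v} [CommRing A] [Algebra k A]

/-- `a ⊗ b ↦ a · db` -/
noncomputable def θ : A ⊗[k] A →ₗ[k] Ω[A⁄k] :=
  ((KaehlerDifferential.D k A).tensorProductTo).restrictScalars k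

lemma θ_tmul (a b : A) : θ (k := k) (a ⊗ₜ b) = a • KaehlerDifferential.D k A b := rfl

lemma θ_surjective : Function.Surjective (θ (k := k) (A := A)) :=
  KaehlerDifferential.tensorProductTo_surjective k A

/-- A bilinear map with the twisted Leibniz rule factors through the differentials. -/
theorem eq_zero_of_theta_eq_zero {Q : Type w} [AddCommGroup Q] [Module k Q] (Δ : A ⊗[k] A →ₗ[k] Q)
    (h : ∀ a b c : A, Δ (a ⊗ₜ (b * c)) = Δ ((a * b) ⊗ₜ c) + Δ ((a * c) ⊗ₜ b))
    (y : A ⊗[k] A) (hy : θ y = 0) : Δ y = 0 := by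
  have h1 : ∀ c : A, Δ (c ⊗ₜ 1) = 0 := fun c => by
    have := h c 1 1
    simp only [mul_one] at this
    exact left_eq_add.1 this
  have hmul : ∀ p q : A ⊗[k] A, Δ (p * q) =
      Δ ((Algebra.TensorProduct.lmul' (S := A) k p ⊗ₜ[k] (1 : A)) * q) +
      Δ ((Algebra.TensorProduct.lmul' (S := A) k q ⊗ₜ[k] (1 : A)) * p) := by
    intro p q
    induction p using TensorProduct.induction_on with
    | zero => simp
    | tmul s t =>
      induction q using TensorProduct.induction_on with
      | zero => simp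
      | tmul x y =>
        simp only [Algebra.TensorProduct.lmul'_apply_tmul, Algebra.TensorProduct.tmul_mul_tmul, one_mul]
        rw [h]
        congr 1
        · congr 2
          ring
        · congr 2
          ring
      | add a b ha hb => simp only [mul_add, map_add, add_mul, add_tmul] at *; rw [ha, hb]; abel
    | add a b ha hb => simp only [mul_add, map_add, add_mul, add_tmul] at *; rw [ha, hb]; abel
  set c := Algebra.TensorProduct.lmul' (S := A) k y
  let p : A ⊗[k] A := y - c ⊗ₜ 1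
  have hp : p ∈ KaehlerDifferential.ideal k A := by
    rw [RingHom.mem_ker]
    show Algebra.TensorProduct.lmul' (S := A) k (y - c ⊗ₜ 1) = 0
    rw [map_sub, Algebra.TensorProduct.lmul'_apply_tmul, mul_one, sub_self]
  have hθp : θ p = 0 := by
    simp only [p, map_sub, hy, θ_tmul, Derivation.map_one_eq_zero, smul_zero, sub_self]
  have hp2 : p ∈ KaehlerDifferential.ideal k A ^ 2 := by
    have : (KaehlerDifferential.ideal k A).toCotangent ⟨p, hp⟩ = 0 := by
      rw [← KaehlerDifferential.D_tensorProductTo]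
      exact hθp
    exact (Ideal.toCotangent_eq_zero _ ⟨p, hp⟩).1 this
  have hz : Δ p = 0 := by
    rw [pow_two] at hp2
    refine Submodule.mul_induction_on hp2 (fun a ha b hb => ?_) (fun a b ha hb => by rw [map_add, ha, hb, add_zero])
    rw [RingHom.mem_ker] at ha hb
    rw [hmul, show Algebra.TensorProduct.lmul' (S := A) k a = 0 from ha,
      show Algebra.TensorProduct.lmul' (S := A) k b = 0 from hb]
    simp
  have : y = p + c ⊗ₜ 1 := by simp [p]
  rw [this, map_add, hz, h1, add_zero]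

lemma comm_comm' (y : A ⊗[k] A) : TensorProduct.comm k A A (TensorProduct.comm k A A y) = y := by
  induction y using TensorProduct.induction_on with
  | zero => simp
  | tmul a b => simp
  | add a b ha hb => simp only [map_add, ha, hb]

variable [CharZero k]

theorem kerD (r : A ⊗[k] (A ⊗[k] A) →ₗ[k] A ⊗[k] A)
    (hr : ∀ a b c : A, r (a ⊗ₜ[k] (b ⊗ₜ[k] c)) = (a * b) ⊗ₜ[k] c)
    (D : A ⊗[k] A →ₗ[k] Ω[A⁄k])
    (hD : ∀ a b : A, D (a ⊗ₜ[k] b) = (2 : A) • (a • KaehlerDifferential.D k A b) - b • KaehlerDifferential.D k A a) :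
    (∀ y : A ⊗[k] A, D y = 0 ↔ ∃ x : A ⊗[k] (A ⊗[k] A),
        TensorProduct.leftComm k A A A x = x ∧
        LinearMap.lTensor A (TensorProduct.comm k A A).toLinearMap x = x ∧ r x = y) ∧
    Function.Surjective D := by
  have hD' : ∀ y, D y = (2 : k) • θ y - θ (TensorProduct.comm k A A y) := by
    intro y
    induction y using TensorProduct.induction_on with
    | zero => simp
    | tmul a b => simp only [hD, θ_tmul, comm_tmul, two_smul]
    | add a b ha hb => simp only [map_add, smul_add, ha, hb]; abel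
  let s : A ⊗[k] (A ⊗[k] A) →ₗ[k] A ⊗[k] (A ⊗[k] A) := (TensorProduct.leftComm k A A A).toLinearMap
  let t : A ⊗[k] (A ⊗[k] A) →ₗ[k] A ⊗[k] (A ⊗[k] A) := LinearMap.lTensor A (TensorProduct.comm k A A).toLinearMap
  let P : A ⊗[k] (A ⊗[k] A) →ₗ[k] A ⊗[k] (A ⊗[k] A) :=
    LinearMap.id + s + t + s ∘ₗ t + t ∘ₗ s + s ∘ₗ t ∘ₗ s
  have hPs : ∀ x, s (P x) = P x := by
    intro x
    induction x using TensorProduct.induction_on with
    | zero => simp
    | tmul a z =>
      induction z using TensorProduct.induction_on with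
      | zero => simp
      | tmul b c => simp [P, s, t]; abel
      | add z w hz hw => simp only [tmul_add, map_add, hz, hw]
    | add z w hz hw => simp only [map_add, hz, hw]
  have hPt : ∀ x, t (P x) = P x := by
    intro x
    induction x using TensorProduct.induction_on with
    | zero => simp
    | tmul a z =>
      induction z using TensorProduct.induction_on with
      | zero => simp
      | tmul b c => simp [P, s, t]; abel
      | add z w hz hw => simp only [tmul_add, map_add, hz, hw]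
    | add z w hz hw => simp only [map_add, hz, hw]
  have hDrP : ∀ x, D (r (P x)) = 0 := by
    intro x
    induction x using TensorProduct.induction_on with
    | zero => simp
    | tmul a z =>
      induction z using TensorProduct.induction_on with
      | zero => simp
      | tmul b c =>
        simp only [P, s, t, LinearMap.add_apply, LinearMap.id_apply, LinearMap.comp_apply, LinearEquiv.coe_coe,
          leftComm_tmul, LinearMap.lTensor_tmul, comm_tmul, map_add, hr, hD, Derivation.leibniz]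
        module
      | add z w hz hw => simp only [tmul_add, map_add, hz, hw, add_zero]
    | add z w hz hw => simp only [map_add, hz, hw, add_zero]
  let R : Submodule k (A ⊗[k] A) := LinearMap.range (r ∘ₗ P)
  have hmemR : ∀ y ∈ R, ∃ x : A ⊗[k] (A ⊗[k] A), TensorProduct.leftComm k A A A x = x ∧
      LinearMap.lTensor A (TensorProduct.comm k A A).toLinearMap x = x ∧ r x = y := by
    rintro _ ⟨x, rfl⟩
    exact ⟨P x, hPs x, hPt x, rfl⟩
  have hrel : ∀ a b c : A, Submodule.Quotient.mk (p := R) ((a * b) ⊗ₜ c) + Submodule.Quotient.mk (p := R) ((a * c) ⊗ₜ b) +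
      Submodule.Quotient.mk (p := R) ((b * c) ⊗ₜ a) = (0 : (A ⊗[k] A) ⧸ R) := by
    intro a b c
    rw [← Submodule.Quotient.mk_add, ← Submodule.Quotient.mk_add, Submodule.Quotient.mk_eq_zero]
    have h2 : (a * b) ⊗ₜ[k] c + (a * c) ⊗ₜ[k] b + (b * c) ⊗ₜ[k] a = (2 : k)⁻¹ • r (P (a ⊗ₜ (b ⊗ₜ c))) := by
      simp only [P, s, t, LinearMap.add_apply, LinearMap.id_apply, LinearMap.comp_apply, LinearEquiv.coe_coe,
        leftComm_tmul, LinearMap.lTensor_tmul, comm_tmul, map_add, hr]
      rw [mul_comm b a, mul_comm c a, mul_comm c b]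
      match_scalars <;> norm_num
    rw [h2]
    exact R.smul_mem _ ⟨_, rfl⟩
  let Δ : A ⊗[k] A →ₗ[k] (A ⊗[k] A) ⧸ R :=
    R.mkQ ∘ₗ ((2 : k) • LinearMap.id + (TensorProduct.comm k A A).toLinearMap)
  have hΔ : ∀ a b : A, Δ (a ⊗ₜ b) = (2 : k) • Submodule.Quotient.mk (p := R) (a ⊗ₜ b) + Submodule.Quotient.mk (p := R) (b ⊗ₜ a) := by
    intro a b; simp [Δ]
  refine ⟨fun y => ⟨fun hy => hmemR y ?_, ?_⟩, ?_⟩
  · have h0 : θ ((2 : k) • y - TensorProduct.comm k A A y) = 0 := by rw [map_sub, map_smul, ← hD', hy]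
    have := eq_zero_of_theta_eq_zero Δ (fun a b c => by
      have e1 := hrel a (b * c) 1
      have e3 := hrel (a * b) c 1
      have e4 := hrel (a * c) b 1
      have e2 := hrel a b c
      simp only [mul_one, one_mul] at e1 e3 e4
      rw [mul_right_comm a c b] at e4
      simp only [← mul_assoc] at e1
      simp only [hΔ]
      linear_combination (norm := module) (2 : k) • e1 - (1 : k) • e2 - e3 - e4) _ h0
    have h3 : ((2 : k) • (LinearMap.id : A ⊗[k] A →ₗ[k] A ⊗[k] A) + (TensorProduct.comm k A A).toLinearMap) ((2 : k) • y - TensorProduct.comm k A A y) = (3 : k) • y := by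
      simp only [LinearMap.add_apply, LinearMap.smul_apply, LinearMap.id_apply, LinearEquiv.coe_coe, map_sub, map_smul]
      rw [comm_comm']
      module
    simp only [Δ, LinearMap.comp_apply, h3, Submodule.mkQ_apply, Submodule.Quotient.mk_eq_zero] at this
    simpa [smul_smul] using R.smul_mem ((3 : k)⁻¹) this
  · rintro ⟨x, hs, ht, rfl⟩
    have hs' : s x = x := hs
    have ht' : t x = x := ht
    have : P x = (6 : k) • x := by
      simp only [P, LinearMap.add_apply, LinearMap.id_apply, LinearMap.comp_apply, hs', ht']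
      module
    have h6 := hDrP x
    rw [this, map_smul, map_smul] at h6
    exact (smul_eq_zero.1 h6).resolve_left (by norm_num)
  · intro ω
    obtain ⟨y, rfl⟩ := θ_surjective (k := k) ω
    refine ⟨(3 : k)⁻¹ • ((2 : k) • y + TensorProduct.comm k A A y), ?_⟩
    rw [map_smul, map_add, map_smul, hD', hD']
    rw [comm_comm']
    match_scalars <;> norm_num

theorem transposition (r₁₂ r₂₃ : A ⊗[k] (A ⊗[k] A) →ₗ[k] A ⊗[k] A)
    (h₁₂ : ∀ a u v : A, r₁₂ (a ⊗ₜ[k] (u ⊗ₜ[k] v)) = (a * u) ⊗ₜ[k] v)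
    (h₂₃ : ∀ a u v : A, r₂₃ (a ⊗ₜ[k] (u ⊗ₜ[k] v)) = (u * v) ⊗ₜ[k] a)
    (ψ : (A ⊗[k] A) × (A ⊗[k] A) →ₗ[k] Ω[A⁄k])
    (hψ : ∀ a u b v : A, ψ (a ⊗ₜ[k] u, b ⊗ₜ[k] v) =
      (2 : A) • (a • KaehlerDifferential.D k A u) - v • KaehlerDifferential.D k A b) :
    (∀ p q : A ⊗[k] A, LinearMap.mul' k A p = LinearMap.mul' k A q →
      (ψ (p, q) = 0 ↔ ∃ x : A ⊗[k] (A ⊗[k] A),
        LinearMap.lTensor A (TensorProduct.comm k A A).toLinearMap x = x ∧ r₁₂ x = p ∧ r₂₃ x = q)) ∧
    (∀ ω : Ω[A⁄k], ∃ p q : A ⊗[k] A, LinearMap.mul' k A p = LinearMap.mul' k A q ∧ ψ (p, q) = ω) := by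
  have hψl : ∀ p : A ⊗[k] A, ψ (p, 0) = (2 : k) • θ p := by
    intro p
    induction p using TensorProduct.induction_on with
    | zero => simp [show ((0 : A ⊗[k] A), (0 : A ⊗[k] A)) = 0 from rfl]
    | tmul a u =>
      have := hψ a u 0 0
      simp only [zero_tmul, map_zero, smul_zero, sub_zero] at this
      rw [this, θ_tmul, two_smul, two_smul]
    | add a b ha hb =>
      rw [show (a + b, (0 : A ⊗[k] A)) = (a, 0) + (b, 0) by simp, map_add, ha, hb, map_add, smul_add]
  let t : A ⊗[k] (A ⊗[k] A) →ₗ[k] A ⊗[k] (A ⊗[k] A) := LinearMap.lTensor A (TensorProduct.comm k A A).toLinearMap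
  let P : A ⊗[k] (A ⊗[k] A) →ₗ[k] A ⊗[k] (A ⊗[k] A) := LinearMap.id + t
  have hPt : ∀ x, t (P x) = P x := by
    intro x
    induction x using TensorProduct.induction_on with
    | zero => simp
    | tmul a z =>
      induction z using TensorProduct.induction_on with
      | zero => simp
      | tmul b c => simp [P, t]; abel
      | add z w hz hw => simp only [tmul_add, map_add, hz, hw]
    | add z w hz hw => simp only [map_add, hz, hw]
  let F : A ⊗[k] (A ⊗[k] A) →ₗ[k] (A ⊗[k] A) × (A ⊗[k] A) := (r₁₂ ∘ₗ P).prod (r₂₃ ∘ₗ P)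
  have hψF : ∀ x, ψ (F x) = 0 := by
    intro x
    induction x using TensorProduct.induction_on with
    | zero => simp
    | tmul a z =>
      induction z using TensorProduct.induction_on with
      | zero => simp
      | tmul b c =>
        have e : F (a ⊗ₜ (b ⊗ₜ c)) = ((a * b) ⊗ₜ c, (b * c) ⊗ₜ a) + ((a * c) ⊗ₜ b, (c * b) ⊗ₜ a) := by
          simp [F, P, t, h₁₂, h₂₃]
        rw [e, map_add, hψ, hψ]
        simp only [Derivation.leibniz]
        module
      | add z w hz hw => simp only [tmul_add, map_add, hz, hw, add_zero]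
    | add z w hz hw => simp only [map_add, hz, hw, add_zero]
  have hm : ∀ x, LinearMap.mul' k A (r₁₂ x) = LinearMap.mul' k A (r₂₃ x) := by
    intro x
    induction x using TensorProduct.induction_on with
    | zero => simp
    | tmul a z =>
      induction z using TensorProduct.induction_on with
      | zero => simp
      | tmul b c => simp only [h₁₂, h₂₃, LinearMap.mul'_apply]; ring
      | add z w hz hw => simp only [tmul_add, map_add, hz, hw]
    | add z w hz hw => simp only [map_add, hz, hw]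
  have hfix : ∀ x, t x = x → F x = ((2 : k) • r₁₂ x, (2 : k) • r₂₃ x) := by
    intro x hx
    simp [F, P, hx, two_smul]
  have hlift : ∀ q : A ⊗[k] A, ∃ x, t x = x ∧ r₂₃ x = q := by
    intro q
    induction q using TensorProduct.induction_on with
    | zero => exact ⟨0, map_zero _, map_zero _⟩
    | tmul a b =>
      refine ⟨(2 : k)⁻¹ • P (b ⊗ₜ (a ⊗ₜ 1)), by rw [map_smul, hPt], ?_⟩
      simp only [P, t, LinearMap.add_apply, LinearMap.id_apply, LinearMap.lTensor_tmul, LinearEquiv.coe_coe, comm_tmul, map_smul, map_add, h₂₃, mul_one, one_mul]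
      match_scalars; norm_num
    | add a b ha hb =>
      obtain ⟨x, hx, hx'⟩ := ha
      obtain ⟨y, hy, hy'⟩ := hb
      exact ⟨x + y, by rw [map_add, hx, hy], by rw [map_add, hx', hy']⟩
  refine ⟨fun p q hpq => ⟨fun h => ?_, ?_⟩, fun ω => ?_⟩
  · obtain ⟨x₀, hx₀, hx₀'⟩ := hlift q
    let R : Submodule k (A ⊗[k] A) := (LinearMap.range F).comap (LinearMap.inl k (A ⊗[k] A) (A ⊗[k] A)) ⊔
      LinearMap.range (((TensorProduct.mk k A A).flip 1))
    have hrel : ∀ a b c : A, Submodule.Quotient.mk (p := R) (a ⊗ₜ (b * c)) =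
        Submodule.Quotient.mk (p := R) ((a * b) ⊗ₜ c) + Submodule.Quotient.mk (p := R) ((a * c) ⊗ₜ b) := by
      intro a b c
      rw [← Submodule.Quotient.mk_add, Submodule.Quotient.eq]
      have e : a ⊗ₜ[k] (b * c) - ((a * b) ⊗ₜ[k] c + (a * c) ⊗ₜ[k] b) =
          (a ⊗ₜ[k] (b * c) - ((a * b) ⊗ₜ[k] c + (a * c) ⊗ₜ[k] b) + (a * b * c) ⊗ₜ[k] 1) + (-(a * b * c)) ⊗ₜ[k] 1 := by
        rw [neg_tmul]; abel
      rw [e]
      refine Submodule.add_mem_sup ⟨(2 : k)⁻¹ • (a ⊗ₜ ((b * c) ⊗ₜ 1) + a ⊗ₜ (1 ⊗ₜ (b * c)) - a ⊗ₜ (b ⊗ₜ c) - a ⊗ₜ (c ⊗ₜ b)), ?_⟩ ⟨_, rfl⟩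
      refine Prod.ext ?_ ?_ <;>
        simp only [F, P, t, LinearMap.prod_apply, Function.prod_apply, LinearMap.comp_apply, LinearMap.add_apply, LinearMap.id_apply,
          map_smul, map_sub, map_add, LinearMap.lTensor_tmul, LinearEquiv.coe_coe, comm_tmul, h₁₂, h₂₃, LinearMap.coe_inl,
          mul_one, one_mul, mul_comm c b, mul_assoc, Prod.smul_fst, Prod.smul_snd, Prod.fst_add, Prod.snd_add, Prod.fst_sub, Prod.snd_sub] <;>
        match_scalars <;> norm_num
    have hp1 : ψ (p - r₁₂ x₀, 0) = 0 := by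
      have hF := hψF x₀
      rw [hfix x₀ hx₀, show ((2 : k) • r₁₂ x₀, (2 : k) • r₂₃ x₀) = (2 : k) • (r₁₂ x₀, r₂₃ x₀) by simp, map_smul] at hF
      have hF' := (smul_eq_zero.1 hF).resolve_left (by norm_num)
      rw [show (p - r₁₂ x₀, (0 : A ⊗[k] A)) = (p, q) - (r₁₂ x₀, r₂₃ x₀) by simp [hx₀'], map_sub, h, hF', sub_zero]
    rw [hψl] at hp1
    have hθ := (smul_eq_zero.1 hp1).resolve_left (by norm_num)
    have hmem := eq_zero_of_theta_eq_zero R.mkQ hrel _ hθ
    rw [Submodule.mkQ_apply, Submodule.Quotient.mk_eq_zero] at hmem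
    obtain ⟨u, ⟨x, hx⟩, _, ⟨c, rfl⟩, huv⟩ := Submodule.mem_sup.1 hmem
    have hx1 : r₁₂ (P x) = u ∧ r₂₃ (P x) = 0 := by simpa [F] using hx
    have hc : c = 0 := by
      have := congrArg (LinearMap.mul' k A) huv
      simp only [map_add, map_sub, ← hx1.1, hm, hx1.2, map_zero, hpq, hx₀', LinearMap.flip_apply, TensorProduct.mk_apply,
        LinearMap.mul'_apply, mul_one, zero_add, sub_self] at this
      exact this
    refine ⟨x₀ + P x, ?_, ?_, ?_⟩
    · show t (x₀ + P x) = x₀ + P x
      rw [map_add, hx₀, hPt]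
    · rw [map_add, hx1.1]
      simp only [hc, LinearMap.flip_apply, TensorProduct.mk_apply, zero_tmul, add_zero] at huv
      rw [huv, add_sub_cancel]
    · rw [map_add, hx1.2, hx₀', add_zero]
  · rintro ⟨x, hx, rfl, rfl⟩
    have hF := hψF x
    rw [hfix x hx, show ((2 : k) • r₁₂ x, (2 : k) • r₂₃ x) = (2 : k) • (r₁₂ x, r₂₃ x) by simp, map_smul] at hF
    exact (smul_eq_zero.1 hF).resolve_left (by norm_num)
  · obtain ⟨y, rfl⟩ := θ_surjective (k := k) ω
    refine ⟨(2 : k)⁻¹ • (y - LinearMap.mul' k A y ⊗ₜ 1), 0, ?_, ?_⟩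
    · simp
    · rw [hψl, map_smul, map_sub, θ_tmul, Derivation.map_one_eq_zero, smul_zero, sub_zero, smul_smul]
      norm_num

end Groth.Agent.Lead.DiagSym3
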