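import Mathlib.RingTheory.MvPolynomial.Homogeneous
import Mathlib.Algebra.MvPolynomial.PDeriv
import Mathlib.Algebra.MvPolynomial.Funext
import Mathlib.Analysis.Complex.Polynomial.Basic
import Mathlib.LinearAlgebra.FiniteDimensional.Basic
import Mathlib.LinearAlgebra.Matrix.ToLin
import Mathlib.FieldTheory.IsAlgClosed.Basic

/-! Eckardt points of cubic surfaces and their involutions, through the symmetric trilinear form. -/

namespace Groth.Agent.Lead.Eckardt

open MvPolynomial

abbrev V := Fin 4 → ℂ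

/-- a symmetric trilinear form -/
structure Sym3 where
  toFun : V →ₗ[ℂ] V →ₗ[ℂ] V →ₗ[ℂ] ℂ
  s12 : ∀ x y z, toFun x y z = toFun y x z
  s23 : ∀ x y z, toFun x y z = toFun x z y

instance : CoeFun Sym3 (fun _ => V → V →ₗ[ℂ] V →ₗ[ℂ] ℂ) := ⟨fun T => ⇑T.toFun⟩

def Represents (T : Sym3) (f : MvPolynomial (Fin 4) ℂ) : Prop :=
  (∀ v, eval v f = T v v v) ∧ ∀ i v, eval v (pderiv i f) = 3 * T (Pi.single i 1) v v

def mon (a b c : Fin 4) : V →ₗ[ℂ] V →ₗ[ℂ] V →ₗ[ℂ] ℂ :=
  (LinearMap.proj a).smulRight ((LinearMap.proj b).smulRight (LinearMap.proj c : V →ₗ[ℂ] ℂ))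

@[simp] lemma mon_apply (a b c : Fin 4) (x y z : V) : mon a b c x y z = x a * (y b * z c) := by
  simp [mon]

lemma exists_rep {f : MvPolynomial (Fin 4) ℂ} (hf : f.IsHomogeneous 3) : ∃ T : Sym3, Represents T f := by
  classical
  rw [f.as_sum]
  refine Finset.sum_induction _ (fun g => ∃ T : Sym3, Represents T g) ?_ ?_ ?_
  · rintro g g' ⟨T, hT, hT'⟩ ⟨S, hS, hS'⟩
    refine ⟨⟨T.toFun + S.toFun, fun x y z => ?_, fun x y z => ?_⟩, fun v => ?_, fun i v => ?_⟩
    · simp [T.s12 x, S.s12 x]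
    · simp [T.s23 x y, S.s23 x y]
    · simp [hT, hS]
    · simp [hT', hS', mul_add]
  · exact ⟨⟨0, by simp, by simp⟩, fun v => by simp, fun i v => by simp⟩
  · intro d hd
    have hdeg : (Finsupp.toMultiset d).card = 3 := by
      rw [Finsupp.card_toMultiset]
      exact hf.degree_eq_sum_deg_support hd ▸ rfl
    obtain ⟨a, b, c, habc⟩ := Multiset.card_eq_three.1 hdeg
    have hd' : d = Finsupp.single a 1 + Finsupp.single b 1 + Finsupp.single c 1 := by
      apply Finsupp.orderIsoMultiset.injective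
      change Finsupp.toMultiset d = Finsupp.toMultiset _
      rw [habc]
      simp [add_assoc]
      exact Multiset.cons_swap ..
    have hm : monomial d (coeff d f) = C (coeff d f) * X a * X b * X c := by
      rw [hd']; simp [X, C_mul_monomial, monomial_mul, add_assoc]
    rw [hm]
    generalize coeff d f = r
    refine ⟨⟨(r / 6) • (mon a b c + mon a c b + mon b a c + mon b c a + mon c a b + mon c b a),
      fun x y z => ?_, fun x y z => ?_⟩, fun v => ?_, fun i v => ?_⟩
    · simp; ring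
    · simp; ring
    · simp; ring
    · simp [Derivation.leibniz, pderiv_X, Pi.single_apply]
      split_ifs <;> simp <;> ring

variable (T : Sym3)

def H (p : V) : V →ₗ[ℂ] ℂ := (3 : ℂ) • ((T.toFun.flip p).flip p)

@[simp] lemma H_apply (p x : V) : H T p x = 3 * T x p p := by simp [H]

lemma expand (x p : V) (t : ℂ) : T (x + t • p) (x + t • p) (x + t • p)
    = T x x x + t * (3 * T x x p) + t ^ 2 * (3 * T x p p) + t ^ 3 * T p p p := by
  simp only [map_add, map_smul, LinearMap.add_apply, LinearMap.smul_apply, smul_eq_mul]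
  rw [T.s23 x p x, T.s12 p x x, T.s23 x p x, T.s12 p x p, T.s23 p p x, T.s12 p x p]
  ring

def Smooth : Prop := ∀ v : V, v ≠ 0 → ∃ x, T x v v ≠ 0

variable {T}

lemma smooth_of {f : MvPolynomial (Fin 4) ℂ} (hT : Represents T f)
    (hsm : ∀ v : V, v ≠ 0 → eval v f = 0 → ∃ i, eval v (pderiv i f) ≠ 0) : Smooth T := by
  intro v hv
  by_contra! h
  obtain ⟨i, hi⟩ := hsm v hv (by rw [hT.1]; exact h v)
  exact hi (by rw [hT.2, h, mul_zero])

lemma exists_H_one (hs : Smooth T) {p : V} (hp : p ≠ 0) : ∃ w, 3 * T w p p = 1 := by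
  obtain ⟨x, hx⟩ := hs p hp
  refine ⟨(3 * T x p p)⁻¹ • x, ?_⟩
  simp; field_simp

variable (T)

/-- three lines through the point -/
def IsEck (p : V) : Prop := ∃ U : Fin 3 → Submodule ℂ V, Function.Injective U ∧
  ∀ i : Fin 3, Module.finrank ℂ ↥(U i) = 2 ∧ p ∈ U i ∧ ∀ u ∈ U i, T u u u = 0

/-- the structure of the form at an Eckardt point -/
def HasInv (p : V) (M : V →ₗ[ℂ] ℂ) : Prop :=
  T p p p = 0 ∧ M p = 2 ∧ ∀ x, 3 * T x x p = 3 * T x p p * M x

def refl (p : V) (M : V →ₗ[ℂ] ℂ) : V →ₗ[ℂ] V := LinearMap.id - M.smulRight p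

@[simp] lemma refl_apply (p : V) (M : V →ₗ[ℂ] ℂ) (x : V) : refl p M x = x - M x • p := by simp [refl]

variable {T}

lemma exists_hasInv (hs : Smooth T) {p : V} (hp : p ≠ 0) (hE : IsEck T p) :
    ∃ M, HasInv T p M := by
  obtain ⟨U, hU, hU'⟩ := hE
  have hp0 : T p p p = 0 := (hU' 0).2.2 p (hU' 0).2.1
  have hz : ∀ i, ∀ u ∈ U i, 3 * T u p p = 0 ∧ T u u p = 0 := by
    intro i u hu
    have h1 := (hU' i).2.2 _ (add_mem hu (Submodule.smul_mem _ (1 : ℂ) (hU' i).2.1))
    have h2 := (hU' i).2.2 _ (add_mem hu (Submodule.smul_mem _ (-1 : ℂ) (hU' i).2.1))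
    rw [expand, (hU' i).2.2 u hu, hp0] at h1 h2
    constructor
    · linear_combination (h1 + h2) / 2
    · linear_combination (h1 - h2) / 6
  have hspan : ∀ i, ∀ u ∈ U i, u ∉ Submodule.span ℂ {p} → Submodule.span ℂ {p, u} = U i := by
    intro i u hu hn
    apply Submodule.eq_of_le_of_finrank_eq
    · rw [Submodule.span_le]
      rintro z (rfl | rfl)
      exacts [(hU' i).2.1, hu]
    · have hli : LinearIndependent ℂ ![p, u] := by
        rw [LinearIndependent.pair_iff' hp]
        exact fun a ha => hn (ha ▸ Submodule.smul_mem _ a (Submodule.mem_span_singleton_self p))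
      rw [(hU' i).1, ← Matrix.range_cons_cons_empty p u ![], finrank_span_eq_card hli]; simp
  have hker : Module.finrank ℂ (LinearMap.ker (H T p)) = 3 := by
    obtain ⟨w, hw⟩ := exists_H_one hs hp
    have hsur : LinearMap.range (H T p) = ⊤ := LinearMap.range_eq_top.2 fun y => ⟨y • w, by
      simp; linear_combination y * hw⟩
    have := LinearMap.finrank_range_add_finrank_ker (H T p)
    rw [hsur] at this
    simp at this ⊢; omega
  have hsup : U 0 ⊔ U 1 = LinearMap.ker (H T p) := by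
    apply Submodule.eq_of_le_of_finrank_le
    · refine sup_le ?_ ?_ <;> intro u hu <;> simp [hz _ u hu]
    · rw [hker]
      by_contra h
      have h0 : U 0 ⊔ U 1 = U 0 := (Submodule.eq_of_le_of_finrank_le le_sup_left (by
        rw [(hU' 0).1]; omega)).symm
      have h1 : U 0 ⊔ U 1 = U 1 := (Submodule.eq_of_le_of_finrank_le le_sup_right (by
        rw [(hU' 1).1]; omega)).symm
      exact absurd (hU (h0.symm.trans h1)) (by decide)
  obtain ⟨u₂, hu₂, hu₂'⟩ : ∃ u ∈ U 2, u ∉ Submodule.span ℂ {p} := by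
    by_contra! h
    have := Submodule.finrank_mono (show U 2 ≤ Submodule.span ℂ {p} from h)
    rw [(hU' 2).1, finrank_span_singleton hp] at this; omega
  obtain ⟨a₀, ha₀, b₀, hb₀, hab⟩ : ∃ a ∈ U 0, ∃ b ∈ U 1, a + b = u₂ := by
    apply Submodule.mem_sup.1
    rw [hsup]; simp [hz _ u₂ hu₂]
  have hne : ∀ i, i ≠ (2 : Fin 3) → u₂ ∉ U i := fun i hi hmem => hi
    (hU ((hspan i u₂ hmem hu₂').symm.trans (hspan 2 u₂ hu₂ hu₂')))
  have ha₀' : a₀ ∉ Submodule.span ℂ {p} := fun h => hne 1 (by decide) (hab ▸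
    add_mem (Submodule.span_le.2 (Set.singleton_subset_iff.2 (hU' 1).2.1) h) hb₀)
  have hb₀' : b₀ ∉ Submodule.span ℂ {p} := fun h => hne 0 (by decide) (hab ▸
    add_mem ha₀ (Submodule.span_le.2 (Set.singleton_subset_iff.2 (hU' 0).2.1) h))
  have h00 : T a₀ b₀ p = 0 := by
    have h := (hz 2 u₂ hu₂).2
    simp only [← hab, map_add, LinearMap.add_apply] at h
    rw [(hz 0 a₀ ha₀).2, (hz 1 b₀ hb₀).2, T.s12 b₀ a₀] at h
    linear_combination h / 2
  have hD : ∀ z, 3 * T z p p = 0 → T z z p = 0 := by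
    intro z hzz
    obtain ⟨a, ha, b, hb, rfl⟩ := Submodule.mem_sup.1 (hsup.ge (by simpa using hzz))
    have hab0 : T a b p = 0 := by
      obtain ⟨α, β, rfl⟩ := Submodule.mem_span_pair.1 ((hspan 0 a₀ ha₀ ha₀').ge ha)
      obtain ⟨γ, δ, rfl⟩ := Submodule.mem_span_pair.1 ((hspan 1 b₀ hb₀ hb₀').ge hb)
      have h1 := (hz 0 a₀ ha₀).1; have h2 := (hz 1 b₀ hb₀).1
      simp only [map_add, map_smul, LinearMap.add_apply, LinearMap.smul_apply, smul_eq_mul]
      rw [h00, T.s12 p b₀ p, hp0]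
      linear_combination (β * γ / 3) * h1 + (α * δ / 3) * h2
    simp only [map_add, LinearMap.add_apply]
    rw [(hz 0 a ha).2, (hz 1 b hb).2, T.s12 b a, hab0]; ring
  obtain ⟨w, hw⟩ := exists_H_one hs hp
  refine ⟨(6 : ℂ) • ((T.toFun.flip w).flip p) - (3 * T w w p) • H T p, hp0, ?_, fun x => ?_⟩
  · simp [hp0, T.s12 p w p]; linear_combination 2 * hw
  · have h := hD (x - (3 * T x p p) • w) (by
      simp only [map_sub, map_smul, LinearMap.sub_apply, LinearMap.smul_apply, smul_eq_mul]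
      linear_combination (-(3 * T x p p)) * hw)
    simp only [map_sub, map_smul, LinearMap.sub_apply, LinearMap.smul_apply, smul_eq_mul] at h
    rw [T.s12 w x p] at h
    simp
    linear_combination 3 * h

lemma HasInv.H_ne (hs : Smooth T) {p : V} (hp : p ≠ 0) {M} (_h : HasInv T p M) :
    ∃ w, 3 * T w p p = 1 := exists_H_one hs hp

lemma HasInv.line {p : V} {M} (h : HasInv T p M) (x : V) (t : ℂ) :
    T (x + t • p) (x + t • p) (x + t • p) = T x x x + 3 * T x p p * (t * M x + t ^ 2) := by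
  rw [expand, h.1, h.2.2]; ring

lemma HasInv.invariant {p : V} {M} (h : HasInv T p M) (x : V) :
    T (refl p M x) (refl p M x) (refl p M x) = T x x x := by
  rw [refl_apply, sub_eq_add_neg, ← neg_smul, h.line]; ring

lemma hasInv_of (hs : Smooth T) {p : V} (hp : p ≠ 0) (hp0 : T p p p = 0) {N : V →ₗ[ℂ] ℂ} (hN : N p = 2)
    {c : ℂ} (hc : ∀ x, T (refl p N x) (refl p N x) (refl p N x) = c * T x x x) : HasInv T p N := by
  have key : ∀ (x : V) (t : ℂ), T x x x + (-(N x + t)) * (3 * T x x p) + (N x + t) ^ 2 * (3 * T x p p)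
      = c * (T x x x + t * (3 * T x x p) + t ^ 2 * (3 * T x p p)) := by
    intro x t
    have h := hc (x + t • p)
    rw [show refl p N (x + t • p) = x + (-(N x + t)) • p from by
      simp [hN]; module, expand, expand, hp0] at h
    linear_combination h
  obtain ⟨w, hw⟩ := exists_H_one hs hp
  have hc1 : c = 1 := by
    linear_combination (-(key w 1 + key w (-1) - 2 * key w 0) / 2) + (1 - c) * hw
  refine ⟨hp0, hN, fun x => ?_⟩
  subst hc1
  linear_combination -(key x 1 - key x 0) / 2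

lemma HasInv.eq (hs : Smooth T) {p : V} (hp : p ≠ 0) {M N} (hM : HasInv T p M) (hN : HasInv T p N) :
    M = N := by
  obtain ⟨w, hw⟩ := exists_H_one hs hp
  have h : ∀ x, 3 * T x p p * (M x - N x) = 0 := fun x => by
    linear_combination hN.2.2 x - hM.2.2 x
  have hw' : M w = N w := by
    have := h w; rw [hw, one_mul, sub_eq_zero] at this; exact this
  refine LinearMap.ext fun x => ?_
  by_cases hx : 3 * T x p p = 0
  · have := h (x + w)
    simp only [map_add, LinearMap.add_apply] at this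
    linear_combination this + (N x - M x + N w - M w) * hx + (N x - M x + N w - M w) * hw - hw'
  · exact sub_eq_zero.1 ((mul_eq_zero.1 (h x)).resolve_left hx)

end Groth.Agent.Lead.Eckardt
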