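import Groth.Agent.Lead.Eckardt

/-! Pairs of Eckardt points, and the converse direction. -/

namespace Groth.Agent.Lead.Eckardt

open MvPolynomial

lemma eval_subst (A : Matrix (Fin 4) (Fin 4) ℂ) (f : MvPolynomial (Fin 4) ℂ) (x : V) :
    eval x (aeval (fun i : Fin 4 => ∑ j : Fin 4, C (A i j) * X j) f) = eval (A.mulVec x) f := by
  have h : (aeval (R := ℂ) x).comp (aeval (fun i : Fin 4 => ∑ j : Fin 4, C (A i j) * X j))
      = aeval (R := ℂ) (A.mulVec x) := by
    apply algHom_ext
    intro i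
    simp [Matrix.mulVec, dotProduct]
  have := congrArg (fun φ : MvPolynomial (Fin 4) ℂ →ₐ[ℂ] ℂ => φ f) h
  simpa using this

lemma finrank_pair {p u : V} (hp : p ≠ 0) (hu : u ∉ Submodule.span ℂ {p}) :
    Module.finrank ℂ ↥(Submodule.span ℂ {p, u}) = 2 := by
  have hli : LinearIndependent ℂ ![p, u] := by
    rw [LinearIndependent.pair_iff' hp]
    exact fun a ha => hu (ha ▸ Submodule.smul_mem _ a (Submodule.mem_span_singleton_self p))
  rw [← Matrix.range_cons_cons_empty p u ![], finrank_span_eq_card hli]; simp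

lemma finrank_ker_eq_three {l : V →ₗ[ℂ] ℂ} {w : V} (hw : l w ≠ 0) :
    Module.finrank ℂ (LinearMap.ker l) = 3 := by
  have hsur : LinearMap.range l = ⊤ := LinearMap.range_eq_top.2 fun y => ⟨(y / l w) • w, by
    simp; field_simp⟩
  have := LinearMap.finrank_range_add_finrank_ker l
  rw [hsur] at this
  simp at this ⊢; omega

variable {T : Sym3}

lemma eck_iff {f : MvPolynomial (Fin 4) ℂ} (hT : Represents T f) (p : V) :
    IsEck T p ↔ ∃ U : Fin 3 → Submodule ℂ V, Function.Injective U ∧
      ∀ i : Fin 3, Module.finrank ℂ ↥(U i) = 2 ∧ p ∈ U i ∧ ∀ u ∈ U i, eval u f = 0 := by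
  simp [IsEck, hT.1]

lemma inv_of_matrix {f : MvPolynomial (Fin 4) ℂ} (hT : Represents T f) (hs : Smooth T) {p : V} (hp : p ≠ 0)
    (hp0 : T p p p = 0) {A : Matrix (Fin 4) (Fin 4) ℂ}
    (hA : A * A = 1 ∧ Module.finrank ℂ ↥(LinearMap.ker (Matrix.toLin' A - LinearMap.id)) = 3 ∧
      A.mulVec p = -p ∧ ∃ c : ℂ, aeval (fun i : Fin 4 => ∑ j : Fin 4, C (A i j) * X j) f = C c * f) :
    ∃ N, HasInv T p N ∧ Matrix.toLin' A = refl p N := by
  obtain ⟨hAA, hk, hAp, c, hc⟩ := hA
  set g : V →ₗ[ℂ] V := Matrix.toLin' A - LinearMap.id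
  have hr : Module.finrank ℂ (LinearMap.range g) = 1 := by
    have := LinearMap.finrank_range_add_finrank_ker g
    simp [hk] at this; omega
  have hgp : g p = (-2 : ℂ) • p := by
    simp [g, hAp]; module
  have hmem : ∀ x, g x ∈ Submodule.span ℂ {p} := by
    have h : Submodule.span ℂ {p} = LinearMap.range g := by
      apply Submodule.eq_of_le_of_finrank_eq
      · rw [Submodule.span_le, Set.singleton_subset_iff]
        exact ⟨(-2 : ℂ)⁻¹ • p, by rw [map_smul, hgp, smul_smul]; norm_num⟩
      · rw [finrank_span_singleton hp, hr]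
    exact fun x => h ▸ LinearMap.mem_range_self g x
  let N : V →ₗ[ℂ] ℂ := -((LinearEquiv.toSpanNonzeroSingleton ℂ V p hp).symm.toLinearMap ∘ₗ
    g.codRestrict _ hmem)
  have hN : ∀ x, g x = -(N x) • p := fun x => by
    have := LinearEquiv.coord_apply_smul ℂ V p hp ⟨g x, hmem x⟩
    simp only [N, LinearMap.neg_apply, neg_neg]
    exact this.symm
  have heq : Matrix.toLin' A = refl p N := by
    refine LinearMap.ext fun x => ?_
    have := hN x
    simp only [g, LinearMap.sub_apply, LinearMap.id_apply, neg_smul] at this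
    rw [refl_apply, ← sub_add_cancel ((Matrix.toLin' A) x) x, this]; abel
  have hN2 : N p = 2 := by
    have h := (hN p).symm.trans hgp
    have := smul_left_injective ℂ hp h
    linear_combination -this
  refine ⟨N, hasInv_of hs hp hp0 hN2 (c := c) (fun x => ?_), heq⟩
  rw [← heq, Matrix.toLin'_apply, ← hT.1, ← hT.1, ← eval_subst, hc]
  simp

lemma matrix_of_inv {f : MvPolynomial (Fin 4) ℂ} (hT : Represents T f) {p : V} (hp : p ≠ 0) {M}
    (hM : HasInv T p M) :
    let A := LinearMap.toMatrix' (refl p M)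
    A * A = 1 ∧ Module.finrank ℂ ↥(LinearMap.ker (Matrix.toLin' A - LinearMap.id)) = 3 ∧
      A.mulVec p = -p ∧ ∃ c : ℂ, aeval (fun i : Fin 4 => ∑ j : Fin 4, C (A i j) * X j) f = C c * f := by
  intro A
  refine ⟨?_, ?_, ?_, 1, ?_⟩
  · have h : refl p M ∘ₗ refl p M = LinearMap.id := by
      refine LinearMap.ext fun x => ?_
      simp [hM.2.1]; module
    rw [← LinearMap.toMatrix'_comp, h, LinearMap.toMatrix'_id]
  · have : LinearMap.ker (Matrix.toLin' A - LinearMap.id) = LinearMap.ker M := by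
      ext x; simp [A, Matrix.toLin'_toMatrix', hp]
    rw [this]
    exact finrank_ker_eq_three (w := p) (by simp [hM.2.1])
  · rw [← Matrix.toLin'_apply, Matrix.toLin'_toMatrix']; simp [hM.2.1]; module
  · apply MvPolynomial.funext
    intro x
    rw [eval_subst, ← Matrix.toLin'_apply, Matrix.toLin'_toMatrix', hT.1, hM.invariant]
    simp [hT.1]

lemma refl_eq (hs : Smooth T) {p q : V} (hp : p ≠ 0) (hq : q ≠ 0) (h : q ∈ Submodule.span ℂ {p})
    {M N} (hM : HasInv T p M) (hN : HasInv T q N) : refl p M = refl q N := by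
  obtain ⟨κ, rfl⟩ := Submodule.mem_span_singleton.1 h
  have hκ : κ ≠ 0 := fun h0 => hq (by simp [h0])
  have hN' : HasInv T p (κ • N) := by
    refine ⟨hM.1, ?_, fun x => ?_⟩
    · simpa using hN.2.1
    · have := hN.2.2 x
      simp only [map_smul, LinearMap.smul_apply, smul_eq_mul] at this ⊢
      apply mul_left_cancel₀ hκ
      linear_combination this
  rw [hM.eq hs hp hN']
  refine LinearMap.ext fun x => ?_
  simp [smul_smul, mul_comm]

lemma HasInv.refl_refl {p : V} {M} (hM : HasInv T p M) (x : V) : refl p M (refl p M x) = x := by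
  simp [hM.2.1]; module

lemma conj (hs : Smooth T) {p q : V} (hq : q ≠ 0) {M N} (hM : HasInv T p M) (hN : HasInv T q N) :
    refl p M q ≠ 0 ∧ HasInv T (refl p M q) (N ∘ₗ refl p M) ∧
      refl p M ∘ₗ refl q N ∘ₗ refl p M = refl (refl p M q) (N ∘ₗ refl p M) := by
  have hne : refl p M q ≠ 0 := fun h => hq (by rw [← hM.refl_refl q, h, map_zero])
  have heq : refl p M ∘ₗ refl q N ∘ₗ refl p M = refl (refl p M q) (N ∘ₗ refl p M) := by
    refine LinearMap.ext fun x => ?_
    rw [LinearMap.comp_apply, LinearMap.comp_apply, refl_apply q, map_sub, map_smul, hM.refl_refl,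
      refl_apply (refl p M q), LinearMap.comp_apply]
  refine ⟨hne, hasInv_of hs hne (by rw [hM.invariant, hN.1]) (c := 1) ?_ (fun x => ?_), heq⟩
  · rw [LinearMap.comp_apply, hM.refl_refl, hN.2.1]
  · rw [← heq, LinearMap.comp_apply, LinearMap.comp_apply, hM.invariant, hN.invariant, hM.invariant,
      one_mul]

lemma eck_map {p q : V} {M} (hM : HasInv T p M) (h : IsEck T q) : IsEck T (refl p M q) := by
  obtain ⟨U, hU, hU'⟩ := h
  have hi : Function.Injective (refl p M) := (Function.LeftInverse.injective hM.refl_refl)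
  refine ⟨fun i => (U i).map (refl p M), fun i j hij => hU (Submodule.map_injective_of_injective hi hij),
    fun i => ⟨?_, Submodule.mem_map_of_mem (hU' i).2.1, ?_⟩⟩
  · rw [← (Submodule.equivMapOfInjective _ hi (U i)).finrank_eq, (hU' i).1]
  · rintro _ ⟨u, hu, rfl⟩
    rw [hM.invariant]; exact (hU' i).2.2 u hu

lemma polar {p : V} {M} (hM : HasInv T p M) (x y : V) :
    6 * T x y p = 3 * T x p p * M y + 3 * T y p p * M x := by
  have h := hM.2.2 (x + y)
  simp only [map_add, LinearMap.add_apply] at h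
  rw [T.s12 y x p] at h
  linear_combination h - hM.2.2 x - hM.2.2 y

lemma exists_quad (m l : ℂ) : ∃ t : ℂ, l + t * m + t ^ 2 = 0 := by
  obtain ⟨r, hr⟩ := IsAlgClosed.exists_pow_nat_eq (m ^ 2 - 4 * l) (n := 2) two_pos
  exact ⟨(r - m) / 2, by linear_combination hr / 4⟩

/-- two Eckardt points: either the line is on the surface, and the other is fixed, or not. -/
theorem two_points (hs : Smooth T) {e e' : V} (he : e ≠ 0) (he' : e' ∉ Submodule.span ℂ {e})
    {M M'} (hM : HasInv T e M) (hM' : HasInv T e' M') :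
    (3 * T e' e e = 0 ↔ ∀ u ∈ Submodule.span ℂ {e, e'}, T u u u = 0) ∧
    (3 * T e' e e = 0 ↔ M e' = 0) ∧
    ∀ s r : ℂ, T (r • e' + s • e) (r • e' + s • e) (r • e' + s • e)
      = 3 * T e' e e * (r * s * (r * M e' + s)) := by
  have hline : ∀ s r : ℂ, T (r • e' + s • e) (r • e' + s • e) (r • e' + s • e)
      = 3 * T e' e e * (r * s * (r * M e' + s)) := by
    intro s r
    rw [hM.line]
    simp only [map_smul, LinearMap.smul_apply, smul_eq_mul, hM'.1]
    ring
  have h1 : 3 * T e e' e' = 3 * T e' e e * M e' := by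
    rw [← hM.2.2 e', T.s23 e' e' e, T.s12 e' e e']
  have hA : 3 * T e' e e = 0 → M e' = 0 := by
    intro h0
    by_contra hne
    have hp : ∀ x, 6 * T x e' e = 3 * T x e e * M e' := fun x => by
      rw [polar hM x e', h0]; ring
    have hp' : ∀ x, 6 * T x e' e = 3 * T x e' e' * M' e := fun x => by
      have h := polar hM' x e
      rw [T.s23 x e e', h1, h0] at h; linear_combination h
    obtain ⟨w, hw⟩ := exists_H_one hs he
    have hne' : M' e ≠ 0 := fun h => hne (by
      have := (hp w).symm.trans (hp' w)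
      rw [hw, h] at this; linear_combination this)
    obtain ⟨t, ht⟩ := exists_quad (M e') (M e' / M' e)
    have hz : e' + t • e ≠ 0 := fun h => he' (by
      rw [eq_neg_of_add_eq_zero_left h]
      exact neg_mem (Submodule.smul_mem _ t (Submodule.mem_span_singleton_self e)))
    obtain ⟨x, hx⟩ := hs _ hz
    apply hx
    have hH' : 3 * T x e' e' = 3 * T x e e * (M e' / M' e) := by
      field_simp
      linear_combination ((hp x) - (hp' x)) / 3
    simp only [map_add, map_smul, LinearMap.add_apply, LinearMap.smul_apply, smul_eq_mul]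
    rw [T.s23 x e e']
    linear_combination (hH' + t * hp x) / 3 + T x e e * ht
  have hB : M e' = 0 → 3 * T e' e e = 0 := by
    intro h0
    have h2 := hM'.line e 1
    have h3 := hline 1 1
    rw [h1, h0, hM.1] at h2
    simp only [one_smul] at h2 h3
    rw [add_comm e e'] at h2
    rw [h2, h0] at h3
    linear_combination -h3
  refine ⟨⟨fun h u hu => ?_, fun h => ?_⟩, ⟨hA, hB⟩, hline⟩
  · obtain ⟨s, r, rfl⟩ := Submodule.mem_span_pair.1 hu
    rw [add_comm, hline, h, zero_mul]
  · have h1' : ∀ s : ℂ, 3 * T e' e e * (s * (M e' + s)) = 0 := fun s => by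
      rw [show s * (M e' + s) = 1 * s * (1 * M e' + s) by ring, ← hline]
      exact h _ (add_mem (Submodule.smul_mem _ _ (Submodule.subset_span (by simp)))
        (Submodule.smul_mem _ _ (Submodule.subset_span (by simp))))
    linear_combination (h1' 1 + h1' (-1)) / 2

/-- the third point on the line through two Eckardt points off the surface -/
theorem third (hs : Smooth T) {e e' : V} (he : e ≠ 0) (he' : e' ∉ Submodule.span ℂ {e})
    {M M'} (hM : HasInv T e M) (hM' : HasInv T e' M')
    (hL : ¬ ∀ u ∈ Submodule.span ℂ {e, e'}, T u u u = 0) :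
    refl e M e' ∈ Submodule.span ℂ {e, e'} ∧ refl e M e' ∉ Submodule.span ℂ {e} ∧
      refl e M e' ∉ Submodule.span ℂ {e'} ∧
      ∀ u ∈ Submodule.span ℂ {e, e'}, T u u u = 0 →
        u ∈ Submodule.span ℂ {e} ∨ u ∈ Submodule.span ℂ {e'} ∨ u ∈ Submodule.span ℂ {refl e M e'} := by
  obtain ⟨h1, h2, hline⟩ := two_points hs he he' hM hM'
  have hH : 3 * T e' e e ≠ 0 := fun h => hL (h1.1 h)
  have hm : M e' ≠ 0 := fun h => hH (h2.2 h)
  refine ⟨?_, ?_, ?_, fun u hu hu0 => ?_⟩
  · rw [refl_apply]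
    exact sub_mem (Submodule.subset_span (by simp)) (Submodule.smul_mem _ _ (Submodule.subset_span (by simp)))
  · intro h
    apply he'
    rw [← sub_add_cancel e' (M e' • e), ← refl_apply]
    exact add_mem h (Submodule.smul_mem _ _ (Submodule.mem_span_singleton_self e))
  · intro h
    obtain ⟨a, ha⟩ := Submodule.mem_span_singleton.1 h
    rw [refl_apply] at ha
    have : M e' • e = (1 - a) • e' := by rw [sub_smul, one_smul, ha]; abel
    by_cases h1a : 1 - a = 0
    · rw [h1a, zero_smul, smul_eq_zero] at this; exact this.elim hm he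
    · refine he' (Submodule.mem_span_singleton.2 ⟨(1 - a)⁻¹ * M e', ?_⟩)
      rw [mul_smul, this, smul_smul, inv_mul_cancel₀ h1a, one_smul]
  · obtain ⟨s, r, rfl⟩ := Submodule.mem_span_pair.1 hu
    rw [add_comm, hline] at hu0
    rcases mul_eq_zero.1 ((mul_eq_zero.1 hu0).resolve_left hH) with h | h
    · rcases mul_eq_zero.1 h with h | h
      · exact Or.inl (Submodule.mem_span_singleton.2 ⟨s, by simp [h]⟩)
      · exact Or.inr (Or.inl (Submodule.mem_span_singleton.2 ⟨r, by simp [h]⟩))
    · refine Or.inr (Or.inr (Submodule.mem_span_singleton.2 ⟨r, ?_⟩))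
      rw [refl_apply, show s = -(r * M e') by linear_combination h]; module

lemma singular {p : V} (hs : Smooth T) {M} (hM : HasInv T p M) {u : V} (hu : 3 * T u p p = 0)
    (hup : u ∉ Submodule.span ℂ {p}) {w : V} (hw : 3 * T w p p = 1)
    (h : ∀ k, 3 * T k p p = 0 → T k u u = 0) : False := by
  obtain ⟨t, ht⟩ := exists_quad (6 * T w u p) (3 * T w u u)
  have hz : u + t • p ≠ 0 := fun h0 => hup (by
    rw [eq_neg_of_add_eq_zero_left h0]
    exact neg_mem (Submodule.smul_mem _ t (Submodule.mem_span_singleton_self p)))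
  obtain ⟨x, hx⟩ := hs _ hz
  apply hx
  have hk : 3 * T (x - (3 * T x p p) • w) p p = 0 := by
    simp only [map_sub, map_smul, LinearMap.sub_apply, LinearMap.smul_apply, smul_eq_mul]
    linear_combination (-(3 * T x p p)) * hw
  have h1 := h _ hk
  have h2 := polar hM (x - (3 * T x p p) • w) u
  rw [hk, hu, zero_mul, zero_mul, add_zero] at h2
  simp only [map_sub, map_smul, LinearMap.sub_apply, LinearMap.smul_apply, smul_eq_mul] at h1 h2 hk
  simp only [map_add, map_smul, LinearMap.add_apply, LinearMap.smul_apply, smul_eq_mul]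
  rw [T.s23 x p u]
  linear_combination h1 + (t / 3) * h2 + T x p p * ht

/-- the converse: the centre of an involution on the surface is an Eckardt point -/
theorem isEck_of_hasInv (hs : Smooth T) {p : V} (hp : p ≠ 0) {M} (hM : HasInv T p M) : IsEck T p := by
  obtain ⟨w, hw⟩ := exists_H_one hs hp
  set K := LinearMap.ker (H T p) with hKdef
  have hK : ∀ x, x ∈ K ↔ 3 * T x p p = 0 := fun x => by rw [hKdef, LinearMap.mem_ker, H_apply]
  have hK3 : Module.finrank ℂ K = 3 := finrank_ker_eq_three (w := w) (by rw [H_apply, hw]; exact one_ne_zero)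
  have hpK : p ∈ K := (hK p).2 (by rw [hM.1, mul_zero])
  have hKp : ∀ x ∈ K, ∀ y ∈ K, T x y p = 0 := fun x hx y hy => by
    linear_combination (polar hM x y) / 6 + (M y / 6) * (hK x).1 hx + (M x / 6) * (hK y).1 hy
  obtain ⟨u₀, hu₀, hF⟩ : ∃ u₀ ∈ K, T u₀ u₀ u₀ ≠ 0 := by
    by_contra! hall
    obtain ⟨u, hu, hup⟩ : ∃ u ∈ K, u ∉ Submodule.span ℂ {p} := by
      by_contra! h
      have := Submodule.finrank_mono (show K ≤ Submodule.span ℂ {p} from h)
      rw [hK3, finrank_span_singleton hp] at this; omega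
    refine singular hs hM ((hK u).1 hu) hup hw fun k hk => ?_
    have hk' := (hK k).2 hk
    have h1 := hall _ (add_mem hu (Submodule.smul_mem _ (1 : ℂ) hk'))
    have h2 := hall _ (add_mem hu (Submodule.smul_mem _ (-1 : ℂ) hk'))
    rw [expand, hall u hu, hall k hk'] at h1 h2
    rw [T.s12 k u u, T.s23 u k u]
    linear_combination (h1 - h2) / 6
  have hu₀p : u₀ ∉ Submodule.span ℂ {p} := fun h => by
    obtain ⟨a, rfl⟩ := Submodule.mem_span_singleton.1 h
    simp [hM.1] at hF
  obtain ⟨u₁, hu₁, hu₁'⟩ : ∃ u₁ ∈ K, u₁ ∉ Submodule.span ℂ {p, u₀} := by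
    by_contra! h
    have := Submodule.finrank_mono (show K ≤ Submodule.span ℂ {p, u₀} from h)
    rw [hK3, finrank_pair hp hu₀p] at this; omega
  have hKspan : K ≤ Submodule.span ℂ {u₁} ⊔ Submodule.span ℂ {p, u₀} := by
    refine le_of_eq (Submodule.eq_of_le_of_finrank_le ?_ ?_).symm
    · refine sup_le ?_ ?_ <;> rw [Submodule.span_le]
      · simpa using hu₁
      · rintro z (rfl | rfl); exacts [hpK, hu₀]
    · rw [hK3]
      have : Submodule.span ℂ {p, u₀} < Submodule.span ℂ {u₁} ⊔ Submodule.span ℂ {p, u₀} :=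
        lt_of_le_of_ne le_sup_right fun h => hu₁' (h ▸ Submodule.mem_sup_left (Submodule.mem_span_singleton_self u₁))
      have := Submodule.finrank_lt_finrank_of_lt this
      rw [finrank_pair hp hu₀p] at this; omega
  let P : Polynomial ℂ := Polynomial.C (T u₀ u₀ u₀) * Polynomial.X ^ 3 + Polynomial.C (3 * T u₁ u₀ u₀) * Polynomial.X ^ 2
    + Polynomial.C (3 * T u₁ u₁ u₀) * Polynomial.X + Polynomial.C (T u₁ u₁ u₁)
  have hdeg : P.natDegree = 3 := by
    simp only [P]; compute_degree!
  have hP : P ≠ 0 := fun h => by simp [h] at hdeg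
  have hroot : ∀ r, P.IsRoot r → T (u₁ + r • u₀) (u₁ + r • u₀) (u₁ + r • u₀) = 0 := fun r hr => by
    simp [P] at hr
    rw [expand]; linear_combination hr
  have hmemK : ∀ r : ℂ, u₁ + r • u₀ ∈ K := fun r => add_mem hu₁ (Submodule.smul_mem _ r hu₀)
  have hnp : ∀ r : ℂ, u₁ + r • u₀ ∉ Submodule.span ℂ {p} := fun r h => hu₁' (by
    rw [← add_sub_cancel_right u₁ (r • u₀)]
    exact sub_mem (Submodule.span_mono (by simp) h) (Submodule.smul_mem _ r (Submodule.subset_span (by simp))))
  have hnodup : P.roots.Nodup := by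
    rw [Multiset.nodup_iff_count_le_one]
    intro r
    rw [Polynomial.count_roots]
    by_contra hlt
    push_neg at hlt
    obtain ⟨hr, hr'⟩ := (Polynomial.one_lt_rootMultiplicity_iff_isRoot hP).1 hlt
    refine singular hs hM ((hK _).1 (hmemK r)) (hnp r) hw fun k hk => ?_
    obtain ⟨a, ha, b, hb, rfl⟩ := Submodule.mem_sup.1 (hKspan ((hK k).2 hk))
    obtain ⟨γ, rfl⟩ := Submodule.mem_span_singleton.1 ha
    obtain ⟨α, β, rfl⟩ := Submodule.mem_span_pair.1 hb
    have h0 := hroot r hr
    have h1 : T u₀ (u₁ + r • u₀) (u₁ + r • u₀) = 0 := by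
      simp [P, Polynomial.derivative_pow] at hr'
      simp only [map_add, map_smul, LinearMap.add_apply, LinearMap.smul_apply, smul_eq_mul]
      rw [T.s12 u₀ u₁ u₁, T.s12 u₀ u₁ u₀, T.s23 u₀ u₀ u₁, T.s12 u₀ u₁ u₀, T.s23 u₁ u₀ u₁]
      linear_combination hr' / 3
    have h2 : T p (u₁ + r • u₀) (u₁ + r • u₀) = 0 := by
      rw [T.s12, T.s23]; exact hKp _ (hmemK r) _ (hmemK r)
    have hu : T (γ • u₁) (u₁ + r • u₀) (u₁ + r • u₀)
        = γ * (T (u₁ + r • u₀) (u₁ + r • u₀) (u₁ + r • u₀) - r * T u₀ (u₁ + r • u₀) (u₁ + r • u₀)) := by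
      generalize hz : u₁ + r • u₀ = z
      have : u₁ = z - r • u₀ := by rw [← hz]; abel
      rw [this]
      simp only [map_sub, map_smul, LinearMap.sub_apply, LinearMap.smul_apply, smul_eq_mul]
    generalize u₁ + r • u₀ = z at h0 h1 h2 hu ⊢
    simp only [map_add, map_smul, LinearMap.add_apply, LinearMap.smul_apply, smul_eq_mul] at hu ⊢
    linear_combination hu + γ * h0 + (β - γ * r) * h1 + α * h2
  have hcard : P.roots.card = 3 := by
    rw [← hdeg]; exact (IsAlgClosed.splits P).natDegree_eq_card_roots.symm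
  obtain ⟨a, b, c, habc⟩ := Multiset.card_eq_three.1 hcard
  have hr : ∀ i, P.IsRoot (![a, b, c] i) := fun i => by
    have : ![a, b, c] i ∈ P.roots := by rw [habc]; fin_cases i <;> simp
    exact (Polynomial.mem_roots hP).1 this
  have hinj : Function.Injective ![a, b, c] := by
    rw [habc] at hnodup
    simp at hnodup
    intro i j hij
    fin_cases i <;> fin_cases j <;> simp_all
  refine ⟨fun i => Submodule.span ℂ {p, u₁ + ![a, b, c] i • u₀}, fun i j hij => hinj ?_, fun i =>
    ⟨finrank_pair hp (hnp _), Submodule.subset_span (by simp), fun u hu => ?_⟩⟩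
  · have hm : u₁ + ![a, b, c] i • u₀ ∈ Submodule.span ℂ {p, u₁ + ![a, b, c] j • u₀} :=
      (show Submodule.span ℂ {p, u₁ + ![a, b, c] i • u₀} = Submodule.span ℂ {p, u₁ + ![a, b, c] j • u₀} from hij) ▸
        Submodule.subset_span (by simp)
    obtain ⟨α, β, hαβ⟩ := Submodule.mem_span_pair.1 hm
    have hβ : β = 1 := by
      by_contra hb
      apply hu₁'
      refine Submodule.mem_span_pair.2 ⟨-α / (β - 1), (![a, b, c] i - β * ![a, b, c] j) / (β - 1), ?_⟩
      have : (β - 1) • u₁ = (-α) • p + (![a, b, c] i - β * ![a, b, c] j) • u₀ := by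
        linear_combination (norm := module) hαβ
      apply smul_right_injective V (sub_ne_zero.2 hb)
      simp only [smul_add, smul_smul]
      rw [mul_div_cancel₀ _ (sub_ne_zero.2 hb), mul_div_cancel₀ _ (sub_ne_zero.2 hb), this]
    subst hβ
    by_contra hne
    apply hu₀p
    refine Submodule.mem_span_singleton.2 ⟨α / (![a, b, c] i - ![a, b, c] j), ?_⟩
    have : (![a, b, c] i - ![a, b, c] j) • u₀ = α • p := by
      linear_combination (norm := module) -hαβ
    rw [div_eq_inv_mul, mul_smul, ← this, smul_smul, inv_mul_cancel₀ (sub_ne_zero.2 hne), one_smul]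
  · obtain ⟨α, β, rfl⟩ := Submodule.mem_span_pair.1 hu
    rw [add_comm, hM.line]
    have h1 : 3 * T (u₁ + ![a, b, c] i • u₀) p p = 0 := (hK _).1 (hmemK _)
    have h2 := hroot _ (hr i)
    generalize u₁ + ![a, b, c] i • u₀ = z at h1 h2 ⊢
    simp only [map_smul, LinearMap.smul_apply, smul_eq_mul]
    linear_combination β ^ 3 * h2 + (α * β * M z + α ^ 2) * β * h1

end Groth.Agent.Lead.Eckardt
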