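import Mathlib
import Groth.Agent.GrNat.Basic

/-! Generators of a graded algebra. -/

set_option autoImplicit false

universe u

namespace Groth.Agent.Lead.GradedL

variable {R A : Type u} [CommRing R] [CommRing A] [Algebra R A] (𝒜 : ℕ → Submodule R A) [GradedAlgebra 𝒜]

theorem adjoin_eq_top_of_span {E : Set A} (hE : ∀ e ∈ E, ∃ d : ℕ, 0 < d ∧ e ∈ 𝒜 d)
    (hle : (HomogeneousIdeal.irrelevant 𝒜).toIdeal ≤ Ideal.span E) : Algebra.adjoin (A := A) (𝒜 0) E = ⊤ := by
  classical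
  have key : ∀ m, ∀ a ∈ 𝒜 m, a ∈ Algebra.adjoin (A := A) (𝒜 0) E := by
    intro m
    induction m using Nat.strong_induction_on with
    | _ m ih =>
      intro a ha
      rcases Nat.eq_zero_or_pos m with rfl | hm
      · exact Subalgebra.algebraMap_mem _ (⟨a, ha⟩ : 𝒜 0)
      obtain ⟨n, c, g, hc⟩ := Submodule.mem_span_set'.1 (hle (HomogeneousIdeal.mem_irrelevant_of_mem 𝒜 hm ha))
      rw [← DirectSum.decompose_of_mem_same 𝒜 ha, ← hc, DirectSum.decompose_sum, DFinsupp.finset_sum_apply,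
        AddSubmonoidClass.coe_finset_sum]
      refine Subalgebra.sum_mem _ fun x _ => ?_
      obtain ⟨d, hd, hxd⟩ := hE _ (g x).2
      rw [smul_eq_mul, DirectSum.coe_decompose_mul_of_right_mem 𝒜 m hxd]
      split_ifs with hdm
      · exact Subalgebra.mul_mem _ (ih (m - d) (by omega) _ (SetLike.coe_mem _)) (Algebra.subset_adjoin (g x).2)
      · exact zero_mem _
  rw [eq_top_iff]
  intro a _
  rw [← DirectSum.sum_support_decompose 𝒜 a]
  exact Subalgebra.sum_mem _ fun i _ => key i _ (SetLike.coe_mem _)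

theorem irrelevant_le_span {E : Set A} (hE : ∀ e ∈ E, ∃ d : ℕ, 0 < d ∧ e ∈ 𝒜 d)
    (h : Algebra.adjoin (A := A) (𝒜 0) E = ⊤) : (HomogeneousIdeal.irrelevant 𝒜).toIdeal ≤ Ideal.span E := by
  classical
  intro x hx
  suffices H : ∀ y, y - GradedRing.projZeroRingHom 𝒜 y ∈ Ideal.span E by
    have := H x
    rwa [GradedRing.projZeroRingHom_apply, ← GradedRing.proj_apply, (HomogeneousIdeal.mem_irrelevant_iff _ _).mp hx,
      sub_zero] at this
  intro y
  have hy : y ∈ Algebra.adjoin (A := A) (𝒜 0) E := h ▸ Algebra.mem_top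
  induction hy using Algebra.adjoin_induction with
  | mem z hz =>
    obtain ⟨d, hd, hzd⟩ := hE z hz
    rw [GradedRing.projZeroRingHom_apply, DirectSum.decompose_of_mem_ne 𝒜 hzd (Nat.pos_iff_ne_zero.mp hd), sub_zero]
    exact Ideal.subset_span hz
  | algebraMap r =>
    rw [GradedRing.projZeroRingHom_apply]
    erw [DirectSum.decompose_of_mem_same 𝒜 r.2]
    simp
  | add a b _ _ ha hb => rw [map_add, add_sub_add_comm]; exact add_mem ha hb
  | mul a b _ _ ha hb =>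
    rw [map_mul, mul_sub_mul_comm' a b]
    exact add_mem (Ideal.mul_mem_left _ _ hb) (Ideal.mul_mem_right _ _ ha)
where
  mul_sub_mul_comm' (a b : A) {a' b' : A} : a * b - a' * b' = a * (b - b') + (a - a') * b' := by ring

theorem irrelevant_eq_span {E : Set A} (hE : ∀ e ∈ E, ∃ d : ℕ, 0 < d ∧ e ∈ 𝒜 d)
    (h : Algebra.adjoin (A := A) (𝒜 0) E = ⊤) : (HomogeneousIdeal.irrelevant 𝒜).toIdeal = Ideal.span E := by
  refine le_antisymm (irrelevant_le_span 𝒜 hE h) (Ideal.span_le.mpr fun e he => ?_)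
  obtain ⟨d, hd, hed⟩ := hE e he
  exact HomogeneousIdeal.mem_irrelevant_of_mem 𝒜 hd hed

theorem irrelevant_fg [Algebra.FiniteType (𝒜 0) A] : (HomogeneousIdeal.irrelevant 𝒜).toIdeal.FG := by
  obtain ⟨s, hs, hsd⟩ := GrNat.hasGens_of_finiteType 𝒜
  exact ⟨s, (irrelevant_eq_span 𝒜 (fun e he => let ⟨n, hn, h⟩ := hsd e he; ⟨n, Nat.pos_of_ne_zero hn, h⟩) hs).symm⟩

theorem finiteType_of_noetherian [IsNoetherianRing A] : Algebra.FiniteType (𝒜 0) A :=
  GrNat.finiteType_of_hasGens 𝒜 (GrNat.hasGens_of_fg 𝒜 (IsNoetherian.noetherian _))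

theorem subset_pow [Algebra.FiniteType (𝒜 0) A] :
    ∃ D : ℕ, ∀ k m : ℕ, k * D ≤ m → (𝒜 m : Set A) ⊆ ((HomogeneousIdeal.irrelevant 𝒜).toIdeal ^ k : Ideal A) := by
  classical
  obtain ⟨s, hs, hsd⟩ := GrNat.hasGens_of_finiteType 𝒜
  have hE : ∀ e ∈ (s : Set A), ∃ d : ℕ, 0 < d ∧ e ∈ 𝒜 d := fun e he =>
    let ⟨n, hn, h⟩ := hsd e he; ⟨n, Nat.pos_of_ne_zero hn, h⟩
  choose d hd hd' using hE
  let D := 1 + s.attach.sup fun e => d e.1 e.2
  refine ⟨D, fun k => ?_⟩
  induction k with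
  | zero => intro m _ a _; simp
  | succ k ih =>
    intro m hm a ha
    have hD : 0 < D := Nat.lt_of_lt_of_le Nat.one_pos (Nat.le_add_right 1 _)
    have hm0 : 0 < m := lt_of_lt_of_le (Nat.mul_pos k.succ_pos hD) hm
    obtain ⟨n, c, g, hc⟩ := Submodule.mem_span_set'.1
      (irrelevant_le_span 𝒜 (fun e he => ⟨d e he, hd e he, hd' e he⟩) hs (HomogeneousIdeal.mem_irrelevant_of_mem 𝒜 hm0 ha))
    rw [← DirectSum.decompose_of_mem_same 𝒜 ha, ← hc, DirectSum.decompose_sum, DFinsupp.finset_sum_apply,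
      AddSubmonoidClass.coe_finset_sum]
    refine Ideal.sum_mem _ fun x _ => ?_
    rw [smul_eq_mul, DirectSum.coe_decompose_mul_of_right_mem 𝒜 m (hd' _ (g x).2)]
    split_ifs with hdm
    · rw [pow_succ]
      refine Ideal.mul_mem_mul (ih (m - d _ (g x).2) ?_ (SetLike.coe_mem _))
        (HomogeneousIdeal.mem_irrelevant_of_mem 𝒜 (hd _ (g x).2) (hd' _ (g x).2))
      have : d (g x).1 (g x).2 ≤ D := (Finset.le_sup (f := fun e : s => d e.1 e.2) (Finset.mem_attach s ⟨_, (g x).2⟩)).trans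
        (Nat.le_add_left _ 1)
      rw [Nat.succ_mul] at hm
      omega
    · exact zero_mem _

end Groth.Agent.Lead.GradedL
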