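import Groth.Agent.Lead.PlaneCubic
import Groth.Prelude.Def_W4c5monodromycubicsHesse

/-! Flexes of smooth plane cubics and the Hesse normal form. -/

namespace Groth.Agent.Lead.PlaneCubic

open MvPolynomial

variable {T : Sym3}

lemma flex_iff (v w : V) (hv : T v v v = 0) :
    (∀ t : ℂ, T (v + t • w) (v + t • w) (v + t • w) = t ^ 3 * T w w w) ↔ T v v w = 0 ∧ T v w w = 0 := by
  constructor
  · intro h
    have h1 := h 1
    have h2 := h (-1)
    rw [expand, hv] at h1 h2
    exact ⟨by linear_combination (h1 - h2) / 6, by linear_combination (h1 + h2) / 6⟩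
  · rintro ⟨h1, h2⟩ t
    rw [expand, hv, h1, h2]; ring

/-- a functional killing a spanning set is zero -/
lemma eq_zero_of_basis {v w u : V} (h : LinearIndependent ℂ ![v, w, u]) (l : V →ₗ[ℂ] ℂ)
    (hv : l v = 0) (hw : l w = 0) (hu : l u = 0) : l = 0 := by
  refine LinearMap.ext fun x => ?_
  have hx : x ∈ Submodule.span ℂ (Set.range ![v, w, u]) := by
    rw [h.span_eq_top_of_card_eq_finrank (by simp)]; trivial
  obtain ⟨c, rfl⟩ := (Submodule.mem_span_range_iff_exists_fun ℂ).1 hx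
  simp [Fin.sum_univ_three, hv, hw, hu]

lemma linInd3 {v w u : V} (hvw : LinearIndependent ℂ ![v, w]) (l : V →ₗ[ℂ] ℂ)
    (hv : l v = 0) (hw : l w = 0) (hu : l u ≠ 0) : LinearIndependent ℂ ![v, w, u] := by
  rw [Fintype.linearIndependent_iff]
  intro c hc
  simp [Fin.sum_univ_three] at hc
  have := congrArg l hc
  simp [hv, hw, hu] at this
  rw [this, zero_smul, add_zero] at hc
  obtain ⟨h0, h1⟩ := LinearIndependent.pair_iff.1 hvw _ _ hc
  intro i; fin_cases i <;> simpa

lemma pair_of_kernel (hs : Smooth T) {v w : V} (hv : v ≠ 0) (hw : w ≠ 0) (h : ∀ x, T x v w = 0) :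
    LinearIndependent ℂ ![v, w] := by
  rw [LinearIndependent.pair_iff' hv]
  intro a ha
  obtain ⟨x, hx⟩ := hs v hv
  have ha0 : a ≠ 0 := fun h0 => hw (by rw [← ha, h0, zero_smul])
  have := h x
  rw [← ha, map_smul, smul_eq_mul] at this
  exact hx ((mul_eq_zero.1 this).resolve_left ha0)

/-- the matrix of the quadratic polar -/
def hess (T : Sym3) (v : V) : Matrix (Fin 3) (Fin 3) ℂ :=
  Matrix.of fun i j => T v (Pi.single i 1) (Pi.single j 1)

lemma hess_mulVec (v w : V) (i : Fin 3) : (hess T v).mulVec w i = T v (Pi.single i 1) w := by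
  conv_rhs => rw [pi_eq_sum_univ' w]
  simp [hess, Matrix.mulVec, dotProduct, mul_comm]

lemma hess_eq_zero_iff (v w : V) : (hess T v).mulVec w = 0 ↔ ∀ x, T x v w = 0 := by
  constructor
  · intro h x
    rw [T.s12]
    conv_lhs => rw [pi_eq_sum_univ' x]
    have h' : ∀ i, T v (Pi.single i 1) w = 0 := fun i => by rw [← hess_mulVec, h]; rfl
    simp [h']
  · intro h
    ext i
    rw [hess_mulVec, T.s12, h]; rfl

lemma flex_iff_det (hs : Smooth T) {v : V} (hv : v ≠ 0) (hv0 : T v v v = 0) :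
    (∃ w : V, LinearIndependent ℂ ![v, w] ∧ ∀ t : ℂ, T (v + t • w) (v + t • w) (v + t • w) = t ^ 3 * T w w w)
      ↔ (hess T v).det = 0 := by
  rw [← Matrix.exists_mulVec_eq_zero_iff]
  constructor
  · rintro ⟨w, hli, h⟩
    obtain ⟨h1, h2⟩ := (flex_iff v w hv0).1 h
    obtain ⟨u, hu⟩ := hs v hv
    have hu' : T v v u ≠ 0 := by rw [T.s23, T.s12]; exact hu
    have hb : LinearIndependent ℂ ![v, w, u] := linInd3 hli (T v v) hv0 h1 hu'
    set l := T v w u / T v v u
    refine ⟨w - l • v, fun h0 => ?_, ?_⟩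
    · have := (LinearIndependent.pair_iff.1 hli (-l) 1 (by rw [one_smul, neg_smul, neg_add_eq_sub, h0])).2
      exact one_ne_zero this
    · rw [hess_eq_zero_iff]
      have hz : (T v (w - l • v) : V →ₗ[ℂ] ℂ) = 0 := eq_zero_of_basis hb _
        (by
          simp only [map_sub, map_smul, LinearMap.sub_apply, LinearMap.smul_apply, smul_eq_mul]
          rw [T.s23 v w v, h1, hv0]; ring)
        (by
          simp only [map_sub, map_smul, LinearMap.sub_apply, LinearMap.smul_apply, smul_eq_mul]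
          rw [h2, h1]; ring)
        (by
          simp only [map_sub, map_smul, LinearMap.sub_apply, LinearMap.smul_apply, smul_eq_mul]
          rw [div_mul_cancel₀ _ hu', sub_self])
      intro x
      rw [T.s12, T.s23, hz, LinearMap.zero_apply]
  · rintro ⟨w, hw, h⟩
    rw [hess_eq_zero_iff] at h
    exact ⟨w, pair_of_kernel hs hv hw h, (flex_iff v w hv0).2 ⟨h v, by rw [T.s12]; exact h w⟩⟩

/-- every smooth cubic has a flex -/
theorem exists_flex (hs : Smooth T) {f : MvPolynomial (Fin 3) ℂ} (hT : Represents T f) :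
    ∃ v : V, v ≠ 0 ∧ T v v v = 0 ∧ ∃ w : V, LinearIndependent ℂ ![v, w] ∧
      ∀ t : ℂ, T (v + t • w) (v + t • w) (v + t • w) = t ^ 3 * T w w w := by
  let N : Matrix (Fin 3) (Fin 3) (MvPolynomial (Fin 3) ℂ) := Matrix.of fun i j =>
    ∑ k : Fin 3, C (T (Pi.single k 1) (Pi.single i 1) (Pi.single j 1)) * X k
  have hN : ∀ v, eval v N.det = (hess T v).det := fun v => by
    rw [RingHom.map_det]
    congr 1
    ext i j
    simp only [RingHom.mapMatrix_apply, Matrix.map_apply, N, hess, Matrix.of_apply, map_sum, map_mul,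
      eval_C, eval_X]
    conv_rhs => rw [pi_eq_sum_univ' v]
    simp [mul_comm]
  obtain ⟨v, hv, h1, h2⟩ := common_zero f N.det (by rw [hT.1]; simp) (by
    rw [hN]
    have : hess T (0 : V) = 0 := by ext i j; simp [hess]
    rw [this, Matrix.det_zero])
  rw [hT.1] at h1
  rw [hN] at h2
  exact ⟨v, hv, h1, (flex_iff_det hs hv h1).2 h2⟩

lemma T_lin (p z : V) : T p z z
    = ((T (z + p) (z + p) (z + p) - T (z - p) (z - p) (z - p)) / 2 - T p p p) / 3 := by
  have h1 := expand T z p 1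
  have h2 := expand T z p (-1)
  simp only [one_smul, neg_smul] at h1 h2
  rw [← sub_eq_add_neg] at h2
  rw [h1, h2, T.s12 p z z, T.s23 z p z]; ring

lemma disc_ne_zero (hs : Smooth T) {P Q R : V} (hli : LinearIndependent ℂ ![P, Q, R]) {a α β γ : ℂ}
    (hα : α ≠ 0) (hβ : β ≠ 0)
    (hid : ∀ x y z : ℂ, T (x • P + y • Q + z • R) (x • P + y • Q + z • R) (x • P + y • Q + z • R)
        = a * (z ^ 3 + x * y * (α * x + β * y + γ * z))) : 27 * (α * β) + γ ^ 3 ≠ 0 := by
  intro h0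
  set x₁ := -γ / (3 * α) with hx
  set y₁ := -γ / (3 * β) with hy
  have ex : 3 * α * x₁ = -γ := by rw [hx]; field_simp
  have ey : 3 * β * y₁ = -γ := by rw [hy]; field_simp
  obtain ⟨p, hp⟩ := hs (x₁ • P + y₁ • Q + (1 : ℂ) • R) fun hh => by
    have := Fintype.linearIndependent_iff.1 hli ![x₁, y₁, 1] (by simpa [Fin.sum_univ_three] using hh) 2
    simp at this
  have hmem : p ∈ Submodule.span ℂ (Set.range ![P, Q, R]) := by
    rw [hli.span_eq_top_of_card_eq_finrank (by simp)]; trivial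
  obtain ⟨cf, rfl⟩ := (Submodule.mem_span_range_iff_exists_fun ℂ).1 hmem
  apply hp
  rw [T_lin, Fin.sum_univ_three]
  simp only [Matrix.cons_val_zero, Matrix.cons_val_one, Matrix.cons_val]
  rw [show x₁ • P + y₁ • Q + (1 : ℂ) • R + (cf 0 • P + cf 1 • Q + cf 2 • R) = (x₁ + cf 0) • P + (y₁ + cf 1) • Q + (1 + cf 2) • R by module,
    show x₁ • P + y₁ • Q + (1 : ℂ) • R - (cf 0 • P + cf 1 • Q + cf 2 • R) = (x₁ - cf 0) • P + (y₁ - cf 1) • Q + (1 - cf 2) • R by module,
    hid, hid, hid]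
  have g1 : y₁ * (2 * α * x₁ + β * y₁ + γ) = 0 := by linear_combination (2 * y₁ / 3) * ex + (y₁ / 3) * ey
  have g2 : x₁ * (α * x₁ + 2 * β * y₁ + γ) = 0 := by linear_combination (x₁ / 3) * ex + (2 * x₁ / 3) * ey
  have g3 : 3 + γ * (x₁ * y₁) = 0 := by
    apply mul_left_cancel₀ (mul_ne_zero (mul_ne_zero (by norm_num : (9 : ℂ) ≠ 0) hα) hβ)
    linear_combination (γ * 3 * β * y₁) * ex + (-γ ^ 2) * ey + h0
  linear_combination (a * cf 0 / 3) * g1 + (a * cf 1 / 3) * g2 + (a * cf 2 / 3) * g3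

/-- two flexes and their tangents -/
theorem normal_form (hs : Smooth T) {v w : V} (hv : v ≠ 0) (hv0 : T v v v = 0)
    (hli : LinearIndependent ℂ ![v, w]) (h : ∀ t : ℂ, T (v + t • w) (v + t • w) (v + t • w) = t ^ 3 * T w w w) :
    ∃ (P Q R : V) (a α β γ : ℂ), LinearIndependent ℂ ![P, Q, R] ∧ a ≠ 0 ∧ α ≠ 0 ∧ β ≠ 0 ∧
      27 * (α * β) + γ ^ 3 ≠ 0 ∧
      ∀ x y z : ℂ, T (x • P + y • Q + z • R) (x • P + y • Q + z • R) (x • P + y • Q + z • R)
        = a * (z ^ 3 + x * y * (α * x + β * y + γ * z)) := by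
  obtain ⟨h1, h2⟩ := (flex_iff v w hv0).1 h
  obtain ⟨u₀, hu₀⟩ := hs v hv
  have hu₀' : T v v u₀ ≠ 0 := by rw [T.s23, T.s12]; exact hu₀
  obtain ⟨u₁, hu₁⟩ : ∃ u₁, 3 * T v v u₁ = 1 := ⟨(3 * T v v u₀)⁻¹ • u₀, by
    rw [map_smul, smul_eq_mul]; field_simp⟩
  set w' := w - (3 * T v w u₁) • v with hw'
  have hw1 : T v v w' = 0 := by simp [hw', h1, hv0]
  have hw2 : T v w' w' = 0 := by
    simp only [hw', map_sub, map_smul, LinearMap.sub_apply, LinearMap.smul_apply, smul_eq_mul]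
    rw [T.s23 v w v, h1, h2, hv0]; ring
  have hw3 : T v w' u₁ = 0 := by
    simp only [hw', map_sub, map_smul, LinearMap.sub_apply, LinearMap.smul_apply, smul_eq_mul]
    linear_combination (-(T v w u₁)) * hu₁
  set u := u₁ - (3 / 2 * T v u₁ u₁) • v with hu
  have huv : 3 * T v v u = 1 := by
    simp only [hu, map_sub, map_smul, smul_eq_mul]
    linear_combination hu₁ - (9 / 2 * T v u₁ u₁) * hv0
  have hw4 : T v w' u = 0 := by
    simp only [hu, map_sub, map_smul, smul_eq_mul]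
    rw [hw3, T.s23 v w' v, hw1]; ring
  have hu4 : T v u u = 0 := by
    simp only [hu, map_sub, map_smul, LinearMap.sub_apply, LinearMap.smul_apply, smul_eq_mul]
    rw [T.s23 v u₁ v, hv0]
    linear_combination (-(T v u₁ u₁)) * hu₁
  have hli' : LinearIndependent ℂ ![v, w'] := by
    rw [LinearIndependent.pair_iff] at hli ⊢
    intro s t hst
    obtain ⟨e1, e2⟩ := hli (s - t * (3 * T v w u₁)) t (by rw [← hst, hw']; module)
    exact ⟨by rw [e2] at e1; linear_combination e1, e2⟩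
  have hb : LinearIndependent ℂ ![v, w', u] :=
    linInd3 hli' (T v v) hv0 hw1 (fun h0 => by rw [h0, mul_zero] at huv; exact zero_ne_one huv)
  have hform : ∀ y m z : ℂ, T (y • v + m • w' + z • u) (y • v + m • w' + z • u) (y • v + m • w' + z • u)
      = y ^ 2 * z + T w' w' w' * m ^ 3 + 3 * T w' w' u * m ^ 2 * z + 3 * T w' u u * m * z ^ 2
        + T u u u * z ^ 3 := by
    intro y m z
    simp only [map_add, map_smul, LinearMap.add_apply, LinearMap.smul_apply, smul_eq_mul]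
    rw [T.s23 v w' v, T.s12 w' v v, T.s23 v w' v, T.s23 v u v, T.s12 u v v, T.s23 v u v, T.s12 w' v w',
      T.s23 w' w' v, T.s12 w' v w', T.s12 u v w', T.s23 v u w', T.s12 w' v u, T.s23 w' u v, T.s12 w' v u,
      T.s23 u w' v, T.s12 u v w', T.s23 v u w', T.s12 u v u, T.s23 u u v, T.s12 u v u,
      T.s23 w' u w', T.s12 u w' w', T.s23 w' u w', T.s12 u w' u, T.s23 u u w', T.s12 u w' u,
      hv0, hw1, hw2, hw4, hu4]
    linear_combination (y ^ 2 * z) * huv
  set a := T w' w' w' with ha_def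
  set b := 3 * T w' w' u
  set c := 3 * T w' u u
  set d := T u u u
  have hgrad : ∀ y m z : ℂ, (∀ p : V, ∃ dy dm dz : ℂ, p = dy • v + dm • w' + dz • u) := by
    intro _ _ _ p
    have hp : p ∈ Submodule.span ℂ (Set.range ![v, w', u]) := by
      rw [hb.span_eq_top_of_card_eq_finrank (by simp)]; trivial
    obtain ⟨cf, rfl⟩ := (Submodule.mem_span_range_iff_exists_fun ℂ).1 hp
    exact ⟨cf 0, cf 1, cf 2, by simp [Fin.sum_univ_three]⟩
  have hnz : ∀ y m z : ℂ, y • v + m • w' + z • u = 0 → y = 0 ∧ m = 0 ∧ z = 0 := by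
    intro y m z hh
    have := Fintype.linearIndependent_iff.1 hb ![y, m, z] (by simp [Fin.sum_univ_three, hh])
    exact ⟨this 0, this 1, this 2⟩
  have hsing : ∀ y m z : ℂ, (y ≠ 0 ∨ m ≠ 0 ∨ z ≠ 0) → 2 * y * z = 0 →
      3 * a * m ^ 2 + 2 * b * m * z + c * z ^ 2 = 0 → y ^ 2 + b * m ^ 2 + 2 * c * m * z + 3 * d * z ^ 2 = 0 → False := by
    intro y m z hne e1 e2 e3
    obtain ⟨p, hp⟩ := hs (y • v + m • w' + z • u) fun hh => by
      obtain ⟨r1, r2, r3⟩ := hnz y m z hh
      rcases hne with q | q | q <;> contradiction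
    obtain ⟨dy, dm, dz, rfl⟩ := hgrad y m z p
    apply hp
    rw [T_lin]
    rw [show y • v + m • w' + z • u + (dy • v + dm • w' + dz • u) = (y + dy) • v + (m + dm) • w' + (z + dz) • u by module,
      show y • v + m • w' + z • u - (dy • v + dm • w' + dz • u) = (y - dy) • v + (m - dm) • w' + (z - dz) • u by module,
      hform, hform, hform]
    linear_combination (dy / 3) * e1 + (dm / 3) * e2 + (dz / 3) * e3
  have ha : a ≠ 0 := fun h0 => by
    obtain ⟨y, hy⟩ := IsAlgClosed.exists_pow_nat_eq (-b) (n := 2) two_pos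
    exact hsing y 1 0 (Or.inr (Or.inl one_ne_zero)) (by ring) (by rw [h0]; ring) (by linear_combination hy)
  let ψ : Polynomial ℂ := (Polynomial.C (3 * a) * Polynomial.X ^ 2 + Polynomial.C (2 * b) * Polynomial.X + Polynomial.C c) ^ 2
    - 2 * (Polynomial.C a * Polynomial.X ^ 3 + Polynomial.C b * Polynomial.X ^ 2 + Polynomial.C c * Polynomial.X + Polynomial.C d)
      * (Polynomial.C (6 * a) * Polynomial.X + Polynomial.C (2 * b))
  have hψ : ψ = Polynomial.C (-3 * a ^ 2) * Polynomial.X ^ 4 + Polynomial.C (-4 * a * b) * Polynomial.X ^ 3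
      + Polynomial.C (-6 * a * c) * Polynomial.X ^ 2 + Polynomial.C (-12 * a * d) * Polynomial.X
      + Polynomial.C (c ^ 2 - 4 * b * d) := by
    simp only [ψ, map_mul, map_sub, map_pow, map_neg, map_ofNat]; ring
  have hdeg : ψ.natDegree = 4 := by
    rw [hψ]; compute_degree!
  obtain ⟨x₀, hx₀⟩ := IsAlgClosed.exists_root ψ (fun h0 => by
    rw [Polynomial.natDegree_eq_of_degree_eq_some (n := 0) h0] at hdeg; omega)
  simp [ψ] at hx₀
  set G := a * x₀ ^ 3 + b * x₀ ^ 2 + c * x₀ + d with hG_def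
  set G1 := 3 * a * x₀ ^ 2 + 2 * b * x₀ + c with hG1_def
  have hG : G ≠ 0 := fun h0 => by
    have e : G1 = 0 := by
      rw [h0] at hx₀
      simpa using hx₀
    refine hsing 0 x₀ 1 (Or.inr (Or.inr one_ne_zero)) (by ring) (by linear_combination e) ?_
    linear_combination 3 * h0 - x₀ * e + (x₀ ^ 2 * 0) * e
  obtain ⟨y₀, hy₀⟩ := IsAlgClosed.exists_pow_nat_eq (-G) (n := 2) two_pos
  have hy : y₀ ≠ 0 := fun h0 => hG (by rw [h0] at hy₀; linear_combination hy₀)
  set l := -G1 / (2 * y₀) with hl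
  have hl1 : 2 * y₀ * l = -G1 := by rw [hl]; field_simp
  have hl2 : -(l ^ 2) = 3 * a * x₀ + b := by
    apply mul_left_cancel₀ (mul_ne_zero (by norm_num : (4 : ℂ) ≠ 0) (pow_ne_zero 2 hy))
    linear_combination -(2 * y₀ * l - G1) * hl1 - hx₀ - 4 * (3 * a * x₀ + b) * hy₀
  set q := x₀ • w' + u
  set k := (2 * y₀)⁻¹ with hk
  have hk1 : 2 * y₀ * k = 1 := by rw [hk]; field_simp
  have hLI : LinearIndependent ℂ ![(1 / 2 : ℂ) • v - k • q, (1 / 2 : ℂ) • v + k • q, w' - (2 * l * k) • q] := by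
    rw [Fintype.linearIndependent_iff]
    intro cf hcf
    simp [Fin.sum_univ_three] at hcf
    have hh := hnz (cf 0 / 2 + cf 1 / 2) (cf 2 + x₀ * (-cf 0 * k + cf 1 * k - cf 2 * (2 * l * k)))
      (-cf 0 * k + cf 1 * k - cf 2 * (2 * l * k)) (by rw [← hcf]; simp only [q]; module)
    obtain ⟨r1, r2, r3⟩ := hh
    rw [r3, mul_zero, add_zero] at r2
    rw [r2, zero_mul, sub_zero] at r3
    have r4 : cf 1 - cf 0 = 0 := by
      apply (mul_eq_zero.1 (show (cf 1 - cf 0) * k = 0 by linear_combination r3)).resolve_right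
      rw [hk]; exact inv_ne_zero (mul_ne_zero two_ne_zero hy)
    intro i
    fin_cases i
    · simp; linear_combination r1 - r4 / 2
    · simp; linear_combination r1 + r4 / 2
    · simpa using r2
  have hid : ∀ x y z : ℂ, T (x • ((1 / 2 : ℂ) • v - k • q) + y • ((1 / 2 : ℂ) • v + k • q) + z • (w' - (2 * l * k) • q))
      (x • ((1 / 2 : ℂ) • v - k • q) + y • ((1 / 2 : ℂ) • v + k • q) + z • (w' - (2 * l * k) • q))
      (x • ((1 / 2 : ℂ) • v - k • q) + y • ((1 / 2 : ℂ) • v + k • q) + z • (w' - (2 * l * k) • q))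
      = a * (z ^ 3 + x * y * ((-k / a) * x + (k / a) * y + (-(2 * l * k) / a) * z)) := by
    intro x y z
    rw [show x • ((1 / 2 : ℂ) • v - k • q) + y • ((1 / 2 : ℂ) • v + k • q) + z • (w' - (2 * l * k) • q)
      = (x / 2 + y / 2) • v + (z + x₀ * (k * (y - x - 2 * l * z))) • w' + (k * (y - x - 2 * l * z)) • u from by
      simp only [q]; module, hform,
      show a * (z ^ 3 + x * y * ((-k / a) * x + (k / a) * y + (-(2 * l * k) / a) * z))
        = a * z ^ 3 + x * y * (k * (y - x - 2 * l * z)) by field_simp; ring]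
    rw [hG_def] at hy₀
    rw [hG1_def] at hl1
    generalize hS : y - x - 2 * l * z = S
    linear_combination (-(z ^ 2 * (k * S))) * hl2 + (z * (k * S) ^ 2) * hl1 + (k * S) ^ 3 * hy₀
      - (k * S * S / 2 * (2 * l * z + y₀ * (k * S) + S / 2)) * hk1 - (k * S / 4 * (y - x + 2 * l * z + S)) * hS * (-1)
  have hα : -k / a ≠ 0 := by rw [hk]; simp [hy, ha]
  have hβ : k / a ≠ 0 := by rw [hk]; simp [hy, ha]
  exact ⟨_, _, _, a, _, _, _, hLI, ha, hα, hβ, disc_ne_zero hs hLI hα hβ hid, hid⟩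

end Groth.Agent.Lead.PlaneCubic
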