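import Groth.Agent.Lead.HessePencil
import Mathlib.LinearAlgebra.Matrix.Permutation
import Mathlib.Data.Fintype.Perm
import Mathlib.GroupTheory.Perm.Sign

/-! The automorphism group of a general Hesse cubic. -/

namespace Groth.Agent.Lead.PlaneCubic

open MvPolynomial

/-- the excluded parameters -/
noncomputable def badPoly : Polynomial ℂ :=
  Polynomial.X * (Polynomial.X ^ 3 - 1) * (Polynomial.X ^ 3 + 8) * (Polynomial.X ^ 6 - 20 * Polynomial.X ^ 3 - 8)

lemma badPoly_ne : badPoly ≠ 0 := by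
  intro h
  have := congrArg (Polynomial.eval (3 : ℂ)) h
  simp [badPoly] at this
  norm_num at this

def swapV (x : V) : V := ![x 0, x 2, x 1]

/-- the coordinates (tangent, polar) adapted to the flex `base` -/
noncomputable def frame (k x L s : ℂ) : V := ![x, (L - k * x) / 2 + s, (L - k * x) / 2 - s]

/-- automorphisms fixing the flex `base` -/
theorem fix_base {k : ℂ} (hk : badPoly.eval k ≠ 0) (B : V →ₗ[ℂ] V) (hB : Function.Injective B) {C₀ d : ℂ}
    (hC : C₀ ≠ 0) (hb : B base = d • base)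
    (h : ∀ x, hesseT k (B x) (B x) (B x) = C₀ * hesseT k x x x) :
    ∃ p : ℂ, (∀ x, B x = p • x) ∨ (∀ x, B x = p • swapV x) := by
  simp [badPoly] at hk
  obtain ⟨⟨⟨hk0, hk1⟩, hk8⟩, hk6⟩ := hk
  have hD : 4 - 4 * k ^ 3 ≠ 0 := fun h0 => hk1 (by linear_combination -h0 / 4)
  set D := 4 - 4 * k ^ 3 with hD'
  have hcoord : ∀ y : V, y = frame k (y 0) (y 1 + y 2 + k * y 0) ((y 1 - y 2) / 2) := fun y => by
    ext i; fin_cases i <;> simp [frame] <;> ring
  obtain ⟨a, b, cE, hE⟩ : ∃ a b c, B (frame k 1 0 0) = frame k a b c := ⟨_, _, _, hcoord _⟩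
  obtain ⟨q, l, cN, hN⟩ : ∃ a b c, B (frame k 0 1 0) = frame k a b c := ⟨_, _, _, hcoord _⟩
  have hlin : ∀ x L s, frame k x L s = x • frame k 1 0 0 + L • frame k 0 1 0 + s • base := fun x L s => by
    ext i; fin_cases i <;> simp [frame, base] <;> ring
  have hBf : ∀ x L s, B (frame k x L s) = frame k (a * x + q * L) (b * x + l * L) (cE * x + cN * L + d * s) := by
    intro x L s
    rw [hlin x L s, map_add, map_add, map_smul, map_smul, map_smul, hE, hN, hb]
    ext i; fin_cases i <;> simp [frame, base] <;> ring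
  have hF : ∀ x L s, hesseT k (frame k x L s) (frame k x L s) (frame k x L s)
      = (D * x ^ 3 + 9 * k ^ 2 * L * x ^ 2 - 6 * k * L ^ 2 * x + L ^ 3 + 12 * s ^ 2 * L) / 4 := fun x L s => by
    simp [hesseT, frame, hD']; ring
  have E : ∀ x L s : ℂ,
      (D * (a * x + q * L) ^ 3 + 9 * k ^ 2 * (b * x + l * L) * (a * x + q * L) ^ 2
        - 6 * k * (b * x + l * L) ^ 2 * (a * x + q * L) + (b * x + l * L) ^ 3
        + 12 * (cE * x + cN * L + d * s) ^ 2 * (b * x + l * L))
      = C₀ * (D * x ^ 3 + 9 * k ^ 2 * L * x ^ 2 - 6 * k * L ^ 2 * x + L ^ 3 + 12 * s ^ 2 * L) := fun x L s => by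
    have := h (frame k x L s)
    rw [hBf, hF, hF] at this
    linear_combination 4 * this
  have hd : d ≠ 0 := fun h0 => by
    have hne : base = 0 := hB (by rw [hb, h0, zero_smul, map_zero])
    simpa [base] using congrFun hne 1
  have hb0 : b = 0 := by
    have h1 : d ^ 2 * b = 0 := by linear_combination (E 1 0 1 + E 1 0 (-1) - 2 * E 1 0 0) / 24
    exact (mul_eq_zero.1 h1).resolve_left (pow_ne_zero 2 hd)
  subst hb0
  have hl : d ^ 2 * l = C₀ := by linear_combination (E 0 1 1 + E 0 1 (-1) - 2 * E 0 1 0) / 24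
  have hl0 : l ≠ 0 := fun h0 => hC (by rw [← hl, h0, mul_zero])
  have hcN : cN = 0 := by
    have h1 : d * l * cN = 0 := by linear_combination (E 0 1 1 - E 0 1 (-1)) / 48
    exact (mul_eq_zero.1 h1).resolve_left (mul_ne_zero hd hl0)
  subst hcN
  have hcE : cE = 0 := by
    have h1 : d * l * cE = 0 := by linear_combination (E 1 1 1 - E 1 1 (-1)) / 48
    exact (mul_eq_zero.1 h1).resolve_left (mul_ne_zero hd hl0)
  subst hcE
  have ha3 : a ^ 3 = C₀ := mul_left_cancel₀ hD (by linear_combination E 1 0 0)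
  have ha : a ≠ 0 := fun h0 => hC (by rw [← ha3, h0]; ring)
  have e30 : D * q ^ 3 + 9 * k ^ 2 * l * q ^ 2 - 6 * k * l ^ 2 * q + l ^ 3 = C₀ := by linear_combination E 0 1 0
  have e12 : 3 * D * q = 9 * k ^ 2 * (a - l) := by
    apply mul_left_cancel₀ (pow_ne_zero 2 ha)
    linear_combination (E 1 1 0 - E 1 (-1) 0) / 2 - e30 - 9 * k ^ 2 * ha3
  have e21 : 3 * D * q ^ 2 + 18 * k ^ 2 * l * q - 6 * k * l ^ 2 = -6 * k * a ^ 2 := by
    apply mul_left_cancel₀ ha
    linear_combination (E 1 1 0 + E 1 (-1) 0) / 2 - D * ha3 + 6 * k * ha3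
  have hq : D * q = 3 * k ^ 2 * (a - l) := by linear_combination e12 / 3
  have hP : 6 * k * D + 27 * k ^ 4 ≠ 0 := fun h0 => by
    have : k * (k ^ 3 + 8) = 0 := by rw [hD'] at h0; linear_combination h0 / 3
    exact (mul_eq_zero.1 this).elim hk0 hk8
  have hal : (a - l) * (a + l) = 0 := by
    have h1 : (a ^ 2 - l ^ 2) * (6 * k * D + 27 * k ^ 4) = 0 := by
      linear_combination D * e21 - (3 * (D * q + 3 * k ^ 2 * (a - l)) + 18 * k ^ 2 * l) * hq
    linear_combination (mul_eq_zero.1 h1).resolve_right hP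
  have hla : l = a := by
    rcases mul_eq_zero.1 hal with h1 | h1
    · linear_combination -h1
    · exfalso
      have hl' : l = -a := by linear_combination h1
      subst hl'
      have h2 : a ^ 3 * (-2 * D ^ 2 - 36 * k ^ 3 * D - 108 * k ^ 6) = 0 := by
        linear_combination D ^ 2 * e30 - D ^ 2 * ha3
          - ((D * q) ^ 2 + (D * q) * (6 * k ^ 2 * a) + 36 * k ^ 4 * a ^ 2 - 9 * k ^ 2 * a * (D * q + 6 * k ^ 2 * a)
            - 6 * k * D * a ^ 2) * hq
      refine hk6 ?_
      have h3 := (mul_eq_zero.1 h2).resolve_left (pow_ne_zero 3 ha)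
      rw [hD'] at h3
      linear_combination h3 / 4
  subst hla
  have hq0 : q = 0 := by
    have : D * q = 0 := by linear_combination hq
    exact (mul_eq_zero.1 this).resolve_left hD
  subst hq0
  have hdd : (d - l) * (d + l) = 0 := by
    apply mul_left_cancel₀ hl0
    linear_combination hl - ha3
  refine ⟨l, ?_⟩
  rcases mul_eq_zero.1 hdd with h1 | h1
  · left
    intro y
    obtain rfl : d = l := by linear_combination h1
    conv_lhs => rw [hcoord y, hBf]
    ext i; fin_cases i <;> simp [frame] <;> ring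
  · right
    intro y
    obtain rfl : d = -l := by linear_combination h1
    conv_lhs => rw [hcoord y, hBf]
    ext i; fin_cases i <;> simp [frame, swapV] <;> ring

/-- monomial matrices -/
noncomputable def mono (σ : Equiv.Perm (Fin 3)) (e : V) (μ : ℂ) : Matrix (Fin 3) (Fin 3) ℂ :=
  μ • (σ.permMatrix ℂ * Matrix.diagonal e)

lemma mono_mulVec (σ : Equiv.Perm (Fin 3)) (e : V) (μ : ℂ) (x : V) :
    (mono σ e μ).mulVec x = μ • (fun i => e (σ i) * x (σ i)) := by
  ext i
  simp [mono, Matrix.smul_mulVec, ← Matrix.mulVec_mulVec, Matrix.permMatrix_mulVec, Matrix.mulVec_diagonal]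

lemma mono_det (σ : Equiv.Perm (Fin 3)) (e : V) (μ : ℂ) :
    (mono σ e μ).det = μ ^ 3 * ((Equiv.Perm.sign σ : ℤ) : ℂ) * (e 0 * e 1 * e 2) := by
  simp [mono, Matrix.det_smul, Matrix.det_permutation, Fin.prod_univ_three]; ring

lemma sign_cube (σ : Equiv.Perm (Fin 3)) : ((Equiv.Perm.sign σ : ℤ) : ℂ) ^ 3 = ((Equiv.Perm.sign σ : ℤ) : ℂ) := by
  rcases Int.units_eq_one_or (Equiv.Perm.sign σ) with h | h <;> rw [h] <;> norm_num

theorem classify {k : ℂ} (hk : badPoly.eval k ≠ 0) (A : Matrix (Fin 3) (Fin 3) ℂ) (hdet : A.det = 1)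
    {c : ℂ} (hA : ∀ x, hesseT k (A.mulVec x) (A.mulVec x) (A.mulVec x) = c * hesseT k x x x) :
    ∃ (σ : Equiv.Perm (Fin 3)) (e : V) (μ : ℂ), (∀ i, e i ^ 3 = 1) ∧ e 0 * e 1 * e 2 = 1 ∧ A = mono σ e μ := by
  have hk1 : k ^ 3 ≠ 1 := fun h => hk (by simp [badPoly, h])
  have hAu : IsUnit A.det := by rw [hdet]; exact isUnit_one
  have hinj : Function.Injective A.mulVec :=
    Matrix.mulVec_injective_iff_isUnit.2 ((Matrix.isUnit_iff_isUnit_det A).2 hAu)
  have hsurj : Function.Surjective A.mulVec :=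
    Matrix.mulVec_surjective_iff_isUnit.2 ((Matrix.isUnit_iff_isUnit_det A).2 hAu)
  have hc : c ≠ 0 := fun h0 => by
    obtain ⟨x, hx⟩ := hsurj ![1, 0, 0]
    have := hA x
    rw [hx, h0, zero_mul] at this
    simp [hesseT] at this
  set v := A.mulVec base with hv_def
  have hb0 : base ≠ 0 := fun h => by simpa [base] using congrFun h 1
  have hv : v ≠ 0 := fun h => hb0 (hinj (by rw [← hv_def, h, Matrix.mulVec_zero]))
  have hv0 : hesseT k v v v = 0 := by rw [hA, base_flex, mul_zero]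
  have hfl : ∃ w : V, LinearIndependent ℂ ![v, w] ∧
      ∀ t : ℂ, eval (v + t • w) (HesseCubic.form k) = t ^ 3 * eval w (HesseCubic.form k) := by
    obtain ⟨w, hli, hw⟩ := (hesse_flex_iff k hk1 base hb0 (by rw [(hesse_rep k).1, base_flex])).2
      ⟨1, 1, one_pow 3, Or.inl (by simp [base])⟩
    refine ⟨A.mulVec w, ?_, fun t => ?_⟩
    · rw [LinearIndependent.pair_iff] at hli ⊢
      intro s t hst
      apply hli
      apply hinj
      rw [Matrix.mulVec_add, Matrix.mulVec_smul, Matrix.mulVec_smul, ← hv_def, hst, Matrix.mulVec_zero]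
    · have := hw t
      simp only [(hesse_rep k).1] at this ⊢
      rw [hv_def, ← Matrix.mulVec_smul, ← Matrix.mulVec_add, hA, hA, this]; ring
  obtain ⟨γ, d, hγ, hp⟩ := (hesse_flex_iff k hk1 v hv (by rw [(hesse_rep k).1]; exact hv0)).1 hfl
  have h0 : γ ≠ 0 := fun h => by rw [h] at hγ; norm_num at hγ
  let g₀ := diagE (γ ^ 2) γ (pow_ne_zero 2 h0) h0
  have hd := isAut_diag k (γ ^ 2) γ (pow_ne_zero 2 h0) h0 (by linear_combination (γ ^ 3 + 1) * hγ) hγ
    (by linear_combination hγ)
  obtain ⟨g, n, hg, hgb, hgx⟩ : ∃ (g : V ≃ₗ[ℂ] V) (n : Fin 3), IsAut k g ∧ v = d • g base ∧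
      ∀ x, g x = fun i => g₀ x (Equiv.subRight n i) := by
    rcases hp with h | h | h
    · exact ⟨g₀, 0, hd, by rw [h]; congr 1; ext i; fin_cases i <;> simp [g₀, diagE, base],
        fun x => by ext i; fin_cases i <;> simp [Equiv.subRight]⟩
    · exact ⟨g₀.trans cyc, 1, hd.trans (isAut_cyc k), by rw [h]; congr 1; ext i; fin_cases i <;> simp [g₀, diagE, base, cyc],
        fun x => by ext i; fin_cases i <;> simp [Equiv.subRight, cyc] <;> rfl⟩
    · exact ⟨(g₀.trans cyc).trans cyc, 2, (hd.trans (isAut_cyc k)).trans (isAut_cyc k),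
        by rw [h]; congr 1; ext i; fin_cases i <;> simp [g₀, diagE, base, cyc],
        fun x => by ext i; fin_cases i <;> simp [Equiv.subRight, cyc] <;> rfl⟩
  obtain ⟨p, hB⟩ := fix_base hk (g.symm.toLinearMap ∘ₗ A.mulVecLin)
    (g.symm.injective.comp hinj) hc (d := d)
    (by simp [← hv_def, hgb]) (fun x => by
      simp only [LinearMap.comp_apply, LinearEquiv.coe_coe, Matrix.mulVecLin_apply]
      rw [hg.symm, hA])
  rcases hB with hB | hB
  · refine ⟨Equiv.subRight n, ![γ ^ 2, 1, γ], p, fun i => ?_, ?_, ?_⟩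
    · fin_cases i <;> simp [hγ]; linear_combination (γ ^ 3 + 1) * hγ
    · simp; linear_combination hγ
    · refine Matrix.toLin'.injective (LinearMap.ext fun x => ?_)
      rw [Matrix.toLin'_apply, Matrix.toLin'_apply, mono_mulVec]
      have := congrArg g (hB x)
      simp only [LinearMap.comp_apply, LinearEquiv.coe_coe, Matrix.mulVecLin_apply, LinearEquiv.apply_symm_apply,
        map_smul] at this
      rw [this, hgx]
      ext i
      simp only [Pi.smul_apply, g₀]
      generalize Equiv.subRight n i = j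
      fin_cases j <;> simp [diagE]
  · refine ⟨(Equiv.subRight n).trans (Equiv.swap 1 2), ![γ ^ 2, γ, 1], p, fun i => ?_, ?_, ?_⟩
    · fin_cases i <;> simp [hγ]; linear_combination (γ ^ 3 + 1) * hγ
    · simp; linear_combination hγ
    · refine Matrix.toLin'.injective (LinearMap.ext fun x => ?_)
      rw [Matrix.toLin'_apply, Matrix.toLin'_apply, mono_mulVec]
      have := congrArg g (hB x)
      simp only [LinearMap.comp_apply, LinearEquiv.coe_coe, Matrix.mulVecLin_apply, LinearEquiv.apply_symm_apply,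
        map_smul] at this
      rw [this, hgx]
      ext i
      simp only [Pi.smul_apply, g₀, Equiv.trans_apply]
      generalize Equiv.subRight n i = j
      fin_cases j <;> simp [diagE, swapV, Equiv.swap_apply_def]

lemma mono_aut (k : ℂ) (σ : Equiv.Perm (Fin 3)) (e : V) (μ : ℂ) (he : ∀ i, e i ^ 3 = 1) (hp : e 0 * e 1 * e 2 = 1)
    (x : V) : hesseT k ((mono σ e μ).mulVec x) ((mono σ e μ).mulVec x) ((mono σ e μ).mulVec x)
      = μ ^ 3 * hesseT k x x x := by
  have key : ∀ y : V, hesseT k y y y = (∑ i, y i ^ 3) - 3 * k * ∏ i, y i := fun y => by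
    simp [hesseT, Fin.sum_univ_three, Fin.prod_univ_three]; ring
  rw [mono_mulVec, key, key]
  simp only [Pi.smul_apply, smul_eq_mul, mul_pow, Finset.prod_mul_distrib, ← Finset.mul_sum]
  rw [Equiv.sum_comp σ (fun i => e i ^ 3 * x i ^ 3), Equiv.prod_comp σ e, Equiv.prod_comp σ x]
  simp only [he, one_mul, Fin.prod_univ_three, hp, Finset.prod_const, Finset.card_univ, Fintype.card_fin]
  ring

theorem count {k : ℂ} (hk : badPoly.eval k ≠ 0) :
    Nat.card {A : Matrix (Fin 3) (Fin 3) ℂ // A.det = 1 ∧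
      ∃ c : ℂ, aeval (fun i : Fin 3 => ∑ j : Fin 3, C (A i j) * X j) (HesseCubic.form k) =
        C c * HesseCubic.form k} = 54 := by
  obtain ⟨ω, hω⟩ := exists_omega
  have hω3 : ω ^ 3 = 1 := by linear_combination (ω - 1) * hω
  have hω0 : ω ≠ 0 := fun h => by rw [h] at hω; norm_num at hω
  have hω1 : ω ≠ 1 := fun h => by rw [h] at hω; norm_num at hω
  have hω2 : ω ^ 2 ≠ 1 := fun h => hω1 (by linear_combination hω3 - ω * h)
  let z : Fin 3 → ℂ := fun a => ω ^ (a : ℕ)
  have hz3 : ∀ a, z a ^ 3 = 1 := fun a => by simp only [z, ← pow_mul, mul_comm _ 3]; rw [pow_mul, hω3, one_pow]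
  have hzinj : Function.Injective z := by
    intro a b h
    fin_cases a <;> fin_cases b <;> simp [z] at h ⊢
    all_goals first
      | exact h.elim hω1 (fun h' => hω2 (by rw [h']; norm_num))
      | exact hω1 h | exact hω1 h.symm | exact hω2 h | exact hω2 h.symm
      | exact hω1 (mul_left_cancel₀ hω0 (by linear_combination h))
      | exact hω1 (mul_left_cancel₀ hω0 (by linear_combination -h))
  have hzsurj : ∀ a : ℂ, a ^ 3 = 1 → ∃ i, z i = a := fun a ha => by
    have h : (a - 1) * (a - ω) * (a - ω ^ 2) = 0 := by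
      linear_combination ha - hω3 + (a * ω - a ^ 2) * hω
    rcases mul_eq_zero.1 h with h' | h'
    · rcases mul_eq_zero.1 h' with h'' | h''
      · exact ⟨0, by simp [z]; linear_combination -h''⟩
      · exact ⟨1, by simp [z]; linear_combination -h''⟩
    · exact ⟨2, by simp [z]; linear_combination -h'⟩
  let e : Fin 3 × Fin 3 → V := fun ab => ![z ab.1, z ab.2, (z ab.1 * z ab.2)⁻¹]
  have hz0 : ∀ a, z a ≠ 0 := fun a => pow_ne_zero _ hω0
  have he : ∀ ab i, e ab i ^ 3 = 1 := fun ab i => by fin_cases i <;> simp [e, hz3, mul_pow]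
  have hep : ∀ ab, e ab 0 * e ab 1 * e ab 2 = 1 := fun ab => by
    simp [e]; field_simp [hz0]
  let Φ : Equiv.Perm (Fin 3) × (Fin 3 × Fin 3) → {A : Matrix (Fin 3) (Fin 3) ℂ // A.det = 1 ∧
      ∃ c : ℂ, aeval (fun i : Fin 3 => ∑ j : Fin 3, C (A i j) * X j) (HesseCubic.form k) =
        C c * HesseCubic.form k} := fun p =>
    ⟨mono p.1 (e p.2) ((Equiv.Perm.sign p.1 : ℤ) : ℂ), by
      rw [mono_det, sign_cube, hep, mul_one]
      rcases Int.units_eq_one_or (Equiv.Perm.sign p.1) with h | h <;> rw [h] <;> norm_num, by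
      refine ⟨((Equiv.Perm.sign p.1 : ℤ) : ℂ) ^ 3, MvPolynomial.funext fun x => ?_⟩
      rw [eval_subst, map_mul, eval_C, (hesse_rep k).1, (hesse_rep k).1, mono_aut k _ _ _ (he _) (hep _)]⟩
  have hinj : Function.Injective Φ := by
    rintro ⟨σ, a, b⟩ ⟨σ', a', b'⟩ h
    have hM := congrArg Subtype.val h
    simp only [Φ] at hM
    have hs : ∀ s : Equiv.Perm (Fin 3), ((Equiv.Perm.sign s : ℤ) : ℂ) ≠ 0 := fun s => by
      rcases Int.units_eq_one_or (Equiv.Perm.sign s) with h | h <;> rw [h] <;> norm_num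
    have hσ : σ = σ' := by
      ext1 i
      by_contra hne
      have := congrFun (congrArg (fun M : Matrix (Fin 3) (Fin 3) ℂ => M.mulVec (Pi.single (σ i) 1)) hM) i
      simp only [mono_mulVec, Pi.smul_apply, smul_eq_mul] at this
      rw [Pi.single_eq_same, Pi.single_eq_of_ne (Ne.symm hne), mul_one, mul_zero, mul_zero, mul_eq_zero] at this
      refine this.elim (hs σ) fun h0 => ?_
      simpa [h0] using he (a, b) (σ i)
    subst hσ
    have hv : ∀ i, e (a, b) i = e (a', b') i := fun i => by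
      have := congrFun (congrArg (fun M : Matrix (Fin 3) (Fin 3) ℂ => M.mulVec 1) hM) (σ.symm i)
      simp only [mono_mulVec, Pi.smul_apply, smul_eq_mul, Pi.one_apply, mul_one, Equiv.apply_symm_apply] at this
      exact mul_left_cancel₀ (hs σ) this
    have ha : a = a' := hzinj (by simpa [e] using hv 0)
    have hb : b = b' := hzinj (by simpa [e] using hv 1)
    rw [ha, hb]
  have hsurj : Function.Surjective Φ := by
    rintro ⟨A, hdet, c, hc⟩
    have hA : ∀ x, hesseT k (A.mulVec x) (A.mulVec x) (A.mulVec x) = c * hesseT k x x x := fun x => by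
      have := congrArg (eval x) hc
      rw [eval_subst, map_mul, eval_C, (hesse_rep k).1, (hesse_rep k).1] at this
      exact this
    obtain ⟨σ, f, μ, hf, hfp, rfl⟩ := classify hk A hdet hA
    rw [mono_det, hfp, mul_one] at hdet
    set s : ℂ := ((Equiv.Perm.sign σ : ℤ) : ℂ) with hs
    have hs2 : s * s = 1 := by
      rw [hs]; rcases Int.units_eq_one_or (Equiv.Perm.sign σ) with h | h <;> rw [h] <;> norm_num
    have hζ : (s * μ) ^ 3 = 1 := by rw [mul_pow, hs, sign_cube, mul_comm]; exact hdet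
    obtain ⟨a, ha⟩ := hzsurj (s * μ * f 0) (by rw [mul_pow, hζ, hf, mul_one])
    obtain ⟨b, hb⟩ := hzsurj (s * μ * f 1) (by rw [mul_pow, hζ, hf, mul_one])
    refine ⟨(σ, a, b), Subtype.ext (Matrix.toLin'.injective (LinearMap.ext fun x => ?_))⟩
    simp only [Φ, Matrix.toLin'_apply, mono_mulVec]
    ext i
    simp only [Pi.smul_apply, smul_eq_mul]
    rw [← hs]
    generalize σ i = j
    fin_cases j
    · simp [e, ha]; linear_combination (μ * f 0 * x 0) * hs2
    · simp [e, hb]; linear_combination (μ * f 1 * x 1) * hs2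
    · have h2 : (z a * z b)⁻¹ = s * μ * f 2 := by
        apply inv_eq_of_mul_eq_one_right
        rw [ha, hb]; linear_combination (f 0 * f 1 * f 2) * hζ + hfp
      simp [e]
      rw [← mul_inv_rev] at *
      linear_combination (s * x 2) * h2 + (μ * f 2 * x 2) * hs2
  rw [← Nat.card_eq_of_bijective Φ ⟨hinj, hsurj⟩, Nat.card_eq_fintype_card]
  simp [Fintype.card_perm]
  rfl

end Groth.Agent.Lead.PlaneCubic
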