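import Groth.Agent.Lead.HesseForm
import Mathlib.RingTheory.RootsOfUnity.Complex

/-! The Hesse pencil: normal form, flexes, translations. -/

namespace Groth.Agent.Lead.PlaneCubic

open MvPolynomial

/-- the trilinear form of the Hesse cubic -/
noncomputable def hesseT (k : ℂ) : Sym3 where
  toFun := mon 0 0 0 + mon 1 1 1 + mon 2 2 2
    - (k / 2) • (mon 0 1 2 + mon 0 2 1 + mon 1 0 2 + mon 1 2 0 + mon 2 0 1 + mon 2 1 0)
  s12 x y z := by simp; ring
  s23 x y z := by simp; ring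

lemma hesse_rep (k : ℂ) : Represents (hesseT k) (HesseCubic.form k) := by
  refine ⟨fun v => ?_, fun i v => ?_⟩
  · simp [HesseCubic.form, hesseT]; ring
  · fin_cases i <;>
      simp [HesseCubic.form, hesseT, Derivation.leibniz, Derivation.leibniz_pow, pderiv_X, Pi.single_apply] <;> ring

lemma exists_omega : ∃ ω : ℂ, ω ^ 2 + ω + 1 = 0 := by
  obtain ⟨r, hr⟩ := IsAlgClosed.exists_pow_nat_eq (-3 : ℂ) (n := 2) two_pos
  exact ⟨(r - 1) / 2, by linear_combination hr / 4⟩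

/-- Hesse normal form -/
theorem exists_hesse (T : Sym3) {f : MvPolynomial (Fin 3) ℂ} (hT : Represents T f) (hs : Smooth T)
    {v w : V} (hv : v ≠ 0) (hv0 : T v v v = 0) (hli : LinearIndependent ℂ ![v, w])
    (h : ∀ t : ℂ, T (v + t • w) (v + t • w) (v + t • w) = t ^ 3 * T w w w) :
    ∃ (A : Matrix (Fin 3) (Fin 3) ℂ) (k c : ℂ), IsUnit A.det ∧ k ^ 3 ≠ 1 ∧ c ≠ 0 ∧
      aeval (fun i : Fin 3 => ∑ j : Fin 3, C (A i j) * X j) f = C c * HesseCubic.form k := by
  obtain ⟨P, Q, R, a, α, β, γ, hLI, ha, hα, hβ, hD, hid⟩ := normal_form hs hv hv0 hli h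
  obtain ⟨ω, hω⟩ := exists_omega
  have hω3 : ω ^ 3 = 1 := by linear_combination (ω - 1) * hω
  have hω0 : ω ≠ 0 := fun h0 => by rw [h0] at hω; norm_num at hω
  have hD' : α * β + γ ^ 3 / 27 ≠ 0 := fun h0 => hD (by linear_combination 27 * h0)
  obtain ⟨u, hu⟩ := IsAlgClosed.exists_pow_nat_eq (α * β + γ ^ 3 / 27)⁻¹ (n := 3) three_pos
  have hu0 : u ≠ 0 := fun h0 => by
    rw [h0] at hu; simp at hu; exact hD' hu.symm
  have hu1 : u ^ 3 * (α * β) + u ^ 3 * γ ^ 3 / 27 = 1 := by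
    rw [mul_div_assoc, ← mul_add, hu, inv_mul_cancel₀ hD']
  set k := ω ^ 2 * u * γ / 3 with hk
  have hk3 : k ^ 3 = 1 - u ^ 3 * (α * β) := by
    rw [hk]; linear_combination (u ^ 3 * γ ^ 3 / 27 * (ω ^ 3 + 1)) * hω3 + hu1
  set s := -(ω ^ 2 * u * α) with hs'
  set t := -(ω * u * β) with ht'
  have hs0 : s ≠ 0 := by simp [hs', hω0, hu0, hα]
  have ht0 : t ≠ 0 := by simp [ht', hω0, hu0, hβ]
  let A : Matrix (Fin 3) (Fin 3) ℂ := Matrix.of fun i j =>
    ![P i / s + Q i / t, P i / s + ω * Q i / t, k * P i / s + ω ^ 2 * k * Q i / t + R i] j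
  have hA : ∀ x : V, A.mulVec x = ((x 0 + x 1 + k * x 2) / s) • P + ((x 0 + ω * x 1 + ω ^ 2 * k * x 2) / t) • Q
      + x 2 • R := fun x => by
    ext i
    simp [A, Matrix.mulVec, dotProduct, Fin.sum_univ_three]
    ring
  refine ⟨A, k, a / (u ^ 3 * (α * β)), ?_, fun h1 => ?_, ?_, ?_⟩
  · rw [← Matrix.isUnit_iff_isUnit_det, ← Matrix.mulVec_injective_iff_isUnit]
    refine (injective_iff_map_eq_zero A.mulVecLin).2 fun x hx => ?_
    rw [Matrix.mulVecLin_apply, hA] at hx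
    have := Fintype.linearIndependent_iff.1 hLI
      ![(x 0 + x 1 + k * x 2) / s, (x 0 + ω * x 1 + ω ^ 2 * k * x 2) / t, x 2] (by simpa [Fin.sum_univ_three] using hx)
    have e0 := this 0
    have e1 := this 1
    have e2 : x 2 = 0 := this 2
    simp [hs0, ht0, e2] at e0 e1
    have hω1 : ω - 1 ≠ 0 := fun h0 => by
      rw [sub_eq_zero.1 h0] at hω; norm_num at hω
    have hx1 : x 1 = 0 := (mul_eq_zero.1 (show (ω - 1) * x 1 = 0 by linear_combination e1 - e0)).resolve_left hω1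
    funext i
    fin_cases i
    · simpa [hx1] using e0
    · simpa using hx1
    · simpa using e2
  · exact mul_ne_zero (pow_ne_zero 3 hu0) (mul_ne_zero hα hβ) (by linear_combination hk3 - h1)
  · exact div_ne_zero ha (mul_ne_zero (pow_ne_zero 3 hu0) (mul_ne_zero hα hβ))
  · apply MvPolynomial.funext
    intro x
    rw [eval_subst, hT.1, hA, hid, map_mul, eval_C, (hesse_rep k).1]
    set L0 := x 0 + x 1 + k * x 2 with hL0
    set L1 := x 0 + ω * x 1 + ω ^ 2 * k * x 2 with hL1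
    set L2 := x 0 + ω ^ 2 * x 1 + ω * k * x 2 with hL2
    have e1 : α * (L0 / s) + β * (L1 / t) + γ * x 2 = L2 / u := by
      have q1 : α * (L0 / s) * u = -(ω * L0) := by
        rw [show α * (L0 / s) * u = α * L0 * u / s by ring, div_eq_iff hs0, hs']
        linear_combination -(α * L0 * u) * hω3
      have q2 : β * (L1 / t) * u = -(ω ^ 2 * L1) := by
        rw [show β * (L1 / t) * u = β * L1 * u / t by ring, div_eq_iff ht0, ht']
        linear_combination -(β * L1 * u) * hω3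
      have q3 : γ * x 2 * u = 3 * ω * k * x 2 := by
        rw [hk]; linear_combination (-(γ * x 2 * u)) * hω3
      rw [eq_div_iff hu0, add_mul, add_mul, q1, q2, q3]
      simp only [hL0, hL1, hL2]
      linear_combination (-(x 0) - x 1 * ω - k * x 2 * ω * (ω - 1)) * hω
    have e2 : (hesseT k) x x x = L0 * L1 * L2 + (1 - k ^ 3) * x 2 ^ 3 := by
      simp [hesseT, hL0, hL1, hL2]
      linear_combination (-(x 0 ^ 2 * x 1) - x 0 * x 1 ^ 2 * ω - x 0 ^ 2 * (k * x 2) - x 0 * (k * x 2) ^ 2 * ω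
        - x 1 ^ 2 * (k * x 2) * ω ^ 2 - x 1 * (k * x 2) ^ 2 * ω ^ 2) * hω
        + (-(x 1 ^ 3) - (k * x 2) ^ 3 - x 0 * x 1 * (k * x 2) * ω) * hω3 - 3 * x 0 * x 1 * (k * x 2) * hω
    rw [e1, e2, hk3]
    have : s * t * u = u ^ 3 * (α * β) := by rw [hs', ht']; linear_combination (u ^ 3 * α * β) * hω3
    rw [← this]
    field_simp
    ring

lemma hesse_smooth (k : ℂ) (hk : k ^ 3 ≠ 1) : Smooth (hesseT k) := by
  intro v hv
  by_contra! h
  have h0 := h (Pi.single 0 1)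
  have h1 := h (Pi.single 1 1)
  have h2 := h (Pi.single 2 1)
  simp [hesseT, Pi.single_apply] at h0 h1 h2
  have hp : (v 0 * v 1 * v 2) ^ 2 * (1 - k ^ 3) = 0 := by
    linear_combination (v 1 ^ 2 * v 2 ^ 2) * h0 + (k * v 1 * v 2) * v 2 ^ 2 * h1 + (k * v 1 * v 2) * (k * v 0 * v 2) * h2
  have hp0 : v 0 * v 1 * v 2 = 0 := pow_eq_zero_iff two_ne_zero |>.1 ((mul_eq_zero.1 hp).resolve_right (sub_ne_zero.2 (Ne.symm hk)))
  have a0 : v 0 = 0 := eq_zero_of_pow_eq_zero (n := 3) (by linear_combination (v 0) * h0 + k * hp0)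
  have a1 : v 1 = 0 := eq_zero_of_pow_eq_zero (n := 3) (by linear_combination (v 1) * h1 + k * hp0)
  have a2 : v 2 = 0 := eq_zero_of_pow_eq_zero (n := 3) (by linear_combination (v 2) * h2 + k * hp0)
  exact hv (by ext i; fin_cases i <;> simp [a0, a1, a2])

theorem hesse_flex_iff (k : ℂ) (hk : k ^ 3 ≠ 1) (v : V) (hv : v ≠ 0)
    (hv0 : eval v (HesseCubic.form k) = 0) :
    (∃ w : V, LinearIndependent ℂ ![v, w] ∧
        ∀ t : ℂ, eval (v + t • w) (HesseCubic.form k) = t ^ 3 * eval w (HesseCubic.form k)) ↔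
      ∃ γ c : ℂ, γ ^ 3 = 1 ∧ (v = c • ![0, 1, -γ] ∨ v = c • ![-γ, 0, 1] ∨ v = c • ![1, -γ, 0]) := by
  simp only [(hesse_rep k).1] at hv0 ⊢
  rw [flex_iff_det (hesse_smooth k hk) hv hv0]
  have hd : (hess (hesseT k) v).det = (1 - k ^ 3) * (v 0 * v 1 * v 2) := by
    rw [Matrix.det_fin_three]
    simp [hess, hesseT, Pi.single_apply]
    simp [hesseT] at hv0
    linear_combination (-(k ^ 2) / 4) * hv0
  have hk' : 1 - k ^ 3 ≠ 0 := sub_ne_zero.2 (Ne.symm hk)
  rw [hd, mul_eq_zero, or_iff_right hk']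
  simp [hesseT] at hv0
  constructor
  · intro h
    have key : ∀ y z : ℂ, (y ≠ 0 ∨ z ≠ 0) → y ^ 3 + z ^ 3 = 0 → y ≠ 0 ∧ (-(z / y)) ^ 3 = 1 := by
      intro y z hne he
      have hy : y ≠ 0 := fun h0 => by
        rw [h0] at he
        have : z = 0 := eq_zero_of_pow_eq_zero (n := 3) (by linear_combination he)
        simp [h0, this] at hne
      exact ⟨hy, by field_simp; linear_combination -he⟩
    rcases mul_eq_zero.1 h with h' | h'
    · rcases mul_eq_zero.1 h' with h0 | h0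
      · obtain ⟨hy, hg⟩ := key (v 1) (v 2) (by
          by_contra! hh; exact hv (by ext i; fin_cases i <;> simp [h0, hh.1, hh.2])) (by rw [h0] at hv0; linear_combination hv0)
        exact ⟨_, v 1, hg, Or.inl (by ext i; fin_cases i <;> simp [h0]; field_simp)⟩
      · obtain ⟨hy, hg⟩ := key (v 2) (v 0) (by
          by_contra! hh; exact hv (by ext i; fin_cases i <;> simp [h0, hh.1, hh.2])) (by rw [h0] at hv0; linear_combination hv0)
        exact ⟨_, v 2, hg, Or.inr (Or.inl (by ext i; fin_cases i <;> simp [h0]; field_simp))⟩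
    · obtain ⟨hy, hg⟩ := key (v 0) (v 1) (by
        by_contra! hh; exact hv (by ext i; fin_cases i <;> simp [h', hh.1, hh.2])) (by rw [h'] at hv0; linear_combination hv0)
      exact ⟨_, v 0, hg, Or.inr (Or.inr (by ext i; fin_cases i <;> simp [h']; field_simp))⟩
  · rintro ⟨γ, c, hγ, rfl | rfl | rfl⟩ <;> simp

/-- the nine flexes -/
def base : V := ![0, 1, -1]

def IsAut (k : ℂ) (g : V ≃ₗ[ℂ] V) : Prop := ∀ x, hesseT k (g x) (g x) (g x) = hesseT k x x x

noncomputable def diagE (a b : ℂ) (ha : a ≠ 0) (hb : b ≠ 0) : V ≃ₗ[ℂ] V where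
  toFun x := ![a * x 0, x 1, b * x 2]
  invFun x := ![a⁻¹ * x 0, x 1, b⁻¹ * x 2]
  map_add' x y := by ext i; fin_cases i <;> simp <;> ring
  map_smul' c x := by ext i; fin_cases i <;> simp <;> ring
  left_inv x := by ext i; fin_cases i <;> simp [ha, hb]
  right_inv x := by ext i; fin_cases i <;> simp [ha, hb]

def cyc : V ≃ₗ[ℂ] V where
  toFun x := ![x 2, x 0, x 1]
  invFun x := ![x 1, x 2, x 0]
  map_add' x y := by ext i; fin_cases i <;> simp
  map_smul' c x := by ext i; fin_cases i <;> simp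
  left_inv x := by ext i; fin_cases i <;> simp
  right_inv x := by ext i; fin_cases i <;> simp

lemma isAut_cyc (k : ℂ) : IsAut k cyc := fun x => by simp [cyc, hesseT]; ring

lemma isAut_diag (k a b : ℂ) (ha : a ≠ 0) (hb : b ≠ 0) (h1 : a ^ 3 = 1) (h2 : b ^ 3 = 1) (h3 : a * b = 1) :
    IsAut k (diagE a b ha hb) := fun x => by
  simp [diagE, hesseT]
  linear_combination (x 0 ^ 3) * h1 + (x 2 ^ 3) * h2 - (3 * k * x 0 * x 1 * x 2) * h3

lemma IsAut.trans {k : ℂ} {g g' : V ≃ₗ[ℂ] V} (h : IsAut k g) (h' : IsAut k g') : IsAut k (g.trans g') :=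
  fun x => by rw [LinearEquiv.trans_apply, h', h]

lemma IsAut.symm {k : ℂ} {g : V ≃ₗ[ℂ] V} (h : IsAut k g) : IsAut k g.symm := fun x => by
  conv_rhs => rw [← g.apply_symm_apply x]
  rw [h]

/-- translations act transitively on the flexes -/
theorem exists_aut (k γ : ℂ) (hγ : γ ^ 3 = 1) (p : V)
    (hp : p = ![0, 1, -γ] ∨ p = ![-γ, 0, 1] ∨ p = ![1, -γ, 0]) :
    ∃ g : V ≃ₗ[ℂ] V, IsAut k g ∧ g base = p := by
  have h0 : γ ≠ 0 := fun h => by rw [h] at hγ; norm_num at hγ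
  have hd := isAut_diag k (γ ^ 2) γ (pow_ne_zero 2 h0) h0 (by linear_combination (γ ^ 3 + 1) * hγ) hγ
    (by linear_combination hγ)
  rcases hp with rfl | rfl | rfl
  · exact ⟨_, hd, by ext i; fin_cases i <;> simp [diagE, base]⟩
  · exact ⟨_, hd.trans (isAut_cyc k), by ext i; fin_cases i <;> simp [diagE, base, cyc]⟩
  · exact ⟨_, (hd.trans (isAut_cyc k)).trans (isAut_cyc k), by ext i; fin_cases i <;> simp [diagE, base, cyc]⟩

lemma base_flex (k : ℂ) : hesseT k base base base = 0 := by simp [base, hesseT]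

/-- a normalised cubic: coordinates in which a smooth cubic is Hesse -/
theorem exists_hesse_equiv {f : MvPolynomial (Fin 3) ℂ} (hf : f.IsHomogeneous 3)
    (hsm : ∀ v : V, v ≠ 0 → eval v f = 0 → ∃ i, eval v (pderiv i f) ≠ 0) :
    ∃ (B : V ≃ₗ[ℂ] V) (k c : ℂ), k ^ 3 ≠ 1 ∧ c ≠ 0 ∧ ∀ x, eval (B x) f = c * eval x (HesseCubic.form k) := by
  obtain ⟨T, hT⟩ := exists_rep hf
  have hs := smooth_of hT hsm
  obtain ⟨v, hv, hv0, w, hli, h⟩ := exists_flex hs hT
  obtain ⟨A, k, c, hA, hk, hc, hAf⟩ := exists_hesse T hT hs hv hv0 hli h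
  refine ⟨Matrix.toLinearEquiv' A (A.invertibleOfIsUnitDet hA), k, c, hk, hc, fun x => ?_⟩
  have := congrArg (eval x) hAf
  rw [eval_subst] at this
  change eval (A.mulVec x) f = _
  simpa using this

/-- flexes of `f` correspond to flexes of the Hesse cubic -/
theorem flex_pullback {f : MvPolynomial (Fin 3) ℂ} {B : V ≃ₗ[ℂ] V} {k c : ℂ} (hk : k ^ 3 ≠ 1) (hc : c ≠ 0)
    (hB : ∀ x, eval (B x) f = c * eval x (HesseCubic.form k)) {v : V} (hv : v ≠ 0) (hv0 : eval v f = 0)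
    (h : ∃ w : V, LinearIndependent ℂ ![v, w] ∧ ∀ t : ℂ, eval (v + t • w) f = t ^ 3 * eval w f) :
    ∃ (g : V ≃ₗ[ℂ] V) (d : ℂ), IsAut k g ∧ d ≠ 0 ∧ v = d • B (g base) := by
  obtain ⟨w, hli, hw⟩ := h
  have hx : ∀ x, eval x f = c * eval (B.symm x) (HesseCubic.form k) := fun x => by
    rw [← hB, B.apply_symm_apply]
  have hne : B.symm v ≠ 0 := fun h => hv (by rwa [LinearEquiv.map_eq_zero_iff] at h)
  have hz : eval (B.symm v) (HesseCubic.form k) = 0 := by
    rw [hx] at hv0; exact (mul_eq_zero.1 hv0).resolve_left hc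
  have hfl : ∃ w : V, LinearIndependent ℂ ![B.symm v, w] ∧
      ∀ t : ℂ, eval (B.symm v + t • w) (HesseCubic.form k) = t ^ 3 * eval w (HesseCubic.form k) := by
    refine ⟨B.symm w, ?_, fun t => mul_left_cancel₀ hc ?_⟩
    · rw [LinearIndependent.pair_iff] at hli ⊢
      intro s t hst
      apply hli
      apply B.symm.injective
      rw [map_add, map_smul, map_smul, hst, map_zero]
    · have := hw t
      rw [hx, hx, map_add, map_smul] at this
      linear_combination this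
  obtain ⟨γ, d, hγ, hp⟩ := (hesse_flex_iff k hk _ hne hz).1 hfl
  obtain ⟨p, hp', heq⟩ : ∃ p, (p = ![0, 1, -γ] ∨ p = ![-γ, 0, 1] ∨ p = ![1, -γ, 0]) ∧ B.symm v = d • p := by
    rcases hp with h | h | h
    exacts [⟨_, Or.inl rfl, h⟩, ⟨_, Or.inr (Or.inl rfl), h⟩, ⟨_, Or.inr (Or.inr rfl), h⟩]
  obtain ⟨g, hg, hgp⟩ := exists_aut k γ hγ p hp'
  exact ⟨g, d, hg, fun h0 => hne (by rw [heq, h0, zero_smul]), by rw [hgp, ← map_smul, ← heq, B.apply_symm_apply]⟩

end Groth.Agent.Lead.PlaneCubic
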