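import Groth.Agent.Lead.LamPolys

/-! Adams operations and special λ-rings. -/

namespace Groth.Agent.Lead.Lam

open MvPolynomial Finset LambdaRing

noncomputable section

section universal

/-- power sum as a polynomial in elementary functions -/
def nwX (N k : ℕ) : U N := nw (gen N X) k

lemma esH_nwX {N k : ℕ} (hk : k < N) : esH N (nwX N k) = ∑ a : Fin N, X a ^ (k + 1) := by
  have h := map_nw (esH N).toRingHom (gen_zero N (X : Fin N → U N)) k
  rw [AlgHom.toRingHom_eq_coe, RingHom.coe_coe] at h
  rw [nwX, h, nw_congr (d := es ((univ : Finset (Fin N)).val.map X)) (by simp [map_gen, gen_zero]) (es_zero _) k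
    (fun t _ ht => ?_), nw_es]
  · simp only [Finset.sum, Multiset.map_map, Function.comp_def]
  · rw [map_gen]
    simp only [esH, aeval_X]
    rw [gen_esymm (by omega : t ≤ N), ← esymm_eq_es]

/-- `P_t` in `N` variables per family -/
def Pgen (N t : ℕ) : W N :=
  if h : t ≤ N then rename (Sum.map (Fin.castLE h) (Fin.castLE h)) (exists_mulPoly t).choose else 0

lemma esW_Pgen {N t : ℕ} (h : t ≤ N) : esW N (Pgen N t) = mulGen N t := by
  rw [Pgen, dif_pos h, esW, aeval_rename, ← mulPoly_stable h (exists_mulPoly t).choose_spec]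
  congr 2
  funext i; cases i <;> rfl

def Pseq (N : ℕ) : ℕ → W N := fun t => if t = 0 then 1 else Pgen N t

/-- the product identity on power sums -/
theorem nw_Pseq {N k : ℕ} (hk : k < N) :
    nw (Pseq N) k = rename Sum.inl (nwX N k) * rename Sum.inr (nwX N k) := by
  apply esW_injective
  have h := map_nw (esW N).toRingHom (show Pseq N 0 = 1 by simp [Pseq]) k
  rw [AlgHom.toRingHom_eq_coe, RingHom.coe_coe] at h
  have hl : esW N (rename Sum.inl (nwX N k)) = ∑ a : Fin N, (X (Sum.inl a) : W N) ^ (k + 1) := by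
    have : (esW N).comp (rename Sum.inl) = (rename (Sum.inl : Fin N → _)).comp (esH N) := by
      apply algHom_ext; intro i; simp [esW, esH]
    rw [← AlgHom.comp_apply, this, AlgHom.comp_apply, esH_nwX hk]; simp
  have hr : esW N (rename Sum.inr (nwX N k)) = ∑ a : Fin N, (X (Sum.inr a) : W N) ^ (k + 1) := by
    have : (esW N).comp (rename Sum.inr) = (rename (Sum.inr : Fin N → _)).comp (esH N) := by
      apply algHom_ext; intro i; simp [esW, esH]
    rw [← AlgHom.comp_apply, this, AlgHom.comp_apply, esH_nwX hk]; simp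
  rw [map_mul, hl, hr, h,
    nw_congr (d := es ((univ : Finset (Fin N × Fin N)).val.map fun ab => (X (Sum.inl ab.1) * X (Sum.inr ab.2) : W N)))
      (by simp [Pseq]) (es_zero _) k (fun t h1 ht => ?_), nw_es, Finset.sum_mul_sum, ← Finset.sum_product']
  · simp only [Finset.sum, Multiset.map_map, Function.comp_def, mul_pow, Finset.univ_product_univ]
  · simp only [Pseq]
    rw [if_neg (by omega), esW_Pgen (by omega)]
    rfl

/-- `Q_{i,j}` in `N` variables -/
def Qgen (N i j : ℕ) : U N :=
  if h : i * j ≤ N then rename (Fin.castLE h) (exists_compPoly i j).choose else 0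

lemma esH_Qgen {N i j : ℕ} (h : i * j ≤ N) : esH N (Qgen N i j) = compGen N i j := by
  rw [Qgen, dif_pos h, esH, aeval_rename, ← compPoly_stable h (exists_compPoly i j).choose_spec]
  congr 1

def Qseq (N i : ℕ) : ℕ → U N := fun j => if j = 0 then 1 else Qgen N i j

/-- `ψ^{k+1} ∘ λ^i` universally -/
def psiLam (N i k : ℕ) : U N := nw (Qseq N i) k

lemma esH_psiLam {N i k : ℕ} (h : i * (k + 1) ≤ N) :
    esH N (psiLam N i k) = ((univ : Finset (Fin N)).val.map fun a => (X a : U N) ^ (k + 1)).esymm i := by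
  have hh := map_nw (esH N).toRingHom (show Qseq N i 0 = 1 by simp [Qseq]) k
  rw [AlgHom.toRingHom_eq_coe, RingHom.coe_coe] at hh
  rw [psiLam, hh,
    nw_congr (d := es (((univ : Finset (Fin N)).powersetCard i).val.map fun s => (∏ a ∈ s, X a : U N)))
      (by simp [Qseq]) (es_zero _) k (fun t h1 ht => ?_), nw_es, Finset.esymm_map_val]
  · simp only [Finset.sum, Multiset.map_map, Function.comp_def, Finset.prod_pow]
  · simp only [Qseq]
    rw [if_neg (by omega), esH_Qgen (le_trans (Nat.mul_le_mul_left i ht) h)]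
    rfl

lemma psiLam_zero (N k : ℕ) : psiLam N 0 k = 1 := by
  apply esH_injective N
  change esH N _ = esH N 1
  rw [esH_psiLam (by simp), map_one]
  simp [Multiset.esymm]

/-- the composition identity on power sums -/
theorem nw_psiLam {N k k' : ℕ} (h : (k' + 1) * (k + 1) ≤ N) :
    nw (fun i => psiLam N i k) k' = nwX N ((k' + 1) * (k + 1) - 1) := by
  apply esH_injective N
  change esH N _ = esH N _
  have hh := map_nw (esH N).toRingHom (c := fun i => psiLam N i k) (psiLam_zero N k) k'
  rw [AlgHom.toRingHom_eq_coe, RingHom.coe_coe] at hh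
  have hpos : 0 < (k' + 1) * (k + 1) := by positivity
  rw [hh, esH_nwX (by omega),
    nw_congr (d := es ((univ : Finset (Fin N)).val.map fun a => (X a : U N) ^ (k + 1)))
      (by simp [psiLam_zero]) (es_zero _) k' (fun t h1 ht => ?_), nw_es]
  · rw [Nat.sub_add_cancel hpos, Multiset.map_map, Finset.sum_eq_multiset_sum]
    simp [Function.comp_def, ← pow_mul, mul_comm]
  · rw [esH_psiLam (le_trans (Nat.mul_le_mul_right _ ht) h)]
    rfl

end universal

section ring

variable {K : Type*} [CommRing K] [LambdaOps K]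

/-- evaluate at `λ^i x` -/
def ev (N : ℕ) (x : K) : U N →ₐ[ℤ] K := aeval fun i : Fin N => LambdaOps.lam ((i : ℕ) + 1) x

def evW (N : ℕ) (x y : K) : W N →ₐ[ℤ] K :=
  aeval (Sum.elim (fun k : Fin N => LambdaOps.lam ((k : ℕ) + 1) x)
        (fun k : Fin N => LambdaOps.lam ((k : ℕ) + 1) y))

lemma evW_inl (N : ℕ) (x y : K) (p : U N) : evW N x y (rename Sum.inl p) = ev N x p := by
  simp [evW, ev, aeval_rename]

lemma evW_inr (N : ℕ) (x y : K) (p : U N) : evW N x y (rename Sum.inr p) = ev N y p := by
  simp [evW, ev, aeval_rename]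

lemma adamsOp_eq (k : ℕ) (x : K) : adamsOp (k + 1) x = nw (fun t => LambdaOps.lam t x) k := rfl

lemma ev_nwX {N k : ℕ} (hk : k < N) (x : K) : ev N x (nwX N k) = adamsOp (k + 1) x := by
  have h := map_nw (ev N x).toRingHom (gen_zero N (X : Fin N → U N)) k
  rw [AlgHom.toRingHom_eq_coe, RingHom.coe_coe] at h
  rw [nwX, h, adamsOp_eq]
  refine nw_congr (by simp [gen_zero]) (LambdaOps.lam_zero x) k fun t _ ht => ?_
  rw [map_gen]
  simp only [ev, aeval_X]
  exact gen_eq (fun t => LambdaOps.lam t x) (by omega) (LambdaOps.lam_zero x)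

lemma ev_Qgen {N i j : ℕ} (h : i * j ≤ N) (x : K) :
    ev N x (Qgen N i j)
      = aeval (fun k : Fin (i * j) => LambdaOps.lam ((k : ℕ) + 1) x) (exists_compPoly i j).choose := by
  rw [Qgen, dif_pos h, ev, aeval_rename]
  congr 1

lemma evW_Pgen {N t : ℕ} (h : t ≤ N) (x y : K) :
    evW N x y (Pgen N t) = aeval (Sum.elim (fun k : Fin t => LambdaOps.lam ((k : ℕ) + 1) x)
        (fun k : Fin t => LambdaOps.lam ((k : ℕ) + 1) y)) (exists_mulPoly t).choose := by
  rw [Pgen, dif_pos h, evW, aeval_rename]
  congr 2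
  funext i; cases i <;> rfl

lemma adamsOp_add (k : ℕ) (x y : K) :
    adamsOp (k + 1) (x + y) = adamsOp (k + 1) x + adamsOp (k + 1) y := by
  rw [adamsOp_eq, adamsOp_eq, adamsOp_eq, ← nw_conv (LambdaOps.lam_zero x) (LambdaOps.lam_zero y)]
  refine nw_congr (LambdaOps.lam_zero (_ : K)) (by simp [conv, LambdaOps.lam_zero]) k fun t _ _ => ?_
  rw [LambdaOps.lam_add]
  rfl

lemma lam_one_one_seq (h : ∀ n : ℕ, 2 ≤ n → LambdaOps.lam n (1 : K) = 0) :
    (fun t => LambdaOps.lam t (1 : K)) = single 1 := by
  funext t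
  rcases t with _ | _ | t
  · simp [single, LambdaOps.lam_zero]
  · simp [single, LambdaOps.lam_one]
  · simp [single, h]

theorem adamsOp_one (hK : IsSpecial K) (k : ℕ) : adamsOp (k + 1) (1 : K) = 1 := by
  rw [adamsOp_eq, lam_one_one_seq hK.lam_one_eq_zero, nw_single_one]

theorem adamsOp_mul (hK : IsSpecial K) (k : ℕ) (x y : K) :
    adamsOp (k + 1) (x * y) = adamsOp (k + 1) x * adamsOp (k + 1) y := by
  have h := map_nw (evW (k + 1) x y).toRingHom (show Pseq (k + 1) 0 = 1 by simp [Pseq]) k
  rw [AlgHom.toRingHom_eq_coe, RingHom.coe_coe, nw_Pseq (Nat.lt_succ_self k), map_mul, evW_inl, evW_inr,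
    ev_nwX (Nat.lt_succ_self k), ev_nwX (Nat.lt_succ_self k)] at h
  rw [h, adamsOp_eq]
  refine nw_congr (LambdaOps.lam_zero (_ : K)) (by simp [Pseq]) k fun t h1 ht => ?_
  rw [hK.lam_mul t _ (exists_mulPoly t).choose_spec, Pseq, if_neg (by omega), evW_Pgen ht]

/-- `ψ^{k+1}` as a ring endomorphism -/
def adamsHom (hK : IsSpecial K) (k : ℕ) : K →+* K where
  toFun := adamsOp (k + 1)
  map_one' := adamsOp_one hK k
  map_mul' := adamsOp_mul hK k
  map_zero' := by
    have h := adamsOp_add k (0 : K) 0
    rw [add_zero] at h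
    exact left_eq_add.1 h
  map_add' := adamsOp_add k

theorem adamsOp_lam (hK : IsSpecial K) {N i k : ℕ} (h : i * (k + 1) ≤ N) (x : K) :
    adamsOp (k + 1) (LambdaOps.lam i x) = ev N x (psiLam N i k) := by
  have hh := map_nw (ev N x).toRingHom (show Qseq N i 0 = 1 by simp [Qseq]) k
  rw [AlgHom.toRingHom_eq_coe, RingHom.coe_coe] at hh
  rw [psiLam, hh, adamsOp_eq]
  refine nw_congr (LambdaOps.lam_zero (_ : K)) (by simp [Qseq]) k fun t h1 ht => ?_
  rw [hK.lam_lam i t _ (exists_compPoly i t).choose_spec, Qseq, if_neg (by omega),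
    ev_Qgen (le_trans (Nat.mul_le_mul_left i ht) h)]

theorem adamsOp_comp (hK : IsSpecial K) (k k' : ℕ) (x : K) :
    adamsOp (k + 1) (adamsOp (k' + 1) x) = adamsOp ((k + 1) * (k' + 1)) x := by
  set N := (k' + 1) * (k + 1)
  have h1 := map_nw (adamsHom hK k) (c := fun t => LambdaOps.lam t x) (LambdaOps.lam_zero x) k'
  have h2 := map_nw (ev N x).toRingHom (c := fun i => psiLam N i k) (psiLam_zero N k) k'
  rw [AlgHom.toRingHom_eq_coe, RingHom.coe_coe, nw_psiLam le_rfl, ev_nwX (by
    have : 0 < (k' + 1) * (k + 1) := by positivity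
    omega), Nat.sub_add_cancel (Nat.mul_pos (Nat.succ_pos k') (Nat.succ_pos k))] at h2
  rw [mul_comm (k + 1), h2, adamsOp_eq k' x]
  change (adamsHom hK k) _ = _
  rw [h1]
  refine nw_congr (by simp [adamsHom, LambdaOps.lam_zero, adamsOp_one hK]) (by simp [psiLam_zero]) k'
    fun t _ ht => ?_
  exact adamsOp_lam hK (Nat.mul_le_mul_right _ ht) x

theorem isSpecial_of_adams [IsAddTorsionFree K]
    (h1 : ∀ k : ℕ, adamsOp (k + 1) (1 : K) = 1)
    (hmul : ∀ k : ℕ, ∀ x y : K, adamsOp (k + 1) (x * y) = adamsOp (k + 1) x * adamsOp (k + 1) y)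
    (hcomp : ∀ k k' : ℕ, ∀ x : K,
      adamsOp (k + 1) (adamsOp (k' + 1) x) = adamsOp ((k + 1) * (k' + 1)) x) :
    IsSpecial K := by
  let ψ : ℕ → K →+* K := fun k =>
    { toFun := adamsOp (k + 1)
      map_one' := h1 k
      map_mul' := hmul k
      map_zero' := by
        have h := adamsOp_add k (0 : K) 0
        rw [add_zero] at h
        exact left_eq_add.1 h
      map_add' := adamsOp_add k }
  refine ⟨fun n hn => ?_, fun n P hP x y => ?_, fun i j Q hQ x => ?_⟩
  · rw [eq_of_nw (c := fun t => LambdaOps.lam t (1 : K)) (d := single 1) (LambdaOps.lam_zero _)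
      (by simp [single]) n (fun k _ => by rw [nw_single_one, ← adamsOp_eq, h1]) n le_rfl]
    simp only [single]
    rw [if_neg (by omega), if_neg (by omega)]
  · have hP' : P = (exists_mulPoly n).choose :=
      esW_injective n (hP.1.trans (exists_mulPoly n).choose_spec.1.symm)
    rw [hP', ← evW_Pgen le_rfl]
    rcases Nat.eq_zero_or_pos n with rfl | hn
    · rw [LambdaOps.lam_zero]
      have : Pgen 0 0 = 1 := by
        apply esW_injective
        rw [esW_Pgen le_rfl, map_one]
        simp [mulGen, Multiset.esymm]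
      rw [this, map_one]
    rw [eq_of_nw (c := fun t => LambdaOps.lam t (x * y)) (d := fun t => evW n x y (Pseq n t))
      (LambdaOps.lam_zero _) (by simp [Pseq]) n ?_ n le_rfl]
    · simp only [Pseq]
      rw [if_neg (by omega)]
    · intro k hk
      have h := map_nw (evW n x y).toRingHom (show Pseq n 0 = 1 by simp [Pseq]) k
      rw [AlgHom.toRingHom_eq_coe, RingHom.coe_coe, nw_Pseq hk, map_mul, evW_inl, evW_inr,
        ev_nwX hk, ev_nwX hk] at h
      rw [← h, ← adamsOp_eq, hmul]
  · have hQ' : Q = (exists_compPoly i j).choose :=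
      esH_injective (i * j) (hQ.1.trans (exists_compPoly i j).choose_spec.1.symm)
    rw [hQ', ← ev_Qgen le_rfl]
    rcases Nat.eq_zero_or_pos j with rfl | hj
    · rw [LambdaOps.lam_zero]
      have : Qgen (i * 0) i 0 = 1 := by
        apply esH_injective (i * 0)
        change esH _ _ = esH _ 1
        rw [esH_Qgen le_rfl, map_one]
        simp [compGen, Multiset.esymm]
      rw [this, map_one]
    rw [eq_of_nw (c := fun t => LambdaOps.lam t (LambdaOps.lam i x))
      (d := fun t => ev (i * j) x (Qseq (i * j) i t))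
      (LambdaOps.lam_zero _) (by simp [Qseq]) j ?_ j le_rfl]
    · simp only [Qseq]
      rw [if_neg (by omega)]
    · intro k hk
      have h := map_nw (ev (i * j) x).toRingHom (show Qseq (i * j) i 0 = 1 by simp [Qseq]) k
      rw [AlgHom.toRingHom_eq_coe, RingHom.coe_coe] at h
      rw [← h, ← adamsOp_eq]
      change ψ k _ = ev (i * j) x (psiLam (i * j) i k)
      refine eq_of_nw (c := fun t => ψ k (LambdaOps.lam t x)) (d := fun t => ev (i * j) x (psiLam (i * j) t k))
        (by simp [LambdaOps.lam_zero]) (by simp [psiLam_zero]) i (fun k' hk' => ?_) i le_rfl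
      have hb : (k' + 1) * (k + 1) ≤ i * j := Nat.mul_le_mul (by omega) (by omega)
      have hpos : 0 < (k' + 1) * (k + 1) := by positivity
      have h2 := map_nw (ev (i * j) x).toRingHom (c := fun t => psiLam (i * j) t k) (psiLam_zero _ k) k'
      rw [AlgHom.toRingHom_eq_coe, RingHom.coe_coe, nw_psiLam hb, ev_nwX (by omega),
        Nat.sub_add_cancel hpos] at h2
      rw [← map_nw (ψ k) (LambdaOps.lam_zero x), ← h2, ← adamsOp_eq, mul_comm (k' + 1)]
      exact hcomp k k' x

theorem adamsOp_binomial [BinomialRing K] (hKb : IsBinomial K) (k : ℕ) (x : K) : adamsOp (k + 1) x = x := by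
  let _ : IsAddTorsionFree K := BinomialRing.toIsAddTorsionFree
  set c : ℕ → K := fun t => LambdaOps.lam t x with hc
  have h0 : c 0 = 1 := LambdaOps.lam_zero x
  have hrec : ∀ n : ℕ, c (n + 1) * (n + 1) + c n * n = x * c n := by
    intro n
    simp only [hc, hKb (n + 1) x, hKb n x]
    apply nsmul_right_injective (n := n.factorial) n.factorial_ne_zero
    have e1 := Ring.descPochhammer_eq_factorial_smul_choose x n
    have e2 := Ring.descPochhammer_eq_factorial_smul_choose x (n + 1)
    rw [descPochhammer_succ_right, Polynomial.smeval_mul, e1, Nat.factorial_succ] at e2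
    simp only [Polynomial.smeval_sub, Polynomial.smeval_X, pow_one, Polynomial.smeval_natCast, pow_zero,
      nsmul_eq_mul, mul_one, Nat.cast_mul, Nat.cast_add, Nat.cast_one] at e2
    simp only [nsmul_eq_mul]
    linear_combination -e2
  rw [adamsOp_eq]
  change nw c k = x
  induction k using Nat.strong_induction_on with
  | _ k ih =>
    apply (IsUnit.pow k (isUnit_one (M := K)).neg).mul_left_cancel
    rcases Nat.eq_zero_or_pos k with rfl | hk
    · rw [rec_split h0]
      have := hrec 0
      rw [h0] at this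
      simp at this ⊢
      exact this
    have key : ∀ n : ℕ, ∑ i ∈ range (n + 1), (-1 : K) ^ i * x * c (n - i) = c (n + 1) * (n + 1) := by
      intro n
      induction n with
      | zero =>
        have := hrec 0
        rw [h0] at this
        simp [h0] at this ⊢
        exact this.symm
      | succ n ihn =>
        rw [Finset.sum_range_succ']
        have e : ∑ i ∈ range (n + 1), (-1 : K) ^ (i + 1) * x * c (n + 1 - (i + 1)) = -(c (n + 1) * (n + 1)) := by
          rw [← ihn, ← Finset.sum_neg_distrib]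
          refine Finset.sum_congr rfl fun i _ => ?_
          rw [Nat.add_sub_add_right]; ring
        rw [e]
        have := hrec (n + 1)
        simp
        push_cast at this ⊢
        linear_combination -this
    have := key k
    rw [Finset.sum_range_succ, Nat.sub_self, h0, mul_one] at this
    have hsum : ∑ i ∈ range k, (-1 : K) ^ i * nw c i * c (k - i) = ∑ i ∈ range k, (-1 : K) ^ i * x * c (k - i) :=
      Finset.sum_congr rfl fun i hi => by rw [ih i (Finset.mem_range.1 hi)]
    rw [rec_split h0, hsum, ← this]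
    ring

end ring

end

end Groth.Agent.Lead.Lam
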