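import Groth.Agent.Lead.LamUniversal

/-! Existence and stability of `P_n` and `Q_{i,j}`. -/

namespace Groth.Agent.Lead.Lam

open MvPolynomial Finset LambdaRing

noncomputable section

variable {N : ℕ}

/-- the two weights -/
def wT (N : ℕ) : Fin N ⊕ Fin N → ℕ × ℕ := Sum.elim (fun _ => (1, 0)) (fun _ => (0, 1))
def wX (n : ℕ) : Fin n ⊕ Fin n → ℕ × ℕ :=
  Sum.elim (fun k : Fin n => (((k : ℕ) + 1, 0) : ℕ × ℕ)) (fun k : Fin n => ((0, (k : ℕ) + 1) : ℕ × ℕ))

/-- e_k of two families of N variables, for the n first indices -/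
def two (N n : ℕ) : Fin n ⊕ Fin n → W N :=
  Sum.elim (fun k : Fin n => rename Sum.inl (esymm (Fin N) ℤ ((k : ℕ) + 1)))
    (fun k : Fin n => rename Sum.inr (esymm (Fin N) ℤ ((k : ℕ) + 1)))

lemma two_homog (N n : ℕ) (i : Fin n ⊕ Fin n) : IsWeightedHomogeneous (wT N) (two N n i) (wX n i) := by
  cases i with
  | inl k =>
    simp only [two, Sum.elim_inl, esymm_eq_multiset_esymm, wX]
    rw [map_esymm', Multiset.map_map]
    have := esymm_homog (univ : Finset (Fin N)) (f := fun a => (X (Sum.inl a) : W N)) (w' := wT N)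
      (a := ((1, 0) : ℕ × ℕ)) (fun a _ => isWeightedHomogeneous_X _ _ _) ((k : ℕ) + 1)
    simpa [Function.comp_def] using this
  | inr k =>
    simp only [two, Sum.elim_inr, esymm_eq_multiset_esymm, wX]
    rw [map_esymm', Multiset.map_map]
    have := esymm_homog (univ : Finset (Fin N)) (f := fun a => (X (Sum.inr a) : W N)) (w' := wT N)
      (a := ((0, 1) : ℕ × ℕ)) (fun a _ => isWeightedHomogeneous_X _ _ _) ((k : ℕ) + 1)
    simpa [Function.comp_def] using this

lemma mulGen_homog (N k : ℕ) : IsWeightedHomogeneous (wT N) (mulGen N k) (k, k) := by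
  have := esymm_homog (univ : Finset (Fin N × Fin N))
    (f := fun ab => (X (Sum.inl ab.1) * X (Sum.inr ab.2) : W N)) (w' := wT N) (a := ((1, 1) : ℕ × ℕ))
    (fun ab _ => by
      simpa [wT] using (isWeightedHomogeneous_X ℤ (wT N) (Sum.inl ab.1)).mul
        (isWeightedHomogeneous_X ℤ (wT N) (Sum.inr ab.2))) k
  simpa [mulGen] using this

lemma compGen_homog (N i j : ℕ) : IsWeightedHomogeneous (fun _ : Fin N => 1) (compGen N i j) (i * j) := by
  have := esymm_homog ((univ : Finset (Fin N)).powersetCard i)
    (f := fun s => (∏ a ∈ s, X a : U N)) (w' := fun _ => 1) (a := i)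
    (fun s hs => by
      have := IsWeightedHomogeneous.prod s (fun a => (X a : U N)) (fun _ => 1) (w := fun _ : Fin N => 1)
        (fun a _ => isWeightedHomogeneous_X _ _ _)
      simpa [(Finset.mem_powersetCard.1 hs).2] using this) j
  simpa [compGen, mul_comm] using this

lemma esymm_homog_one (N k : ℕ) :
    IsWeightedHomogeneous (fun _ : Fin N => (1 : ℕ)) (esymm (Fin N) ℤ k) k := by
  rw [esymm_eq_multiset_esymm]
  simpa using esymm_homog (univ : Finset (Fin N)) (f := fun a => (X a : U N)) (w' := fun _ => (1 : ℕ))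
      (a := 1) (fun a _ => isWeightedHomogeneous_X _ _ _) k

lemma esymm_equiv {R α : Type*} [CommRing R] [Fintype α] (f : α → R) (e : α ≃ α) (k : ℕ) :
    ((univ : Finset α).val.map (fun a => f (e a))).esymm k = ((univ : Finset α).val.map f).esymm k := by
  have h : (univ : Finset α).map e.toEmbedding = univ := Finset.map_univ_equiv e
  conv_rhs => rw [← h, Finset.map_val, Multiset.map_map]
  rfl

lemma mulGen_symm (N k : ℕ) (e e' : Equiv.Perm (Fin N)) :
    rename (Sum.map e e') (mulGen N k) = mulGen N k := by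
  simp only [mulGen]
  rw [map_esymm', Multiset.map_map]
  rw [← esymm_equiv (fun ab : Fin N × Fin N => (X (Sum.inl ab.1) * X (Sum.inr ab.2) : W N)) (e.prodCongr e')]
  congr 2
  funext ab
  simp

lemma compGen_symm (N i j : ℕ) : (compGen N i j).IsSymmetric := by
  intro e
  simp only [compGen]
  rw [map_esymm', Multiset.map_map]
  have h : ((univ : Finset (Fin N)).powersetCard i).map ⟨Finset.map e.toEmbedding, Finset.map_injective _⟩
      = (univ : Finset (Fin N)).powersetCard i := by
    conv_rhs => rw [← Finset.map_univ_equiv e, Finset.powersetCard_map]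
    rfl
  conv_rhs => rw [← h, Finset.map_val, Multiset.map_map]
  congr 2
  funext s
  simp

theorem exists_mulPoly (n : ℕ) : ∃ P, IsMulPoly n P := by
  classical
  obtain ⟨G, hG⟩ := esW_symm_surj (F := mulGen n n)
    (fun e => by simpa using mulGen_symm n n e 1) (fun e => by simpa using mulGen_symm n n 1 e)
  obtain ⟨q, hq, hq'⟩ := component_preimage (w := wX n) (two_homog n n) G (m := (n, n))
    (by change IsWeightedHomogeneous _ (esW n G) _; rw [hG]; exact mulGen_homog n n)
  exact ⟨q, hq'.trans hG, hq⟩

theorem exists_compPoly (i j : ℕ) : ∃ Q, IsCompPoly i j Q := by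
  classical
  obtain ⟨G, hG⟩ := esH_symm_surj (compGen_symm (i * j) i j)
  obtain ⟨q, hq, hq'⟩ := component_preimage (w := fun k : Fin (i * j) => (k : ℕ) + 1)
    (fun k => esymm_homog_one (i * j) _) G (m := i * j)
    (by change IsWeightedHomogeneous _ (esH (i * j) G) _; rw [hG]; exact compGen_homog _ i j)
  exact ⟨q, hq'.trans hG, hq⟩

/-- kill the variables outside `s` -/
def killOut {α : Type*} [DecidableEq α] (s : Finset α) : MvPolynomial α ℤ →ₐ[ℤ] MvPolynomial α ℤ :=
  aeval fun a => if a ∈ s then X a else 0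

lemma coeff_killOut {α : Type*} [DecidableEq α] (s : Finset α) (F : MvPolynomial α ℤ) {d : α →₀ ℕ}
    (hd : d.support ⊆ s) : coeff d (killOut s F) = coeff d F := by
  classical
  induction F using MvPolynomial.induction_on' with
  | add p q hp hq => simp [map_add, hp, hq]
  | monomial e r =>
    by_cases he : e.support ⊆ s
    · have : killOut s (monomial e r) = monomial e r := by
        rw [killOut, aeval_monomial, monomial_eq]
        congr 1
        refine Finsupp.prod_congr fun a ha => ?_
        rw [if_pos (he ha)]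
      rw [this]
    · obtain ⟨a, ha, has⟩ := Finset.not_subset.1 he
      have : killOut s (monomial e r) = 0 := by
        rw [killOut, aeval_monomial, Finsupp.prod, Finset.prod_eq_zero ha, mul_zero]
        rw [if_neg has, zero_pow (Finsupp.mem_support_iff.1 ha)]
      rw [this, coeff_zero, coeff_monomial, if_neg]
      rintro rfl; exact he hd

lemma esymm_embed {R : Type*} [CommRing R] {n N : ℕ} (ι : Fin n ↪ Fin N) (f : Fin N → R)
    (h0 : ∀ a, a ∉ univ.map ι → f a = 0) (k : ℕ) :
    ((univ : Finset (Fin N)).val.map f).esymm k = ((univ : Finset (Fin n)).val.map (fun a => f (ι a))).esymm k := by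
  rw [esymm_extend (s := univ.map ι) (t := univ) (Finset.subset_univ _) f (fun a _ ha => h0 a ha),
    Finset.map_val, Multiset.map_map]
  rfl

lemma esymm_embed2 {R : Type*} [CommRing R] {n N : ℕ} (ι κ : Fin n ↪ Fin N) (f : Fin N × Fin N → R)
    (h0 : ∀ a, a.1 ∉ univ.map ι ∨ a.2 ∉ univ.map κ → f a = 0) (k : ℕ) :
    ((univ : Finset (Fin N × Fin N)).val.map f).esymm k
      = ((univ : Finset (Fin n × Fin n)).val.map (fun a => f (ι a.1, κ a.2))).esymm k := by
  rw [esymm_extend (s := univ.map (ι.prodMap κ)) (t := univ) (Finset.subset_univ _) f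
      (fun a _ ha => h0 a (by
        by_contra! hh
        obtain ⟨b, -, hb⟩ := Finset.mem_map.1 hh.1
        obtain ⟨c, -, hc⟩ := Finset.mem_map.1 hh.2
        exact ha (Finset.mem_map.2 ⟨(b, c), Finset.mem_univ _, Prod.ext hb hc⟩))),
    Finset.map_val, Multiset.map_map]
  rfl

lemma card_filter_support_le {N : ℕ} (d : Fin N ⊕ Fin N →₀ ℕ) {n : ℕ}
    (h : Finsupp.weight (wT N) d = (n, n)) :
    ((univ : Finset (Fin N)).filter fun a => d (Sum.inl a) ≠ 0).card ≤ n ∧
    ((univ : Finset (Fin N)).filter fun a => d (Sum.inr a) ≠ 0).card ≤ n := by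
  rw [Finsupp.weight_eq_sum, Fintype.sum_sum_type] at h
  simp [wT, Prod.ext_iff, Prod.fst_sum, Prod.snd_sum] at h
  constructor
  · refine le_trans ?_ h.1.le
    rw [Finset.card_eq_sum_ones, Finset.sum_filter]
    refine Finset.sum_le_sum fun a _ => ?_
    split_ifs <;> omega
  · refine le_trans ?_ h.2.le
    rw [Finset.card_eq_sum_ones, Finset.sum_filter]
    refine Finset.sum_le_sum fun a _ => ?_
    split_ifs <;> omega

lemma exists_embedding {n N : ℕ} {s : Finset (Fin N)} (hs : s.card ≤ n) (hn : n ≤ N) :
    ∃ ι : Fin n ↪ Fin N, s ⊆ univ.map ι := by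
  obtain ⟨t, hst, -, ht⟩ := Finset.exists_subsuperset_card_eq (Finset.subset_univ s) hs (by simpa using hn)
  exact ⟨(t.orderEmbOfFin ht).toEmbedding, by rw [Finset.map_orderEmbOfFin_univ]; exact hst⟩

theorem mulPoly_stable {n N : ℕ} (hn : n ≤ N) {P : W n} (hP : IsMulPoly n P) :
    aeval (two N n) P = mulGen N n := by
  classical
  have h1 : IsWeightedHomogeneous (wT N) (aeval (two N n) P) (n, n) :=
    isWeightedHomogeneous_aeval (two_homog N n) hP.2
  ext d
  by_cases hd : Finsupp.weight (wT N) d = (n, n)
  swap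
  · rw [h1.coeff_eq_zero _ hd, (mulGen_homog N n).coeff_eq_zero _ hd]
  obtain ⟨hl, hr⟩ := card_filter_support_le d hd
  obtain ⟨ι, hι⟩ := exists_embedding hl hn
  obtain ⟨κ, hκ⟩ := exists_embedding hr hn
  set s : Finset (Fin N ⊕ Fin N) := (univ.map ι).disjSum (univ.map κ)
  have hds : d.support ⊆ s := by
    intro a ha
    rw [Finsupp.mem_support_iff] at ha
    cases a with
    | inl a => exact Finset.inl_mem_disjSum.2 (hι (by simp [ha]))
    | inr a => exact Finset.inr_mem_disjSum.2 (hκ (by simp [ha]))
  rw [← coeff_killOut s _ hds, ← coeff_killOut s (mulGen N n) hds]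
  congr 1
  have key : killOut s (mulGen N n) = rename (Sum.map ι κ) (mulGen n n) := by
    simp only [mulGen]
    rw [map_esymm', Multiset.map_map, map_esymm',
      Multiset.map_map, esymm_embed2 ι κ]
    · congr 2
      funext a
      simp [killOut, s]
    · intro a ha
      rcases ha with ha | ha <;> simp at ha <;> simp [killOut, s, ha]
  rw [key, ← hP.1, ← AlgHom.comp_apply, ← AlgHom.comp_apply]
  congr 1
  apply algHom_ext
  intro i
  cases i with
  | inl k =>
    simp only [AlgHom.comp_apply, aeval_X, two, Sum.elim_inl, esymm_eq_multiset_esymm]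
    simp only [map_esymm', Multiset.map_map]
    rw [esymm_embed ι]
    · congr 2
      funext a
      simp [killOut, s]
    · intro a ha
      simp at ha
      simp [killOut, s, ha]
  | inr k =>
    simp only [AlgHom.comp_apply, aeval_X, two, Sum.elim_inr, esymm_eq_multiset_esymm]
    simp only [map_esymm', Multiset.map_map]
    rw [esymm_embed κ]
    · congr 2
      funext a
      simp [killOut, s]
    · intro a ha
      simp at ha
      simp [killOut, s, ha]

theorem compPoly_stable {i j N : ℕ} (hn : i * j ≤ N) {Q : U (i * j)} (hQ : IsCompPoly i j Q) :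
    aeval (fun k : Fin (i * j) => esymm (Fin N) ℤ ((k : ℕ) + 1)) Q = compGen N i j := by
  classical
  have h1 := isWeightedHomogeneous_aeval (w' := fun _ : Fin N => (1 : ℕ))
    (fun k : Fin (i * j) => esymm_homog_one N ((k : ℕ) + 1)) hQ.2
  ext d
  by_cases hd : Finsupp.weight (fun _ : Fin N => (1 : ℕ)) d = i * j
  swap
  · rw [h1.coeff_eq_zero _ hd, (compGen_homog N i j).coeff_eq_zero _ hd]
  have hcard : d.support.card ≤ i * j := by
    rw [← hd, Finsupp.weight_apply, Finsupp.sum, Finset.card_eq_sum_ones]
    refine Finset.sum_le_sum fun a ha => ?_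
    have := Finsupp.mem_support_iff.1 ha
    simp; omega
  obtain ⟨ι, hι⟩ := exists_embedding hcard hn
  rw [← coeff_killOut (univ.map ι) _ hι, ← coeff_killOut (univ.map ι) (compGen N i j) hι]
  congr 1
  have key : killOut (univ.map ι) (compGen N i j) = rename ι (compGen (i * j) i j) := by
    simp only [compGen]
    rw [map_esymm', Multiset.map_map, map_esymm',
      Multiset.map_map]
    rw [esymm_extend (s := (univ.map ι).powersetCard i) (Finset.powersetCard_mono (Finset.subset_univ _))
      _ (fun u hu hu' => ?_), Finset.powersetCard_map, Finset.map_val, Multiset.map_map]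
    · congr 2
      funext u
      simp [killOut, map_prod, mapEmbedding_apply, Finset.prod_map]
    · rw [Finset.mem_powersetCard] at hu hu'
      obtain ⟨a, ha, has⟩ : ∃ a ∈ u, a ∉ univ.map ι := by
        by_contra! h; exact hu' ⟨h, hu.2⟩
      simp only [Function.comp_def, map_prod]
      exact Finset.prod_eq_zero ha (by rw [killOut, aeval_X, if_neg has])
  rw [key, ← hQ.1, ← AlgHom.comp_apply, ← AlgHom.comp_apply]
  congr 1
  apply algHom_ext
  intro k
  simp only [AlgHom.comp_apply, aeval_X, esymm_eq_multiset_esymm]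
  simp only [map_esymm', Multiset.map_map]
  rw [esymm_embed ι]
  · congr 2
    funext a
    simp [killOut]
  · intro a ha
    simp at ha
    simp [killOut, ha]

end

end Groth.Agent.Lead.Lam
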