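import Groth.Agent.Lead.LamNewton
import Mathlib.Algebra.Algebra.Rat

/-! The sequence with prescribed power sums, over a ℚ-algebra. -/

namespace Groth.Agent.Lead.Lam

open Finset

variable {K : Type*} [CommRing K] [Algebra ℚ K]

noncomputable def seqOf (p : ℕ → K) : ℕ → K
  | 0 => 1
  | n + 1 => (((n : ℚ) + 1)⁻¹) • ∑ i : Fin (n + 1), (-1) ^ (i : ℕ) * p i * seqOf p (n - i)

lemma seqOf_zero (p : ℕ → K) : seqOf p 0 = 1 := by rw [seqOf]

lemma seqOf_rec (p : ℕ → K) (n : ℕ) :
    seqOf p (n + 1) * ((n : K) + 1) = ∑ i ∈ range (n + 1), (-1) ^ i * p i * seqOf p (n - i) := by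
  rw [seqOf, Fin.sum_univ_eq_sum_range (fun i => (-1) ^ i * p i * seqOf p (n - i)), Algebra.smul_def]
  have e : ((n : K) + 1) = algebraMap ℚ K ((n : ℚ) + 1) := by simp
  rw [e, mul_right_comm, ← map_mul, inv_mul_cancel₀ (by positivity), map_one, one_mul]

lemma nw_seqOf (p : ℕ → K) : ∀ k, nw (seqOf p) k = p k := by
  intro k
  induction k using Nat.strong_induction_on with
  | _ k ih =>
    apply (IsUnit.pow k (isUnit_one (M := K)).neg).mul_left_cancel
    have hsum : ∑ i ∈ range k, (-1 : K) ^ i * nw (seqOf p) i * seqOf p (k - i)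
        = ∑ i ∈ range k, (-1 : K) ^ i * p i * seqOf p (k - i) :=
      Finset.sum_congr rfl fun i hi => by rw [ih i (Finset.mem_range.1 hi)]
    rw [rec_split (seqOf_zero p), hsum, seqOf_rec, Finset.sum_range_succ, Nat.sub_self, seqOf_zero]
    ring

end Groth.Agent.Lead.Lam
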