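import Groth.Agent.Lead.LamNewton
import Groth.Prelude.Def_LambdaSp
import Mathlib.RingTheory.MvPolynomial.Symmetric.FundamentalTheorem
import Mathlib.Algebra.MvPolynomial.Equiv
import Mathlib.Data.Finset.Sort

/-! The universal polynomials of λ-rings. -/

namespace Groth.Agent.Lead.Lam

open MvPolynomial Finset

noncomputable section

abbrev U (N : ℕ) := MvPolynomial (Fin N) ℤ
abbrev W (N : ℕ) := MvPolynomial (Fin N ⊕ Fin N) ℤ

/-- the generic sequence -/
def gen {R : Type*} [CommRing R] (N : ℕ) (v : Fin N → R) : ℕ → R := fun t =>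
  if h : 1 ≤ t ∧ t ≤ N then v ⟨t - 1, by omega⟩ else if t = 0 then 1 else 0

lemma gen_zero {R : Type*} [CommRing R] (N : ℕ) (v : Fin N → R) : gen N v 0 = 1 := by simp [gen]

lemma gen_of_le {R : Type*} [CommRing R] {N t : ℕ} (v : Fin N → R) (h1 : 1 ≤ t) (h2 : t ≤ N) :
    gen N v t = v ⟨t - 1, by omega⟩ := by simp [gen, h1, h2]

lemma map_gen {R S F : Type*} [CommRing R] [CommRing S] [FunLike F R S] [RingHomClass F R S]
    (φ : F) (N : ℕ) (v : Fin N → R) (t : ℕ) : φ (gen N v t) = gen N (fun i => φ (v i)) t := by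
  simp only [gen]; split_ifs <;> simp

lemma gen_eq {R : Type*} [CommRing R] {N : ℕ} (c : ℕ → R) {t : ℕ} (ht : t ≤ N) (h0 : c 0 = 1) :
    gen N (fun i : Fin N => c ((i : ℕ) + 1)) t = c t := by
  rcases Nat.eq_zero_or_pos t with rfl | h
  · rw [gen_zero, h0]
  · rw [gen_of_le _ h ht]; simp [Nat.sub_add_cancel h]

/-- substitution of the elementary symmetric functions -/
def esH (N : ℕ) : U N →ₐ[ℤ] U N := aeval fun i : Fin N => esymm (Fin N) ℤ ((i : ℕ) + 1)

def esW (N : ℕ) : W N →ₐ[ℤ] W N :=
  aeval (Sum.elim (fun k : Fin N => rename Sum.inl (esymm (Fin N) ℤ ((k : ℕ) + 1)))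
      (fun k : Fin N => rename Sum.inr (esymm (Fin N) ℤ ((k : ℕ) + 1))))

lemma esymm_eq_es (N : ℕ) : (fun t => esymm (Fin N) ℤ t) = es ((univ : Finset (Fin N)).val.map X) := by
  funext t; rw [esymm_eq_multiset_esymm]; rfl

lemma gen_esymm {N t : ℕ} (ht : t ≤ N) :
    gen N (fun i : Fin N => esymm (Fin N) ℤ ((i : ℕ) + 1)) t = esymm (Fin N) ℤ t :=
  gen_eq (fun t => esymm (Fin N) ℤ t) ht (esymm_zero _ _)

lemma esH_injective {R : Type*} [CommRing R] (N : ℕ) :
    Function.Injective (aeval (fun i : Fin N => esymm (Fin N) R ((i : ℕ) + 1)) :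
      MvPolynomial (Fin N) R →ₐ[R] MvPolynomial (Fin N) R) := by
  intro p q h
  apply esymmAlgHom_injective (σ := Fin N) (R := R) (n := N) (by simp)
  apply Subtype.ext
  rw [esymmAlgHom_apply, esymmAlgHom_apply, h]

/-- substitution for one family inside the other -/
def esOuter (N : ℕ) : MvPolynomial (Fin N) (U N) →+* MvPolynomial (Fin N) (U N) :=
  (aeval (fun i : Fin N => esymm (Fin N) (U N) ((i : ℕ) + 1)) :
      MvPolynomial (Fin N) (U N) →ₐ[U N] MvPolynomial (Fin N) (U N)).toRingHom.comp
    (MvPolynomial.map (esH N).toRingHom)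

lemma sumEquiv_rename_inl (N : ℕ) (p : U N) :
    sumAlgEquiv ℤ (Fin N) (Fin N) (rename Sum.inl p) = MvPolynomial.map (C : ℤ →+* U N) p := by
  induction p using MvPolynomial.induction_on with
  | C a => simp
  | add p q hp hq => simp [map_add, hp, hq]
  | mul_X p i hp => simp [map_mul, hp]

lemma sumEquiv_rename_inr (N : ℕ) (p : U N) :
    sumAlgEquiv ℤ (Fin N) (Fin N) (rename Sum.inr p) = C p := by
  induction p using MvPolynomial.induction_on with
  | C a => simp
  | add p q hp hq => simp [map_add, hp, hq]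
  | mul_X p i hp => simp [map_mul, hp]

lemma sumEquiv_esW (N : ℕ) (p : W N) :
    sumAlgEquiv ℤ (Fin N) (Fin N) (esW N p) = esOuter N (sumAlgEquiv ℤ (Fin N) (Fin N) p) := by
  induction p using MvPolynomial.induction_on with
  | C a => simp [esW, esOuter, esH]
  | add p q hp hq => simp only [map_add, hp, hq]
  | mul_X p i hp =>
    simp only [map_mul, hp]
    congr 1
    cases i with
    | inl a =>
      simp only [esW, aeval_X, Sum.elim_inl, sumEquiv_rename_inl, sumAlgEquiv_X_inl]
      simp [esOuter, map_esymm]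
    | inr a =>
      simp only [esW, aeval_X, Sum.elim_inr, sumEquiv_rename_inr, sumAlgEquiv_X_inr]
      simp [esOuter, esH]

lemma esW_injective (N : ℕ) : Function.Injective (esW N) := by
  intro p q h
  apply (sumAlgEquiv ℤ (Fin N) (Fin N)).injective
  have := congrArg (sumAlgEquiv ℤ (Fin N) (Fin N)) h
  rw [sumEquiv_esW, sumEquiv_esW] at this
  refine map_injective _ ?_ (esH_injective N this)
  exact esH_injective N

lemma esH_symm_surj {N : ℕ} {F : U N} (h : F.IsSymmetric) : ∃ G, esH N G = F := by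
  obtain ⟨G, hG⟩ := esymmAlgHom_surjective (R := ℤ) (σ := Fin N) (n := N) (by simp) ⟨F, h⟩
  exact ⟨G, (esymmAlgHom_apply _).symm.trans (congrArg Subtype.val hG)⟩

lemma esW_symm_surj {N : ℕ} {F : W N}
    (h1 : ∀ e : Equiv.Perm (Fin N), rename (Sum.map e id) F = F)
    (h2 : ∀ e : Equiv.Perm (Fin N), rename (Sum.map id e) F = F) : ∃ G, esW N G = F := by
  set F' := sumAlgEquiv ℤ (Fin N) (Fin N) F with hF'
  have hr1 : ∀ (e : Fin N → Fin N) (p : W N), sumAlgEquiv ℤ (Fin N) (Fin N) (rename (Sum.map e id) p)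
      = rename e (sumAlgEquiv ℤ (Fin N) (Fin N) p) := by
    intro e p
    induction p using MvPolynomial.induction_on with
    | C a => simp
    | add p q hp hq => simp [map_add, hp, hq]
    | mul_X p i hp => simp only [map_mul, hp]; cases i <;> simp
  have hr2 : ∀ (e : Fin N → Fin N) (p : W N), sumAlgEquiv ℤ (Fin N) (Fin N) (rename (Sum.map id e) p)
      = MvPolynomial.map (rename e).toRingHom (sumAlgEquiv ℤ (Fin N) (Fin N) p) := by
    intro e p
    induction p using MvPolynomial.induction_on with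
    | C a => simp
    | add p q hp hq => simp [map_add, hp, hq]
    | mul_X p i hp => simp only [map_mul, hp]; cases i <;> simp
  have hsymm : F'.IsSymmetric := fun e => by rw [hF', ← hr1, h1]
  obtain ⟨G, hG⟩ := esymmAlgHom_surjective (R := U N) (σ := Fin N) (n := N) (by simp) ⟨F', hsymm⟩
  have hG' : aeval (fun i : Fin N => esymm (Fin N) (U N) ((i : ℕ) + 1)) G = F' :=
    (esymmAlgHom_apply _).symm.trans (congrArg Subtype.val hG)
  have hnat : ∀ (φ : U N →+* U N) (p : MvPolynomial (Fin N) (U N)),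
      MvPolynomial.map φ (aeval (fun i : Fin N => esymm (Fin N) (U N) ((i : ℕ) + 1)) p)
        = aeval (fun i : Fin N => esymm (Fin N) (U N) ((i : ℕ) + 1)) (MvPolynomial.map φ p) := by
    intro φ p
    induction p using MvPolynomial.induction_on with
    | C a => simp
    | add p q hp hq => simp [map_add, hp, hq]
    | mul_X p i hp => simp [map_mul, hp, map_esymm]
  have hcoef : ∀ d, (coeff d G).IsSymmetric := by
    intro d e
    have h := congrArg (MvPolynomial.map (rename (⇑e)).toRingHom) hG'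
    rw [hnat, hF', ← hr2, h2, ← hF', ← hG'] at h
    have := congrArg (coeff d) (esH_injective N h)
    simpa [coeff_map] using this
  choose g hg using fun d => esH_symm_surj (hcoef d)
  refine ⟨(sumAlgEquiv ℤ (Fin N) (Fin N)).symm (∑ d ∈ G.support, monomial d (g d)), ?_⟩
  apply (sumAlgEquiv ℤ (Fin N) (Fin N)).injective
  rw [sumEquiv_esW, AlgEquiv.apply_symm_apply, ← hF', ← hG']
  conv_rhs => rw [G.as_sum]
  simp only [esOuter, RingHom.comp_apply, map_sum, MvPolynomial.map_monomial]
  refine sum_congr rfl fun d _ => ?_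
  simp [hg]

/-! ### weights -/

variable {σ τ M : Type*} [AddCommMonoid M]

lemma isWeightedHomogeneous_aeval {w : σ → M} {w' : τ → M} {f : σ → MvPolynomial τ ℤ}
    (hf : ∀ i, IsWeightedHomogeneous w' (f i) (w i)) {p : MvPolynomial σ ℤ} {m : M}
    (hp : IsWeightedHomogeneous w p m) : IsWeightedHomogeneous w' (aeval f p) m := by
  rw [p.as_sum, map_sum]
  refine IsWeightedHomogeneous.sum _ _ _ fun d hd => ?_
  rw [aeval_monomial]
  have hm : (∑ i ∈ d.support, d i • w i) = m := by
    rw [← hp (mem_support_iff.1 hd), Finsupp.weight_apply]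
    rfl
  have h := IsWeightedHomogeneous.prod d.support (fun i => f i ^ d i) (fun i => d i • w i)
    (fun i _ => (hf i).pow _)
  rw [hm] at h
  have hC : IsWeightedHomogeneous w' (algebraMap ℤ (MvPolynomial τ ℤ) (coeff d p)) 0 :=
    isWeightedHomogeneous_C _ _
  simpa [Finsupp.prod] using hC.mul h

lemma component_preimage [DecidableEq M] {w : σ → M} {w' : τ → M} {f : σ → MvPolynomial τ ℤ}
    (hf : ∀ i, IsWeightedHomogeneous w' (f i) (w i)) (p : MvPolynomial σ ℤ) {m : M}
    (hp : IsWeightedHomogeneous w' (aeval (R := ℤ) f p) m) :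
    ∃ q, IsWeightedHomogeneous w q m ∧ aeval (R := ℤ) f q = aeval (R := ℤ) f p := by
  classical
  refine ⟨weightedHomogeneousComponent w m p,
    weightedHomogeneousComponent_isWeightedHomogeneous _ _, ?_⟩
  ext d
  by_cases hd : Finsupp.weight w' d = m
  · conv_rhs => rw [p.as_sum, map_sum, coeff_sum]
    rw [weightedHomogeneousComponent_apply, map_sum, coeff_sum, Finset.sum_filter]
    refine sum_congr rfl fun e he => ?_
    split_ifs with hw
    · rfl
    · symm
      have hh : IsWeightedHomogeneous w' (aeval f (monomial e (coeff e p))) (Finsupp.weight w e) :=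
        isWeightedHomogeneous_aeval hf (isWeightedHomogeneous_monomial _ _ _ rfl)
      exact hh.coeff_eq_zero _ (fun h => hw (h.symm.trans hd))
  · rw [(isWeightedHomogeneous_aeval hf (weightedHomogeneousComponent_isWeightedHomogeneous m p)).coeff_eq_zero _ hd,
      hp.coeff_eq_zero _ hd]

lemma esymm_homog {ι : Type*} {a : M} {f : ι → MvPolynomial τ ℤ} {w' : τ → M}
    (s : Finset ι) (hf : ∀ i ∈ s, IsWeightedHomogeneous w' (f i) a) (k : ℕ) :
    IsWeightedHomogeneous w' ((s.val.map f).esymm k) (k • a) := by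
  rw [Finset.esymm_map_val]
  refine IsWeightedHomogeneous.sum _ _ _ fun u hu => ?_
  rw [Finset.mem_powersetCard] at hu
  have := IsWeightedHomogeneous.prod u f (fun _ => a) (fun i hi => hf i (hu.1 hi))
  simpa [hu.2] using this

end

end Groth.Agent.Lead.Lam
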