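import Groth.Agent.Lead.Lie3Syz
import Groth.Prelude.Def_W4c1bouilletffgsL3
import Mathlib.RingTheory.Localization.Away.Basic
import Mathlib.RingTheory.Ideal.Colon
import Mathlib.RingTheory.Ideal.MinimalPrime.Basic

/-! The components `J` and `L` of the scheme of based three-dimensional Lie algebras. -/

namespace Groth.Agent.Lead.Lie3

open MvPolynomial

variable {A : Type*} [CommRing A]

local notation "D" => MvPolynomial (Fin 9) A

noncomputable def e1 : D := X 7 * X 0 - X 6 * X 1 + X 8 * X 3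
noncomputable def e2 : D := -(X 4 * X 0) - X 7 * X 1 + (X 1 - X 5) * X 3
noncomputable def e3 : D := -(X 5 * X 0) - X 8 * X 1 + X 2 * X 3
noncomputable def dM : D := d23 * X 8 + d31 * (X 1 - X 5) + d12 * X 2

noncomputable def II : Ideal D := Ideal.span {(e1 : D), e2, e3}
noncomputable def JJ : Ideal D := Ideal.span {(e1 : D), e2, e3, dM}
noncomputable def LL : Ideal D := Ideal.span ((X : Fin 9 → D) '' ({0, 1, 3} : Finset (Fin 9)))

lemma e1_mem : (e1 : D) ∈ II := Ideal.subset_span (by simp)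
lemma e2_mem : (e2 : D) ∈ II := Ideal.subset_span (by simp)
lemma e3_mem : (e3 : D) ∈ II := Ideal.subset_span (by simp)
lemma II_le_JJ : (II : Ideal D) ≤ JJ := Ideal.span_mono (by intro x hx; simp at hx ⊢; tauto)
lemma dM_mem : (dM : D) ∈ JJ := Ideal.subset_span (by simp)

lemma comb_mem (a b c : D) : a * e1 + b * e2 + c * e3 ∈ II :=
  add_mem (add_mem (Ideal.mul_mem_left _ _ e1_mem) (Ideal.mul_mem_left _ _ e2_mem)) (Ideal.mul_mem_left _ _ e3_mem)

lemma mem_II {x : D} (hx : x ∈ II) : ∃ a b c : D, x = a * e1 + b * e2 + c * e3 := by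
  obtain ⟨a, z, hz, rfl⟩ := Ideal.mem_span_insert.1 hx
  obtain ⟨b, c, rfl⟩ := Ideal.mem_span_pair.1 hz
  exact ⟨a, b, c, by ring⟩

lemma mem_JJ {x : D} (hx : x ∈ JJ) : ∃ (y : D) (β : D), y ∈ II ∧ x = y + β * dM := by
  obtain ⟨a, z, hz, rfl⟩ := Ideal.mem_span_insert.1 hx
  obtain ⟨b, z, hz', rfl⟩ := Ideal.mem_span_insert.1 hz
  obtain ⟨c, d, rfl⟩ := Ideal.mem_span_pair.1 hz'
  exact ⟨a * e1 + b * e2 + c * e3, d, comb_mem a b c, by ring⟩

lemma cof_w : (X 3 * dM : D) = d23 * e1 + d31 * e2 + d12 * e3 := by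
  simp only [dM, e1, e2, e3, d12, d31, d23]; ring

lemma mul_dM_mem {x : D} (hx : x ∈ LL) : x * dM ∈ II := by
  refine Submodule.span_induction (p := fun y _ => y * dM ∈ II) ?_ (by simp) (fun a b _ _ ha hb => by
    rw [add_mul]; exact add_mem ha hb) (fun r a _ ha => by
    rw [smul_eq_mul, mul_assoc]; exact Ideal.mul_mem_left _ _ ha) hx
  rintro _ ⟨j, hj, rfl⟩
  simp at hj
  rcases hj with rfl | rfl | rfl
  · have : (X 0 * dM : D) = (-(X 7 * X 2) + (X 1 - X 5) * X 8) * e1 + (X 6 * X 2 - X 8 * X 8) * e2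
        + (-(X 6 * (X 1 - X 5)) + X 8 * X 7) * e3 := by
      simp only [dM, e1, e2, e3, d12, d31, d23]; ring
    rw [this]; exact comb_mem _ _ _
  · have : (X 1 * dM : D) = (X 4 * X 2 - (X 1 - X 5) * X 5) * e1 + (X 7 * X 2 + X 8 * X 5) * e2
        + (-(X 7 * (X 1 - X 5)) - X 8 * X 4) * e3 := by
      simp only [dM, e1, e2, e3, d12, d31, d23]; ring
    rw [this]; exact comb_mem _ _ _
  · rw [cof_w]; exact comb_mem _ _ _

/-- specialisation to `L` -/
noncomputable def eps : D →ₐ[A] D := aeval (fun k => if k ∈ ({0, 1, 3} : Finset (Fin 9)) then 0 else X k)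

lemma eps_eq_zero_iff (x : D) : eps x = 0 ↔ x ∈ LL := by
  constructor
  · intro h
    have := sub_mem_span (s := {0, 1, 3}) (σ := eps) (fun k hk => by simp only [eps, aeval_X, if_neg hk])
      (fun k hk => by simp only [eps, aeval_X, if_pos hk]) x
    rwa [h, sub_zero] at this
  · intro h
    have : (LL : Ideal D) ≤ RingHom.ker (eps : D →ₐ[A] D).toRingHom := by
      rw [LL, Ideal.span_le]
      rintro _ ⟨k, hk, rfl⟩
      simp only [SetLike.mem_coe, RingHom.mem_ker]
      show eps (X k) = 0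
      rw [eps, aeval_X, if_pos (by simpa using hk)]
    exact this h

lemma II_le_LL : (II : Ideal D) ≤ LL := by
  intro x hx
  obtain ⟨a, b, c, rfl⟩ := mem_II hx
  rw [← eps_eq_zero_iff]
  simp [e1, e2, e3, eps]

lemma eps_dM_regular : ∀ y : D, eps dM * y = 0 → y = 0 := by
  classical
  have h : (eps dM : D) = monomial (Finsupp.single 2 1 + Finsupp.single 4 1 + Finsupp.single 6 1) (-1)
      + (monomial (Finsupp.single 2 1 + Finsupp.single 7 2) (-1)
        + (monomial (Finsupp.single 4 1 + Finsupp.single 8 2) 1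
        + (monomial (Finsupp.single 5 2 + Finsupp.single 6 1) (-1)
        + monomial (Finsupp.single 5 1 + Finsupp.single 7 1 + Finsupp.single 8 1) (-2)))) := by
    have c2 : (C (-2 : A) : D) = -2 := by rw [map_neg, map_ofNat]
    rw [show (monomial (Finsupp.single 5 1 + Finsupp.single 7 1 + Finsupp.single 8 1) (-2 : A) : D)
        = C (-2) * (X 5 * X 7 * X 8) by simp [X, monomial_mul, C_mul_monomial],
      show (monomial (Finsupp.single 2 1 + Finsupp.single 4 1 + Finsupp.single 6 1) (-1 : A) : D)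
        = -(X 2 * X 4 * X 6) by simp [X, monomial_mul],
      show (monomial (Finsupp.single 2 1 + Finsupp.single 7 2) (-1 : A) : D)
        = -(X 2 * X 7 ^ 2) by simp [X, monomial_mul, monomial_pow],
      show (monomial (Finsupp.single 4 1 + Finsupp.single 8 2) (1 : A) : D)
        = X 4 * X 8 ^ 2 by simp [X, monomial_mul, monomial_pow],
      show (monomial (Finsupp.single 5 2 + Finsupp.single 6 1) (-1 : A) : D)
        = -(X 5 ^ 2 * X 6) by simp [X, monomial_mul, monomial_pow], c2]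
    simp [eps, dM, d12, d31, d23]
    ring
  refine regular_of_leading (s := Finsupp.single 2 1 + Finsupp.single 4 1 + Finsupp.single 6 1)
    (ε := -1) isUnit_one.neg (fun t ht hc => ?_) ?_
  · rw [h] at hc
    simp only [coeff_add, coeff_monomial, if_neg ht, zero_add] at hc
    have hcases : Finsupp.single 2 1 + Finsupp.single 7 2 = t ∨ Finsupp.single 4 1 + Finsupp.single 8 2 = t ∨
        Finsupp.single 5 2 + Finsupp.single 6 1 = t ∨
        Finsupp.single 5 1 + Finsupp.single 7 1 + Finsupp.single 8 1 = t := by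
      by_contra hh
      simp only [not_or] at hh
      simp [hh.1, hh.2.1, hh.2.2.1, hh.2.2.2] at hc
    rcases hcases with rfl | rfl | rfl | rfl
    · exact lex_lt 4 (fun k hk => by simp; fin_cases k <;> simp at hk ⊢) (by simp)
    all_goals exact lex_lt 2 (fun k hk => by simp; fin_cases k <;> simp at hk ⊢) (by simp)
  · rw [h]
    have ne : ∀ (a : Fin 9 →₀ ℕ), a 2 * a 4 = 0 → a ≠ Finsupp.single 2 1 + Finsupp.single 4 1 + Finsupp.single 6 1 := by
      intro a ha he; rw [he] at ha; simp at ha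
    simp only [coeff_add, coeff_monomial]
    rw [if_pos trivial, if_neg (ne _ (by simp)), if_neg (ne _ (by simp)), if_neg (ne _ (by simp)),
      if_neg (ne _ (by simp))]
    simp

lemma mem_II_of {x β y : D} (hy : y ∈ II) (hx : x = y + β * dM) (h : eps x = 0) : x ∈ II := by
  subst hx
  rw [map_add, map_mul, (eps_eq_zero_iff _).2 (II_le_LL hy), zero_add, mul_comm] at h
  exact add_mem hy (mul_dM_mem ((eps_eq_zero_iff _).1 (eps_dM_regular _ h)))

theorem II_eq : (II : Ideal D) = JJ ⊓ LL := by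
  refine le_antisymm (le_inf II_le_JJ II_le_LL) fun x hx => ?_
  obtain ⟨y, β, hy, hxy⟩ := mem_JJ hx.1
  exact mem_II_of hy hxy ((eps_eq_zero_iff _).2 hx.2)

/-- `w` is regular modulo `J` -/
theorem w_regular {x : D} (h : X 3 * x ∈ JJ) : x ∈ JJ := by
  obtain ⟨y, β, hy, hxy⟩ := mem_JJ h
  have hI : X 3 * x ∈ II := mem_II_of hy hxy (by simp [eps])
  obtain ⟨a, b, c, habc⟩ := mem_II hI
  have hk : ∀ {j : Fin 9}, j ≠ 3 → kill (A := A) 3 (X j) = X j := fun hj => by simp [kill, hj]
  have h0 := congrArg (kill (A := A) 3) habc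
  simp only [map_mul, map_add, e1, e2, e3, map_sub, map_neg] at h0
  rw [show kill (A := A) 3 (X 3) = 0 by simp [kill]] at h0
  simp only [hk (show (0 : Fin 9) ≠ 3 by decide), hk (show (1 : Fin 9) ≠ 3 by decide),
    hk (show (4 : Fin 9) ≠ 3 by decide), hk (show (5 : Fin 9) ≠ 3 by decide),
    hk (show (6 : Fin 9) ≠ 3 by decide), hk (show (7 : Fin 9) ≠ 3 by decide),
    hk (show (8 : Fin 9) ≠ 3 by decide), zero_mul, mul_zero, add_zero] at h0
  obtain ⟨t, c₁, c₂, c₃, r1, r2, r3⟩ := syzygy _ _ _ h0.symm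
  have hres : ∀ (z s : D), kill 3 z = s → ∃ z', z = s + X 3 * z' := by
    intro z s hzs
    have := sub_mem_span (s := {3}) (σ := kill 3) (fun k hk => by simp [kill] at hk ⊢; simp [hk])
      (fun k hk => by simp at hk; simp [kill, hk]) z
    rw [hzs, Finset.coe_singleton, Set.image_singleton, Ideal.mem_span_singleton] at this
    obtain ⟨z', hz'⟩ := this
    exact ⟨z', by linear_combination hz'⟩
  obtain ⟨a', ha'⟩ := hres _ _ r1
  obtain ⟨b', hb'⟩ := hres _ _ r2
  obtain ⟨c', hc'⟩ := hres _ _ r3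
  have key : x = t * dM + ((a' - c₁ * (X 1 - X 5) + c₂ * X 2) * e1 + (b' + c₁ * X 8 - c₃ * X 2) * e2
      + (c' - c₂ * X 8 + c₃ * (X 1 - X 5)) * e3) := by
    apply (isRegular_X (R := A) (n := (3 : Fin 9))).left
    show X 3 * x = X 3 * _
    rw [habc, ha', hb', hc']
    simp only [dM, e1, e2, e3, d12, d31, d23]
    ring
  rw [key]
  exact add_mem (Ideal.mul_mem_left _ _ dM_mem) (II_le_JJ (comb_mem _ _ _))

lemma w_pow_regular {x : D} : ∀ n : ℕ, X 3 ^ n * x ∈ JJ → x ∈ JJ
  | 0, h => by simpa using h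
  | n + 1, h => w_pow_regular n (w_regular (by rwa [pow_succ', mul_assoc] at h))

/-- forgetting `c, f, i` -/
noncomputable def rho : D →ₐ[A] D := aeval (fun k => if k ∈ ({2, 5, 8} : Finset (Fin 9)) then 0 else X k)

abbrev Loc (A : Type*) [CommRing A] := Localization.Away (X 3 : MvPolynomial (Fin 9) A)

noncomputable def wInv : Loc A := IsLocalization.Away.invSelf (X 3 : D)

lemma w_wInv : algebraMap D (Loc A) (X 3) * wInv = 1 := IsLocalization.Away.mul_invSelf _

noncomputable def xI : Loc A := algebraMap D (Loc A) (X 6 * X 1 - X 7 * X 0) * wInv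
noncomputable def xF : Loc A := algebraMap D (Loc A) (-(X 4 * X 0) - X 7 * X 1 + X 1 * X 3) * wInv
noncomputable def xC : Loc A := (xF * algebraMap D (Loc A) (X 0) + xI * algebraMap D (Loc A) (X 1)) * wInv

/-- the rational parametrisation -/
noncomputable def par : D →ₐ[A] Loc A :=
  aeval (fun k => if k = 2 then xC else if k = 5 then xF else if k = 8 then xI else algebraMap D (Loc A) (X k))

lemma par_rho (p : D) : par (rho p) = algebraMap D (Loc A) (rho p) := by
  have : (par : D →ₐ[A] Loc A).comp rho = (IsScalarTower.toAlgHom A D (Loc A)).comp rho := by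
    apply algHom_ext
    intro k
    fin_cases k <;> simp [rho, par]
  exact congrArg (fun φ : D →ₐ[A] Loc A => φ p) this

lemma par_e : par (e1 : D) = 0 ∧ par (e2 : D) = 0 ∧ par (e3 : D) = 0 := by
  have hI : xI * algebraMap D (Loc A) (X 3) = algebraMap D (Loc A) (X 6 * X 1 - X 7 * X 0) := by
    rw [xI, mul_assoc, mul_comm wInv, w_wInv, mul_one]
  have hF : xF * algebraMap D (Loc A) (X 3) = algebraMap D (Loc A) (-(X 4 * X 0) - X 7 * X 1 + X 1 * X 3) := by
    rw [xF, mul_assoc, mul_comm wInv, w_wInv, mul_one]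
  have hC : xC * algebraMap D (Loc A) (X 3) = xF * algebraMap D (Loc A) (X 0) + xI * algebraMap D (Loc A) (X 1) := by
    rw [xC, mul_assoc, mul_comm wInv, w_wInv, mul_one]
  simp only [map_sub, map_add, map_neg, map_mul] at hI hF
  refine ⟨?_, ?_, ?_⟩
  · simp [par, e1]; linear_combination hI
  · simp [par, e2]; linear_combination -hF
  · simp [par, e3]; linear_combination hC

lemma JJ_le_ker {x : D} (hx : x ∈ JJ) : par x = 0 := by
  obtain ⟨y, β, hy, rfl⟩ := mem_JJ hx
  obtain ⟨h1, h2, h3⟩ := par_e (A := A)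
  obtain ⟨a, b, c, rfl⟩ := mem_II hy
  have hd : par (dM : D) = 0 := by
    have := congrArg (par (A := A)) (cof_w (A := A))
    rw [map_mul, map_add, map_add, map_mul, map_mul, map_mul, h1, h2, h3] at this
    have h3' : par (X 3 : D) = algebraMap D (Loc A) (X 3) := by simp [par]
    rw [h3', mul_zero, mul_zero, mul_zero, add_zero, add_zero] at this
    calc par (dM : D) = (algebraMap D (Loc A) (X 3) * par (dM : D)) * wInv := by
          rw [mul_right_comm, w_wInv, one_mul]
      _ = 0 := by rw [this, zero_mul]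
  simp [h1, h2, h3, hd]

lemma clear_denominators (x : D) : ∃ (n : ℕ) (p : D), X 3 ^ n * x - rho p ∈ JJ := by
  induction x using MvPolynomial.induction_on with
  | C a => exact ⟨0, C a, by simp [← MvPolynomial.algebraMap_eq]⟩
  | add p q hp hq =>
    obtain ⟨n, p', hp⟩ := hp
    obtain ⟨m, q', hq⟩ := hq
    refine ⟨n + m, X 3 ^ m * p' + X 3 ^ n * q', ?_⟩
    have hr : rho (X 3 : D) = X 3 := by simp [rho]
    have : X 3 ^ (n + m) * (p + q) - rho (X 3 ^ m * p' + X 3 ^ n * q')
        = X 3 ^ m * (X 3 ^ n * p - rho p') + X 3 ^ n * (X 3 ^ m * q - rho q') := by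
      rw [map_add, map_mul, map_mul, map_pow, map_pow, hr]; ring
    rw [this]
    exact add_mem (Ideal.mul_mem_left _ _ hp) (Ideal.mul_mem_left _ _ hq)
  | mul_X p j hp =>
    obtain ⟨n, p', hp⟩ := hp
    have hj : ∃ (m : ℕ) (q : D), X 3 ^ m * X j - rho q ∈ JJ := by
      by_cases h8 : j = 8
      · subst h8
        refine ⟨1, X 6 * X 1 - X 7 * X 0, ?_⟩
        have : (X 3 ^ 1 * X 8 - rho (X 6 * X 1 - X 7 * X 0) : D) = e1 := by simp [rho, e1]; ring
        rw [this]; exact II_le_JJ e1_mem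
      by_cases h5 : j = 5
      · subst h5
        refine ⟨1, -(X 4 * X 0) - X 7 * X 1 + X 1 * X 3, ?_⟩
        have : (X 3 ^ 1 * X 5 - rho (-(X 4 * X 0) - X 7 * X 1 + X 1 * X 3) : D) = -e2 := by simp [rho, e2]; ring
        rw [this]; exact neg_mem (II_le_JJ e2_mem)
      by_cases h2 : j = 2
      · subst h2
        refine ⟨2, (-(X 4 * X 0) - X 7 * X 1 + X 1 * X 3) * X 0 + (X 6 * X 1 - X 7 * X 0) * X 1, ?_⟩
        have : (X 3 ^ 2 * X 2 - rho ((-(X 4 * X 0) - X 7 * X 1 + X 1 * X 3) * X 0 + (X 6 * X 1 - X 7 * X 0) * X 1) : D)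
            = X 1 * e1 + (-(X 0)) * e2 + X 3 * e3 := by simp [rho, e1, e2, e3]; ring
        rw [this]; exact II_le_JJ (comb_mem _ _ _)
      exact ⟨0, X j, by simp [rho, h8, h5, h2]⟩
    obtain ⟨m, q, hq⟩ := hj
    refine ⟨n + m, p' * q, ?_⟩
    have : X 3 ^ (n + m) * (p * X j) - rho (p' * q)
        = (X 3 ^ m * X j) * (X 3 ^ n * p - rho p') + rho p' * (X 3 ^ m * X j - rho q) := by
      rw [map_mul]; ring
    rw [this]
    exact add_mem (Ideal.mul_mem_left _ _ hp) (Ideal.mul_mem_left _ _ hq)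

theorem mem_JJ_iff {x : D} : x ∈ JJ ↔ par x = 0 := by
  refine ⟨JJ_le_ker, fun h => ?_⟩
  obtain ⟨n, p, hp⟩ := clear_denominators x
  have h0 := JJ_le_ker hp
  rw [map_sub, map_mul, h, mul_zero, zero_sub, neg_eq_zero, par_rho] at h0
  have hinj : Function.Injective (algebraMap D (Loc A)) := by
    refine IsLocalization.injective (Loc A) (M := Submonoid.powers (X 3 : D)) ?_
    rintro _ ⟨k, rfl⟩
    exact (isRegular_X_pow (R := A) (n := (3 : Fin 9)) k).mem_nonZeroDivisors
  rw [hinj (h0.trans (map_zero _).symm), sub_zero] at hp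
  exact w_pow_regular n hp

instance [IsDomain A] : IsDomain (Loc A) :=
  IsLocalization.isDomain_localization (powers_le_nonZeroDivisors_of_noZeroDivisors (X_ne_zero 3))

theorem JJ_prime [IsDomain A] : (JJ : Ideal D).IsPrime := by
  have : (JJ : Ideal D) = RingHom.ker (par : D →ₐ[A] Loc A).toRingHom := by
    ext x; exact mem_JJ_iff
  rw [this]; exact RingHom.ker_isPrime _

theorem LL_prime [IsDomain A] : (LL : Ideal D).IsPrime := by
  have : (LL : Ideal D) = RingHom.ker (eps : D →ₐ[A] D).toRingHom := by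
    ext x; exact (eps_eq_zero_iff x).symm
  rw [this]; exact RingHom.ker_isPrime _

lemma mem_JJ_of_mul_X0 {x : D} (h : x * X 0 ∈ JJ) : x ∈ JJ := by
  rw [mem_JJ_iff, map_mul] at h
  have h0 : par (X 0 : D) = algebraMap D (Loc A) (X 0) := by simp [par]
  rw [h0] at h
  rw [mem_JJ_iff]
  obtain ⟨⟨p, s⟩, hps⟩ := IsLocalization.surj (Submonoid.powers (X 3 : D)) (par x)
  obtain ⟨c, hc⟩ := (IsLocalization.map_eq_zero_iff (Submonoid.powers (X 3 : D)) (Loc A) (p * X 0)).1 (by
    rw [map_mul, ← hps, mul_right_comm, h, zero_mul])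
  have hc' : ((c : D) * p) * X 0 = 0 := by rw [mul_assoc]; exact hc
  have hcp : (c : D) * p = 0 := (isRegular_X (R := A) (n := (0 : Fin 9))).right (hc'.trans (zero_mul _).symm)
  have hp0 : algebraMap D (Loc A) p = 0 := (IsLocalization.map_eq_zero_iff (Submonoid.powers (X 3 : D)) (Loc A) p).2 ⟨c, hcp⟩
  have hu := IsLocalization.map_units (Loc A) s
  exact hu.mul_left_eq_zero.1 (hps.trans hp0)

lemma X0_mem_LL : (X 0 : D) ∈ LL := Ideal.subset_span ⟨0, by simp, rfl⟩

theorem colon_LL : (II : Ideal D).colon ((LL : Ideal D) : Set D) = JJ := by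
  ext x
  rw [Submodule.mem_colon]
  constructor
  · intro h
    exact mem_JJ_of_mul_X0 (II_le_JJ (h _ X0_mem_LL))
  · intro hx p hp
    obtain ⟨y, β, hy, rfl⟩ := mem_JJ hx
    rw [smul_eq_mul, add_mul, mul_right_comm β, mul_assoc]
    exact add_mem (Ideal.mul_mem_right _ _ hy) (mul_dM_mem (Ideal.mul_mem_left _ _ hp) |> fun h => by
      rwa [← mul_assoc])

theorem colon_JJ : (II : Ideal D).colon ((JJ : Ideal D) : Set D) = LL := by
  ext x
  rw [Submodule.mem_colon]
  constructor
  · intro h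
    have := (eps_eq_zero_iff _).2 (II_le_LL (h _ dM_mem))
    rw [smul_eq_mul, map_mul, mul_comm] at this
    exact (eps_eq_zero_iff _).1 (eps_dM_regular _ this)
  · intro hx p hp
    obtain ⟨y, β, hy, rfl⟩ := mem_JJ hp
    rw [smul_eq_mul, mul_add, ← mul_assoc]
    exact add_mem (Ideal.mul_mem_left _ _ hy) (mul_dM_mem (Ideal.mul_mem_right _ _ hx))

/-- change of coordinates -/
noncomputable def coords : D ≃ₐ[A] D :=
  AlgEquiv.ofAlgHom (aeval ![X 0 + X 8, X 1 - X 5, X 2, X 3 - X 7, X 4, X 5, X 6, X 7, X 8])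
    (aeval ![X 0 - X 8, X 1 + X 5, X 2, X 3 + X 7, X 4, X 5, X 6, X 7, X 8])
    (algHom_ext fun k => by fin_cases k <;> simp)
    (algHom_ext fun k => by fin_cases k <;> simp)

lemma map_coords_I : (Lie3Mod.idI A).map (coords (A := A)) = II := by
  rw [Lie3Mod.idI, Ideal.map_span, II]
  congr 1
  simp only [Set.image_insert_eq, Set.image_singleton]
  have h1 : coords (Lie3Mod.Q1 A) = e1 := by simp [coords, Lie3Mod.Q1, e1]; ring
  have h2 : coords (Lie3Mod.Q2 A) = e2 := by simp [coords, Lie3Mod.Q2, e2]; ring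
  have h3 : coords (Lie3Mod.Q3 A) = e3 := by simp [coords, Lie3Mod.Q3, e3]; ring
  rw [h1, h2, h3]

lemma map_coords_J : (Lie3Mod.idJ A).map (coords (A := A)) = JJ := by
  rw [Lie3Mod.idJ, Ideal.map_span, JJ]
  congr 1
  simp only [Set.image_insert_eq, Set.image_singleton]
  have h1 : coords (Lie3Mod.Q1 A) = e1 := by simp [coords, Lie3Mod.Q1, e1]; ring
  have h2 : coords (Lie3Mod.Q2 A) = e2 := by simp [coords, Lie3Mod.Q2, e2]; ring
  have h3 : coords (Lie3Mod.Q3 A) = e3 := by simp [coords, Lie3Mod.Q3, e3]; ring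
  have h4 : coords (Lie3Mod.detM A) = dM := by simp [coords, Lie3Mod.detM, dM, d12, d31, d23]; ring
  rw [h1, h2, h3, h4]

lemma map_coords_L : (Lie3Mod.idL A).map (coords (A := A)) = LL := by
  rw [Lie3Mod.idL, Ideal.map_span, LL]
  congr 1
  have h1 : coords (Lie3Mod.L1 A) = X 0 := by simp [coords, Lie3Mod.L1]
  have h2 : coords (Lie3Mod.L2 A) = X 1 := by simp [coords, Lie3Mod.L2]
  have h3 : coords (Lie3Mod.L3 A) = X 3 := by simp [coords, Lie3Mod.L3]
  simp only [Set.image_insert_eq, Set.image_singleton, Finset.coe_insert, Finset.coe_singleton]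
  rw [h1, h2, h3]

lemma comap_of_map {I : Ideal D} {I' : Ideal D} (h : I.map (coords (A := A)) = I') :
    I = I'.comap (coords (A := A)) := by
  rw [← h, Ideal.comap_map_of_bijective _ (coords (A := A)).bijective]

theorem idI_eq : Lie3Mod.idI A = Lie3Mod.idJ A ⊓ Lie3Mod.idL A := by
  rw [comap_of_map map_coords_I, comap_of_map map_coords_J, comap_of_map map_coords_L, II_eq]
  rfl

theorem idJ_prime [IsDomain A] : (Lie3Mod.idJ A).IsPrime := by
  rw [comap_of_map map_coords_J]
  haveI := JJ_prime (A := A)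
  exact Ideal.IsPrime.comap _

theorem idL_prime [IsDomain A] : (Lie3Mod.idL A).IsPrime := by
  rw [comap_of_map map_coords_L]
  haveI := LL_prime (A := A)
  exact Ideal.IsPrime.comap _

lemma colon_comap (I S : Ideal D) : (I.comap (coords (A := A))).colon (S.comap (coords (A := A)) : Set D)
    = (I.colon (S : Set D)).comap (coords (A := A)) := by
  ext x
  rw [Ideal.mem_comap, Submodule.mem_colon, Submodule.mem_colon]
  constructor
  · intro h p hp
    obtain ⟨q, rfl⟩ := (coords (A := A)).surjective p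
    have := h q hp
    rwa [smul_eq_mul, Ideal.mem_comap, map_mul] at this
  · intro h p hp
    rw [smul_eq_mul, Ideal.mem_comap, map_mul]
    exact h _ hp

theorem idI_colon_idL : (Lie3Mod.idI A).colon (Lie3Mod.idL A : Set D) = Lie3Mod.idJ A := by
  rw [comap_of_map map_coords_I, comap_of_map map_coords_J, comap_of_map map_coords_L, colon_comap, colon_LL]

theorem idI_colon_idJ : (Lie3Mod.idI A).colon (Lie3Mod.idJ A : Set D) = Lie3Mod.idL A := by
  rw [comap_of_map map_coords_I, comap_of_map map_coords_J, comap_of_map map_coords_L, colon_comap, colon_JJ]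

theorem idJ_minimal [IsDomain A] : Lie3Mod.idJ A ∈ (Lie3Mod.idI A).minimalPrimes := by
  refine ⟨⟨idJ_prime, ?_⟩, fun P hP hPJ => ?_⟩
  · rw [idI_eq]; exact inf_le_left
  · intro x hx
    have hc := (idI_colon_idL (A := A)).ge hx
    have hL : Lie3Mod.L1 A ∈ Lie3Mod.idL A := Ideal.subset_span (by simp)
    have h : x * Lie3Mod.L1 A ∈ P := hP.2 (Submodule.mem_colon.1 hc _ hL)
    refine (hP.1.mem_or_mem h).resolve_right fun h1 => ?_
    have h2 := hPJ h1
    rw [comap_of_map map_coords_J, Ideal.mem_comap, show coords (Lie3Mod.L1 A) = X 0 by simp [coords, Lie3Mod.L1],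
      mem_JJ_iff, show par (X 0 : D) = algebraMap D (Loc A) (X 0) by simp [par],
      IsLocalization.map_eq_zero_iff (Submonoid.powers (X 3 : D)) (Loc A)] at h2
    obtain ⟨⟨_, k, rfl⟩, hk⟩ := h2
    exact mul_ne_zero (pow_ne_zero k (X_ne_zero 3)) (X_ne_zero 0) hk

theorem idL_minimal [IsDomain A] : Lie3Mod.idL A ∈ (Lie3Mod.idI A).minimalPrimes := by
  refine ⟨⟨idL_prime, ?_⟩, fun P hP hPL => ?_⟩
  · rw [idI_eq]; exact inf_le_right
  · intro x hx
    have hc := (idI_colon_idJ (A := A)).ge hx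
    have hJ : Lie3Mod.detM A ∈ Lie3Mod.idJ A := Ideal.subset_span (by simp)
    have h : x * Lie3Mod.detM A ∈ P := hP.2 (Submodule.mem_colon.1 hc _ hJ)
    refine (hP.1.mem_or_mem h).resolve_right fun h1 => ?_
    have h2 := hPL h1
    rw [comap_of_map map_coords_L, Ideal.mem_comap,
      show coords (Lie3Mod.detM A) = dM by simp [coords, Lie3Mod.detM, dM, d12, d31, d23]; ring,
      ← eps_eq_zero_iff] at h2
    exact one_ne_zero (eps_dM_regular (A := A) 1 (by rw [h2, zero_mul]))

theorem smul_mem_idJ [IsDomain A] {n : A} (hn : n ≠ 0) {x : D} (h : n • x ∈ Lie3Mod.idJ A) : x ∈ Lie3Mod.idJ A := by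
  rw [comap_of_map map_coords_J, Ideal.mem_comap, mem_JJ_iff] at h ⊢
  rw [map_smul, map_smul, Algebra.smul_def, mul_eq_zero] at h
  refine h.resolve_left fun h0 => hn ?_
  rw [IsScalarTower.algebraMap_apply A D (Loc A), IsLocalization.map_eq_zero_iff (Submonoid.powers (X 3 : D))] at h0
  obtain ⟨⟨_, k, rfl⟩, hk⟩ := h0
  simpa [MvPolynomial.algebraMap_eq, X_ne_zero] using hk

theorem smul_mem_idL [IsDomain A] {n : A} (hn : n ≠ 0) {x : D} (h : n • x ∈ Lie3Mod.idL A) : x ∈ Lie3Mod.idL A := by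
  rw [comap_of_map map_coords_L, Ideal.mem_comap, ← eps_eq_zero_iff] at h ⊢
  rw [map_smul, map_smul, smul_eq_zero] at h
  exact h.resolve_left hn

end Groth.Agent.Lead.Lie3
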