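import Mathlib.RingTheory.MvPolynomial.MonomialOrder
import Mathlib.Data.Finsupp.MonomialOrder
import Mathlib.Algebra.MvPolynomial.CommRing
import Mathlib.RingTheory.Ideal.Span
import Mathlib.Tactic.LinearCombination
import Mathlib.Tactic.Ring
import Mathlib.Tactic.FinCases

/-! Syzygies behind the component `J` of the scheme of based three-dimensional Lie algebras.
Coordinates: `u v c w e f g h i = X 0, …, X 8`. -/

namespace Groth.Agent.Lead.Lie3

open MvPolynomial
open scoped MonomialOrder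

variable {A : Type*} [CommRing A]

local notation "D" => MvPolynomial (Fin 9) A

/-- minors -/
noncomputable def d12 : D := -(X 7 ^ 2) - X 4 * X 6
noncomputable def d31 : D := X 5 * X 6 + X 7 * X 8
noncomputable def d23 : D := X 4 * X 8 - X 7 * X 5

lemma regular_of_leading {p : D} {s : Fin 9 →₀ ℕ} {ε : A} (hε : IsUnit ε)
    (h : ∀ t, s ≠ t → coeff t p ≠ 0 → t ≺[MonomialOrder.lex] s) (hs : coeff s p = ε) :
    ∀ y : D, p * y = 0 → y = 0 := by
  intro y hy
  rcases subsingleton_or_nontrivial A with h0 | h0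
  · exact Subsingleton.elim _ _
  · have hdeg : MonomialOrder.lex.degree p = s := by
      apply MonomialOrder.lex.toSyn.injective
      apply le_antisymm
      · rw [MonomialOrder.degree_le_iff]
        intro t ht
        rw [mem_support_iff] at ht
        by_cases hts : s = t
        · rw [hts]
        · exact (h t hts ht).le
      · exact MonomialOrder.lex.le_degree (by rw [mem_support_iff, hs]; exact hε.ne_zero)
    have hlc : MonomialOrder.lex.leadingCoeff p = ε := by rw [MonomialOrder.leadingCoeff, hdeg, hs]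
    have := MonomialOrder.lex.mem_nonZeroDivisors_of_leadingCoeff_mem_nonZeroDivisors
      (f := p) (by rw [hlc]; exact hε.mem_nonZeroDivisors)
    rw [mul_comm] at hy
    exact (mul_right_mem_nonZeroDivisors_eq_zero_iff this).1 hy

lemma lex_lt {a b : Fin 9 →₀ ℕ} (j : Fin 9) (h1 : ∀ k, k < j → a k = b k) (h2 : a j < b j) :
    a ≺[MonomialOrder.lex] b := by
  rw [MonomialOrder.lex_lt_iff, Finsupp.Lex.lt_iff]
  exact ⟨j, h1, h2⟩

lemma two_term {a b : Fin 9 →₀ ℕ} {ε δ : A} (hε : IsUnit ε) (j : Fin 9) (h1 : ∀ k, k < j → b k = a k)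
    (h2 : b j < a j) : ∀ y : D, (monomial a ε + monomial b δ) * y = 0 → y = 0 := by
  classical
  have hne : b ≠ a := fun h => by rw [h] at h2; exact lt_irrefl _ h2
  refine regular_of_leading (s := a) hε (fun t ht hc => ?_) (by simp [hne])
  rw [coeff_add, coeff_monomial, coeff_monomial, if_neg ht, zero_add] at hc
  by_cases hbt : b = t
  · rw [← hbt]; exact lex_lt j h1 h2
  · simp [hbt] at hc

lemma d12_regular : ∀ y : D, d12 * y = 0 → y = 0 := by
  have : (d12 : D) = monomial (Finsupp.single 4 1 + Finsupp.single 6 1) (-1) + monomial (Finsupp.single 7 2) (-1) := by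
    simp [d12, X, monomial_mul, monomial_pow]; abel
  rw [this]
  exact two_term isUnit_one.neg 4 (fun k hk => by simp [Finsupp.single_apply]; fin_cases k <;> simp at hk ⊢)
    (by simp [Finsupp.single_apply])

lemma qv_sub_pu_regular : ∀ y : D, (X 6 * X 1 - X 4 * X 0) * y = 0 → y = 0 := by
  have : (X 6 * X 1 - X 4 * X 0 : D) = monomial (Finsupp.single 4 1 + Finsupp.single 0 1) (-1)
      + monomial (Finsupp.single 6 1 + Finsupp.single 1 1) 1 := by
    simp [X, monomial_mul]; abel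
  rw [this]
  exact two_term isUnit_one.neg 0 (fun k hk => by simp at hk) (by simp [Finsupp.single_apply])

lemma p_pi_qf_regular : ∀ y : D, (X 4 * (X 4 * X 8 + X 6 * X 5)) * y = 0 → y = 0 := by
  have hr : ∀ y : D, (X 4 * X 8 + X 6 * X 5) * y = 0 → y = 0 := by
    have : (X 4 * X 8 + X 6 * X 5 : D) = monomial (Finsupp.single 4 1 + Finsupp.single 8 1) 1
        + monomial (Finsupp.single 6 1 + Finsupp.single 5 1) 1 := by
      simp [X, monomial_mul]
    rw [this]
    exact two_term isUnit_one 4 (fun k hk => by simp [Finsupp.single_apply]; fin_cases k <;> simp at hk ⊢)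
      (by simp [Finsupp.single_apply])
  intro y hy
  rw [mul_assoc] at hy
  exact hr y ((isRegular_X (R := A) (n := (4 : Fin 9))).left (hy.trans (mul_zero _).symm))

/-- `x` is congruent to its specialisation -/
lemma sub_mem_span {s : Finset (Fin 9)} {σ : D →ₐ[A] D} (h : ∀ j, j ∉ s → σ (X j) = X j)
    (h0 : ∀ j ∈ s, σ (X j) = 0) (x : D) : x - σ x ∈ Ideal.span ((X : Fin 9 → D) '' s) := by
  induction x using MvPolynomial.induction_on with
  | C a => simp [← MvPolynomial.algebraMap_eq]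
  | add p q hp hq => rw [map_add, add_sub_add_comm]; exact add_mem hp hq
  | mul_X p j hp =>
    rw [map_mul]
    by_cases hj : j ∈ s
    · rw [h0 j hj, mul_zero, sub_zero]
      exact Ideal.mul_mem_left _ _ (Ideal.subset_span ⟨j, hj, rfl⟩)
    · rw [h j hj, ← sub_mul]
      exact Ideal.mul_mem_right _ _ hp

noncomputable def kill (j : Fin 9) : D →ₐ[A] D := aeval (fun k => if k = j then 0 else X k)

lemma dvd_of_kill {j : Fin 9} {x : D} (h : kill j x = 0) : ∃ y, x = X j * y := by
  have := sub_mem_span (s := {j}) (σ := kill j) (fun k hk => by simp [kill] at hk ⊢; simp [hk])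
    (fun k hk => by simp at hk; simp [kill, hk]) x
  rw [h, sub_zero, Finset.coe_singleton, Set.image_singleton, Ideal.mem_span_singleton] at this
  exact this

/-- kernel of a monomial map -/
lemma ker_le_of_std {E : (Fin 9 →₀ ℕ) → (Fin 9 →₀ ℕ)} {sgn : (Fin 9 →₀ ℕ) → A}
    (χ : D →ₐ[A] D) (hχ : ∀ s, χ (monomial s 1) = monomial (E s) (sgn s)) (hsgn : ∀ s, IsUnit (sgn s))
    (Std : (Fin 9 →₀ ℕ) → Prop) (hinj : ∀ s t, Std s → Std t → E s = E t → s = t)
    (J : Ideal D) (hJ : ∀ x ∈ J, χ x = 0)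
    (hred : ∀ n, ∃ s, Std s ∧ ∃ c : A, monomial n 1 - C c * monomial s 1 ∈ J)
    {x : D} (hx : χ x = 0) : x ∈ J := by
  classical
  choose s hs c hc using hred
  have key : ∀ x : D, ∃ y : D, x - y ∈ J ∧ ∀ t ∈ y.support, Std t := by
    intro x
    refine ⟨x.support.sum (fun n => C (coeff n x * c n) * monomial (s n) 1), ?_, ?_⟩
    · conv => enter [2, 1]; rw [x.as_sum]
      rw [← Finset.sum_sub_distrib]
      refine Ideal.sum_mem _ fun n _ => ?_
      have : monomial n (coeff n x) - C (coeff n x * c n) * monomial (s n) 1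
          = C (coeff n x) * (monomial n 1 - C (c n) * monomial (s n) 1) := by
        rw [mul_sub, ← mul_assoc, ← map_mul, C_mul_monomial (a := coeff n x)]; simp
      rw [this]
      exact Ideal.mul_mem_left _ _ (hc n)
    · intro t ht
      obtain ⟨n, -, hn⟩ := Finset.mem_biUnion.1 (MvPolynomial.support_sum ht)
      rw [C_mul_monomial] at hn
      rw [Finset.mem_singleton.1 (support_monomial_subset hn)]
      exact hs n
  obtain ⟨y, hy, hstd⟩ := key x
  have hy0 : χ y = 0 := by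
    have := hJ _ hy
    rw [map_sub, hx, zero_sub, neg_eq_zero] at this; exact this
  suffices y = 0 by rw [this, sub_zero] at hy; exact hy
  ext t
  rw [coeff_zero]
  by_contra ht
  have htm : t ∈ y.support := mem_support_iff.2 ht
  have h1 : coeff (E t) (χ y) = coeff t y * sgn t := by
    conv_lhs => rw [y.as_sum, map_sum, coeff_sum]
    rw [Finset.sum_eq_single t]
    · rw [← mul_one (coeff t y), ← C_mul_monomial, map_mul, ← MvPolynomial.algebraMap_eq, AlgHom.commutes,
        MvPolynomial.algebraMap_eq, hχ, C_mul_monomial, coeff_monomial, if_pos rfl, mul_one]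
    · intro n hn hne
      rw [← mul_one (coeff n y), ← C_mul_monomial, map_mul, ← MvPolynomial.algebraMap_eq, AlgHom.commutes,
        MvPolynomial.algebraMap_eq, hχ, C_mul_monomial, coeff_monomial,
        if_neg (fun he => hne (hinj n t (hstd n hn) (hstd t htm) he))]
    · intro h; exact absurd htm h
  rw [hy0, coeff_zero] at h1
  exact ht ((hsgn t).mul_left_eq_zero.1 h1.symm)

noncomputable def chi : D →ₐ[A] D :=
  aeval ![X 0, X 1, X 2, X 3, -(X 4 ^ 2), X 5, X 6 ^ 2, X 4 * X 6, X 8]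

noncomputable def psi : D →ₐ[A] D :=
  aeval ![X 0, X 1, X 2, X 3, -(X 4 ^ 2), -(X 5 * X 4), X 6 ^ 2, X 4 * X 6, X 5 * X 6]

noncomputable def expChi (s : Fin 9 →₀ ℕ) : Fin 9 →₀ ℕ :=
  Finsupp.equivFunOnFinite.symm ![s 0, s 1, s 2, s 3, 2 * s 4 + s 7, s 5, 2 * s 6 + s 7, 0, s 8]

noncomputable def expPsi (s : Fin 9 →₀ ℕ) : Fin 9 →₀ ℕ :=
  Finsupp.equivFunOnFinite.symm ![s 0, s 1, s 2, s 3, 2 * s 4 + s 5 + s 7, s 5 + s 8, 2 * s 6 + s 7 + s 8, 0, 0]

lemma monomial_eq_prod (s : Fin 9 →₀ ℕ) : (monomial s 1 : D) = ∏ j, X j ^ s j := by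
  rw [monomial_eq, Finsupp.prod_fintype _ _ (by simp)]; simp

lemma chi_monomial (s : Fin 9 →₀ ℕ) : chi (monomial s (1 : A)) = monomial (expChi s) ((-1) ^ s 4) := by
  have : (monomial (expChi s) ((-1) ^ s 4 : A) : D) = C ((-1) ^ s 4) * monomial (expChi s) 1 := by
    rw [C_mul_monomial, mul_one]
  rw [this, monomial_eq_prod, monomial_eq_prod, map_prod, map_pow C, map_neg, map_one]
  simp only [map_pow, chi, aeval_X]
  simp [Fin.prod_univ_succ, expChi]
  ring

lemma psi_monomial (s : Fin 9 →₀ ℕ) : psi (monomial s (1 : A)) = monomial (expPsi s) ((-1) ^ (s 4 + s 5)) := by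
  have : (monomial (expPsi s) ((-1) ^ (s 4 + s 5) : A) : D) = C ((-1) ^ (s 4 + s 5)) * monomial (expPsi s) 1 := by
    rw [C_mul_monomial, mul_one]
  rw [this, monomial_eq_prod, monomial_eq_prod, map_prod, map_pow C, map_neg, map_one]
  simp only [map_pow, psi, aeval_X]
  simp [Fin.prod_univ_succ, expPsi]
  ring

/-- one rewriting step -/
lemma step {J : Ideal D} (a b a' b' : Fin 9) (ε : A) (hab : (X a * X b - C ε * (X a' * X b') : D) ∈ J)
    (m : Fin 9 →₀ ℕ) : (monomial (m + (Finsupp.single a 1 + Finsupp.single b 1)) 1 : D)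
      - C ε * monomial (m + (Finsupp.single a' 1 + Finsupp.single b' 1)) 1 ∈ J := by
  have : (monomial (m + (Finsupp.single a 1 + Finsupp.single b 1)) 1 : D)
      - C ε * monomial (m + (Finsupp.single a' 1 + Finsupp.single b' 1)) 1
      = monomial m 1 * (X a * X b - C ε * (X a' * X b')) := by
    simp only [X, monomial_mul, mul_sub, one_mul, C_mul_monomial, mul_one]
  rw [this]; exact Ideal.mul_mem_left _ _ hab

lemma red_of_step {J : Ideal D} {Std : (Fin 9 →₀ ℕ) → Prop} {n n' : Fin 9 →₀ ℕ} {ε : A}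
    (h1 : (monomial n 1 : D) - C ε * monomial n' 1 ∈ J)
    (h2 : ∃ s, Std s ∧ ∃ c : A, (monomial n' 1 : D) - C c * monomial s 1 ∈ J) :
    ∃ s, Std s ∧ ∃ c : A, (monomial n 1 : D) - C c * monomial s 1 ∈ J := by
  obtain ⟨s, hs, c, hc⟩ := h2
  refine ⟨s, hs, ε * c, ?_⟩
  have : (monomial n 1 : D) - C (ε * c) * monomial s 1
      = (monomial n 1 - C ε * monomial n' 1) + C ε * (monomial n' 1 - C c * monomial s 1) := by
    rw [map_mul]; ring
  rw [this]; exact add_mem h1 (Ideal.mul_mem_left _ _ hc)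

/-- split off two variables -/
lemma split2 (n : Fin 9 →₀ ℕ) (a b : Fin 9) (h : ∀ k, (Finsupp.single a 1 + Finsupp.single b 1 : Fin 9 →₀ ℕ) k ≤ n k) :
    ∃ m, n = m + (Finsupp.single a 1 + Finsupp.single b 1) :=
  ⟨n - (Finsupp.single a 1 + Finsupp.single b 1), (tsub_add_cancel_of_le (Finsupp.le_def.2 h)).symm⟩

lemma red_chi : ∀ n : Fin 9 →₀ ℕ, ∃ s, s 7 ≤ 1 ∧ ∃ c : A,
    (monomial n 1 : D) - C c * monomial s 1 ∈ Ideal.span {(d12 : D)} := by
  intro n
  induction hn : n 7 using Nat.strong_induction_on generalizing n with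
  | _ N ih =>
    by_cases h : n 7 ≤ 1
    · exact ⟨n, h, 1, by simp⟩
    · obtain ⟨m, rfl⟩ := split2 n 7 7 (fun k => by simp [Finsupp.single_apply]; split_ifs <;> subst_vars <;> omega)
      refine red_of_step (step (J := Ideal.span {(d12 : D)}) 7 7 4 6 (-1) ?_ m) (ih _ ?_ _ rfl)
      · rw [Ideal.mem_span_singleton]; exact ⟨-1, by simp [d12]; ring⟩
      · subst hn; simp [Finsupp.single_apply]

def StdPsi (s : Fin 9 →₀ ℕ) : Prop := (s 5 = 0 ∧ s 7 ≤ 1) ∨ (s 6 = 0 ∧ s 7 = 0)

lemma red_psi : ∀ n : Fin 9 →₀ ℕ, ∃ s, StdPsi s ∧ ∃ c : A,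
    (monomial n 1 : D) - C c * monomial s 1 ∈ Ideal.span {(d12 : D), d31, d23} := by
  intro n
  induction hn : 2 * n 5 + n 7 using Nat.strong_induction_on generalizing n with
  | _ N ih =>
    by_cases hstd : StdPsi n
    · exact ⟨n, hstd, 1, by simp⟩
    simp only [StdPsi, not_or, not_and] at hstd
    subst hn
    by_cases h5 : n 5 = 0
    · have h7 := hstd.1 h5
      obtain ⟨m, rfl⟩ := split2 n 7 7 (fun k => by simp [Finsupp.single_apply]; split_ifs <;> subst_vars <;> omega)
      refine red_of_step (step (J := Ideal.span {(d12 : D), d31, d23}) 7 7 4 6 (-1) ?_ m) (ih _ ?_ _ rfl)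
      · refine Ideal.mem_span_insert.2 ⟨-1, 0, Submodule.zero_mem _, by simp [d12]; ring⟩
      · simp [Finsupp.single_apply]
    · by_cases h7 : n 7 = 0
      · have h6 : n 6 ≠ 0 := fun h => hstd.2 h h7
        obtain ⟨m, rfl⟩ := split2 n 5 6 (fun k => by simp [Finsupp.single_apply]; split_ifs <;> subst_vars <;> omega)
        refine red_of_step (step (J := Ideal.span {(d12 : D), d31, d23}) 5 6 7 8 (-1) ?_ m) (ih _ ?_ _ rfl)
        · have : (X 5 * X 6 - C (-1) * (X 7 * X 8) : D) = d31 := by simp [d31]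
          rw [this]; exact Ideal.subset_span (by simp)
        · simp [Finsupp.single_apply]; omega
      · obtain ⟨m, rfl⟩ := split2 n 5 7 (fun k => by simp [Finsupp.single_apply]; split_ifs <;> subst_vars <;> omega)
        refine red_of_step (step (J := Ideal.span {(d12 : D), d31, d23}) 5 7 4 8 1 ?_ m) (ih _ ?_ _ rfl)
        · have : (X 5 * X 7 - C 1 * (X 4 * X 8) : D) = -d23 := by simp [d23]; ring
          rw [this]; exact neg_mem (Ideal.subset_span (by simp))
        · simp [Finsupp.single_apply]; omega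

lemma mem_of_chi {x : D} (hx : chi x = 0) : x ∈ Ideal.span {(d12 : D)} := by
  refine ker_le_of_std chi chi_monomial (fun s => isUnit_one.neg.pow _) (fun s => s 7 ≤ 1) ?_ _ ?_ red_chi hx
  · intro s t hs ht h
    have h' : ∀ j, expChi s j = expChi t j := fun j => by rw [h]
    have e0 := h' 0; have e1 := h' 1; have e2 := h' 2; have e3 := h' 3; have e4 := h' 4
    have e5 := h' 5; have e6 := h' 6; have e8 := h' 8
    simp [expChi] at e0 e1 e2 e3 e4 e5 e6 e8
    ext j; fin_cases j <;> simp <;> omega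
  · intro y hy
    obtain ⟨z, rfl⟩ := Ideal.mem_span_singleton.1 hy
    simp [d12, chi]; ring

lemma mem_of_psi {x : D} (hx : psi x = 0) : x ∈ Ideal.span {(d12 : D), d31, d23} := by
  refine ker_le_of_std psi psi_monomial (fun s => isUnit_one.neg.pow _) StdPsi ?_ _ ?_ red_psi hx
  · intro s t hs ht h
    have h' : ∀ j, expPsi s j = expPsi t j := fun j => by rw [h]
    have e0 := h' 0; have e1 := h' 1; have e2 := h' 2; have e3 := h' 3; have e4 := h' 4
    have e5 := h' 5; have e6 := h' 6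
    simp [expPsi] at e0 e1 e2 e3 e4 e5 e6
    simp only [StdPsi] at hs ht
    ext j; fin_cases j <;> simp <;> omega
  · intro y hy
    have hle : Ideal.span {(d12 : D), d31, d23} ≤ RingHom.ker (psi : D →ₐ[A] D).toRingHom := by
      rw [Ideal.span_le]
      rintro z (rfl | rfl | rfl) <;> simp [d12, d31, d23, psi] <;> ring
    exact hle hy

/-- the syzygies of `hu - gv, -eu - hv, -fu - iv` -/
theorem syzygy (a₁ a₂ a₃ : D)
    (h : a₁ * (X 7 * X 0 - X 6 * X 1) + a₂ * (-(X 4 * X 0) - X 7 * X 1) + a₃ * (-(X 5 * X 0) - X 8 * X 1) = 0) :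
    ∃ t c₁ c₂ c₃ : D,
      a₁ = t * d23 + c₁ * (-(X 4 * X 0) - X 7 * X 1) - c₂ * (-(X 5 * X 0) - X 8 * X 1) ∧
      a₂ = t * d31 - c₁ * (X 7 * X 0 - X 6 * X 1) + c₃ * (-(X 5 * X 0) - X 8 * X 1) ∧
      a₃ = t * d12 + c₂ * (X 7 * X 0 - X 6 * X 1) - c₃ * (-(X 4 * X 0) - X 7 * X 1) := by
  set T₁ := a₁ * X 7 - a₂ * X 4 - a₃ * X 5 with hT₁
  set T₂ := -(a₁ * X 6) - a₂ * X 7 - a₃ * X 8 with hT₂
  have hT : T₁ * X 0 + T₂ * X 1 = 0 := by rw [hT₁, hT₂]; linear_combination h
  obtain ⟨γ, hγ⟩ : ∃ γ, T₁ = X 1 * γ := by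
    apply dvd_of_kill
    have := congrArg (kill (A := A) 1) hT
    simp only [map_add, map_mul, map_zero] at this
    rw [show kill (A := A) 1 (X 1) = 0 by simp [kill], mul_zero, add_zero,
      show kill (A := A) 1 (X 0) = X 0 by simp [kill]] at this
    exact (isRegular_X (R := A) (n := (0 : Fin 9))).right (this.trans (zero_mul _).symm)
  have hγ' : T₂ = -(γ * X 0) := by
    have : (γ * X 0 + T₂) * X 1 = 0 := by rw [hγ] at hT; linear_combination hT
    exact eq_neg_of_add_eq_zero_right ((isRegular_X (R := A) (n := (1 : Fin 9))).right (this.trans (zero_mul _).symm))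
  have hψ : psi γ = 0 := by
    apply qv_sub_pu_regular
    have e1 := congrArg (psi (A := A)) hγ
    have e2 := congrArg (psi (A := A)) hγ'
    simp only [hT₁, hT₂, map_sub, map_neg, map_mul] at e1 e2
    simp [psi] at e1 e2 ⊢
    linear_combination -(X 6) * e1 - X 4 * e2
  obtain ⟨c₁, z, hz, rfl⟩ := Ideal.mem_span_insert.1 (mem_of_psi hψ)
  obtain ⟨c₂, c₃, rfl⟩ := Ideal.mem_span_pair.1 hz
  set q₁ : D := X 7 * X 0 - X 6 * X 1 with hq₁
  set q₂ : D := -(X 4 * X 0) - X 7 * X 1 with hq₂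
  set q₃ : D := -(X 5 * X 0) - X 8 * X 1 with hq₃
  set b₁ := a₁ - (c₁ * q₂ - c₂ * q₃) with hb₁
  set b₂ := a₂ - (-(c₁ * q₁) + c₃ * q₃) with hb₂
  set b₃ := a₃ - (c₂ * q₁ - c₃ * q₂) with hb₃
  have f1 : b₁ * X 7 - b₂ * X 4 - b₃ * X 5 = 0 := by
    simp only [hb₁, hb₂, hb₃, hq₁, hq₂, hq₃]
    rw [hT₁] at hγ; simp only [d12, d31, d23] at hγ
    linear_combination hγ
  have f2 : -(b₁ * X 6) - b₂ * X 7 - b₃ * X 8 = 0 := by
    simp only [hb₁, hb₂, hb₃, hq₁, hq₂, hq₃]
    rw [hT₂] at hγ'; simp only [d12, d31, d23] at hγ'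
    linear_combination hγ'
  have g2 : d12 * b₂ = b₃ * d31 := by simp only [d12, d31]; linear_combination X 6 * f1 + X 7 * f2
  have g1 : d12 * b₁ = b₃ * d23 := by simp only [d12, d23]; linear_combination -(X 7) * f1 + X 4 * f2
  have hχ : chi b₃ = 0 := by
    apply p_pi_qf_regular
    have := congrArg (chi (A := A)) g1
    simp [d12, d23, chi] at this ⊢
    linear_combination this
  obtain ⟨t, ht⟩ := Ideal.mem_span_singleton.1 (mem_of_chi hχ)
  have t1 : b₁ = t * d23 := sub_eq_zero.1 (d12_regular _ (by rw [mul_sub, g1, ht]; ring))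
  have t2 : b₂ = t * d31 := sub_eq_zero.1 (d12_regular _ (by rw [mul_sub, g2, ht]; ring))
  refine ⟨t, c₁, c₂, c₃, ?_, ?_, ?_⟩
  · rw [hb₁] at t1; linear_combination t1
  · rw [hb₂] at t2; linear_combination t2
  · rw [hb₃] at ht; linear_combination ht

end Groth.Agent.Lead.Lie3
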