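import Mathlib.RingTheory.MvPolynomial.Homogeneous
import Mathlib.Algebra.MvPolynomial.PDeriv
import Mathlib.Algebra.MvPolynomial.Funext
import Mathlib.Analysis.Complex.Polynomial.Basic
import Mathlib.LinearAlgebra.FiniteDimensional.Basic
import Mathlib.LinearAlgebra.Matrix.ToLin
import Mathlib.FieldTheory.IsAlgClosed.Basic
import Mathlib.RingTheory.Nullstellensatz
import Mathlib.RingTheory.Ideal.KrullsHeightTheorem
import Mathlib.RingTheory.Polynomial.Basic
import Mathlib.LinearAlgebra.Matrix.NonsingularInverse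
import Mathlib.LinearAlgebra.Matrix.Determinant.Basic

/-! Plane cubics through the symmetric trilinear form. -/

namespace Groth.Agent.Lead.PlaneCubic

open MvPolynomial

abbrev V := Fin 3 → ℂ

/-- a symmetric trilinear form -/
structure Sym3 where
  toFun : V →ₗ[ℂ] V →ₗ[ℂ] V →ₗ[ℂ] ℂ
  s12 : ∀ x y z, toFun x y z = toFun y x z
  s23 : ∀ x y z, toFun x y z = toFun x z y

instance : CoeFun Sym3 (fun _ => V → V →ₗ[ℂ] V →ₗ[ℂ] ℂ) := ⟨fun T => ⇑T.toFun⟩

def Represents (T : Sym3) (f : MvPolynomial (Fin 3) ℂ) : Prop :=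
  (∀ v, eval v f = T v v v) ∧ ∀ i v, eval v (pderiv i f) = 3 * T (Pi.single i 1) v v

def mon (a b c : Fin 3) : V →ₗ[ℂ] V →ₗ[ℂ] V →ₗ[ℂ] ℂ :=
  (LinearMap.proj a).smulRight ((LinearMap.proj b).smulRight (LinearMap.proj c : V →ₗ[ℂ] ℂ))

@[simp] lemma mon_apply (a b c : Fin 3) (x y z : V) : mon a b c x y z = x a * (y b * z c) := by
  simp [mon]

lemma exists_rep {f : MvPolynomial (Fin 3) ℂ} (hf : f.IsHomogeneous 3) : ∃ T : Sym3, Represents T f := by
  classical
  rw [f.as_sum]
  refine Finset.sum_induction _ (fun g => ∃ T : Sym3, Represents T g) ?_ ?_ ?_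
  · rintro g g' ⟨T, hT, hT'⟩ ⟨S, hS, hS'⟩
    refine ⟨⟨T.toFun + S.toFun, fun x y z => ?_, fun x y z => ?_⟩, fun v => ?_, fun i v => ?_⟩
    · simp [T.s12 x, S.s12 x]
    · simp [T.s23 x y, S.s23 x y]
    · simp [hT, hS]
    · simp [hT', hS', mul_add]
  · exact ⟨⟨0, by simp, by simp⟩, fun v => by simp, fun i v => by simp⟩
  · intro d hd
    have hdeg : (Finsupp.toMultiset d).card = 3 := by
      rw [Finsupp.card_toMultiset]
      exact (hf.degree_eq_sum_deg_support hd).symm
    obtain ⟨a, b, c, habc⟩ := Multiset.card_eq_three.1 hdeg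
    have hd' : d = Finsupp.single a 1 + Finsupp.single b 1 + Finsupp.single c 1 := by
      apply Finsupp.orderIsoMultiset.injective
      change Finsupp.toMultiset d = Finsupp.toMultiset _
      rw [habc]
      simp [add_assoc]
      exact Multiset.cons_swap ..
    have hm : monomial d (coeff d f) = C (coeff d f) * X a * X b * X c := by
      rw [hd']; simp [X, C_mul_monomial, monomial_mul, add_assoc]
    rw [hm]
    generalize coeff d f = r
    refine ⟨⟨(r / 6) • (mon a b c + mon a c b + mon b a c + mon b c a + mon c a b + mon c b a),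
      fun x y z => ?_, fun x y z => ?_⟩, fun v => ?_, fun i v => ?_⟩
    · simp; ring
    · simp; ring
    · simp; ring
    · simp [Derivation.leibniz, pderiv_X, Pi.single_apply]
      split_ifs <;> simp <;> ring

variable (T : Sym3)

lemma expand (x p : V) (t : ℂ) : T (x + t • p) (x + t • p) (x + t • p)
    = T x x x + t * (3 * T x x p) + t ^ 2 * (3 * T x p p) + t ^ 3 * T p p p := by
  simp only [map_add, map_smul, LinearMap.add_apply, LinearMap.smul_apply, smul_eq_mul]
  rw [T.s23 x p x, T.s12 p x x, T.s23 x p x, T.s12 p x p, T.s23 p p x, T.s12 p x p]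
  ring

def Smooth : Prop := ∀ v : V, v ≠ 0 → ∃ x, T x v v ≠ 0

variable {T}

lemma smooth_of {f : MvPolynomial (Fin 3) ℂ} (hT : Represents T f)
    (hsm : ∀ v : V, v ≠ 0 → eval v f = 0 → ∃ i, eval v (pderiv i f) ≠ 0) : Smooth T := by
  intro v hv
  by_contra! h
  obtain ⟨i, hi⟩ := hsm v hv (by rw [hT.1]; exact h v)
  exact hi (by rw [hT.2, h, mul_zero])

lemma eval_subst (A : Matrix (Fin 3) (Fin 3) ℂ) (f : MvPolynomial (Fin 3) ℂ) (x : V) :
    eval x (aeval (fun i : Fin 3 => ∑ j : Fin 3, C (A i j) * X j) f) = eval (A.mulVec x) f := by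
  have h : (aeval (R := ℂ) x).comp (aeval (fun i : Fin 3 => ∑ j : Fin 3, C (A i j) * X j))
      = aeval (R := ℂ) (A.mulVec x) := by
    apply algHom_ext
    intro i
    simp [Matrix.mulVec, dotProduct]
  have := congrArg (fun φ : MvPolynomial (Fin 3) ℂ →ₐ[ℂ] ℂ => φ f) h
  simpa using this

/-- two ternary forms have a common nonzero zero -/
theorem common_zero (f g : MvPolynomial (Fin 3) ℂ) (hf : eval (0 : V) f = 0) (hg : eval (0 : V) g = 0) :
    ∃ v : V, v ≠ 0 ∧ eval v f = 0 ∧ eval v g = 0 := by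
  by_contra! h
  set I : Ideal (MvPolynomial (Fin 3) ℂ) := Ideal.span {f, g}
  have hz : zeroLocus ℂ I = {(0 : V)} := by
    ext v
    rw [zeroLocus_span]
    constructor
    · intro hv
      by_contra hne
      exact h v hne (by simpa using hv f (by simp)) (by simpa using hv g (by simp))
    · rintro rfl p (rfl | rfl) <;> simp at hf hg ⊢ <;> assumption
  have hrad : I.radical = RingHom.ker (eval (0 : V)) := by
    rw [← vanishingIdeal_zeroLocus_eq_radical (K := ℂ), hz]
    ext p; simp [vanishingIdeal]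
  haveI hprime : ∀ s : Fin 3 → MvPolynomial (Fin 3) ℂ, (RingHom.ker (aeval (R := ℂ) s).toRingHom).IsPrime :=
    fun s => RingHom.ker_isPrime _
  have hk : RingHom.ker (eval (0 : V)) = RingHom.ker (aeval (R := ℂ) (0 : Fin 3 → MvPolynomial (Fin 3) ℂ)).toRingHom := by
    ext p
    simp only [RingHom.mem_ker, AlgHom.toRingHom_eq_coe, RingHom.coe_coe]
    rw [MvPolynomial.aeval_zero]
    simp
  have hmin : RingHom.ker (eval (0 : V)) ∈ I.minimalPrimes := by
    refine ⟨⟨RingHom.ker_isPrime _, hrad ▸ Ideal.le_radical⟩, fun P hP _ => ?_⟩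
    rw [← hrad]; exact hP.1.radical_le_iff.2 hP.2
  have hle := Ideal.height_le_card_of_mem_minimalPrimes_span (Set.toFinite _) hmin
  have hcard : ((({f, g} : Set (MvPolynomial (Fin 3) ℂ)).ncard : ℕ∞)) ≤ 2 := by
    have : ({f, g} : Set (MvPolynomial (Fin 3) ℂ)).ncard ≤ 2 := by
      refine (Set.ncard_insert_le _ _).trans ?_
      simp
    exact_mod_cast this
  let s1 : Fin 3 → MvPolynomial (Fin 3) ℂ := ![0, X 1, X 2]
  let s2 : Fin 3 → MvPolynomial (Fin 3) ℂ := ![0, 0, X 2]
  let P1 := RingHom.ker (aeval (R := ℂ) s1).toRingHom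
  let P2 := RingHom.ker (aeval (R := ℂ) s2).toRingHom
  let P3 := RingHom.ker (aeval (R := ℂ) (0 : Fin 3 → MvPolynomial (Fin 3) ℂ)).toRingHom
  have h01 : (⊥ : Ideal (MvPolynomial (Fin 3) ℂ)) < P1 :=
    lt_of_le_of_ne bot_le fun hh => X_ne_zero (0 : Fin 3) (Ideal.mem_bot.1 (hh ▸ (show X 0 ∈ P1 by simp [P1, s1])))
  have h12 : P1 < P2 := by
    refine lt_of_le_of_ne (fun p hp => ?_) fun hh => ?_
    · have e : (aeval (R := ℂ) s2).comp (aeval s1) = aeval s2 := by
        ext i : 1; fin_cases i <;> simp [s1, s2]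
      simp only [P1, P2, RingHom.mem_ker, AlgHom.toRingHom_eq_coe, RingHom.coe_coe] at hp ⊢
      rw [← e, AlgHom.comp_apply, hp, map_zero]
    · have : X 1 ∈ P1 := hh ▸ (show X 1 ∈ P2 by simp [P2, s2])
      simp [P1, s1] at this
  have h23 : P2 < P3 := by
    refine lt_of_le_of_ne (fun p hp => ?_) fun hh => ?_
    · have e : (aeval (R := ℂ) (0 : Fin 3 → MvPolynomial (Fin 3) ℂ)).comp (aeval s2) = aeval 0 := by
        ext i : 1; fin_cases i <;> simp [s2]
      simp only [P2, P3, RingHom.mem_ker, AlgHom.toRingHom_eq_coe, RingHom.coe_coe] at hp ⊢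
      rw [← e, AlgHom.comp_apply, hp, map_zero]
    · have : X 2 ∈ P2 := hh ▸ (show X 2 ∈ P3 by simp [P3])
      simp [P2, s2] at this
  haveI : P1.IsPrime := hprime _
  haveI : P2.IsPrime := hprime _
  haveI : P3.IsPrime := hprime _
  have a1 := Ideal.height_add_one_le_of_lt_of_isPrime h01
  have a2 := Ideal.height_add_one_le_of_lt_of_isPrime h12
  have a3 := Ideal.height_add_one_le_of_lt_of_isPrime h23
  rw [hk] at hle
  have h3 : (3 : ℕ∞) ≤ P3.height := by
    have b1 : (1 : ℕ∞) ≤ P1.height := le_trans le_add_self a1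
    have b2 : (1 : ℕ∞) + 1 ≤ P2.height := le_trans (by gcongr) a2
    refine le_trans ?_ (le_trans (add_le_add b2 le_rfl) a3)
    norm_num
  exact absurd ((h3.trans hle).trans hcard) (by norm_num)

end Groth.Agent.Lead.PlaneCubic
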