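import Mathlib.RingTheory.MvPolynomial.Homogeneous
import Mathlib.Algebra.MvPolynomial.NoZeroDivisors
import Mathlib.Algebra.MvPolynomial.Division
import Mathlib.RingTheory.MvPolynomial.Basic
import Mathlib.LinearAlgebra.FiniteDimensional.Lemmas
import Mathlib.FieldTheory.IsAlgClosed.AlgebraicClosure
import Mathlib.Algebra.Module.Submodule.Union
import Mathlib.RingTheory.Polynomial.Basic

/-!
Number of generators of the homogeneous ideal of a finite set of points of the plane.
-/

set_option autoImplicit false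
universe u v

namespace Groth.Agent.Lead.PointsGens

open MvPolynomial Module

variable {K : Type u} [Field K] {n : ℕ}

/-- forms of degree `j` vanishing at all points -/
noncomputable def W {ι : Type v} (P : ι → Fin n → K) (j : ℕ) : Submodule K (MvPolynomial (Fin n) K) :=
  homogeneousSubmodule (Fin n) K j ⊓ ⨅ i, LinearMap.ker (aeval (P i)).toLinearMap

lemma mem_W {ι : Type v} {P : ι → Fin n → K} {j : ℕ} {f : MvPolynomial (Fin n) K} :
    f ∈ W P j ↔ f.IsHomogeneous j ∧ ∀ i, eval (P i) f = 0 := by
  simp [W, mem_homogeneousSubmodule, Submodule.mem_iInf, LinearMap.mem_ker]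

/-- `S₁ · V` -/
noncomputable def mulVars (V : Submodule K (MvPolynomial (Fin n) K)) : Submodule K (MvPolynomial (Fin n) K) :=
  ⨆ i, V.map (LinearMap.mulLeft K (X i))

instance finite_homogeneous (j : ℕ) : FiniteDimensional K (homogeneousSubmodule (Fin n) K j) := by
  have h : (homogeneousSubmodule (Fin n) K j) ≤ restrictTotalDegree (Fin n) K j := by
    intro f hf
    rw [mem_restrictTotalDegree]
    exact (mem_homogeneousSubmodule _ _ |>.1 hf).totalDegree_le
  have : FiniteDimensional K (restrictTotalDegree (Fin n) K j) := inferInstance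
  exact Submodule.finiteDimensional_of_le h

lemma mulVars_le {V : Submodule K (MvPolynomial (Fin n) K)} {j : ℕ}
    (h : V ≤ homogeneousSubmodule (Fin n) K j) : mulVars V ≤ homogeneousSubmodule (Fin n) K (j + 1) := by
  refine iSup_le fun i => Submodule.map_le_iff_le_comap.2 fun f hf => ?_
  simpa [add_comm 1 j] using (isHomogeneous_X K i).mul (h hf)

lemma mul_mem_mulVars {V : Submodule K (MvPolynomial (Fin n) K)} {f : MvPolynomial (Fin n) K} (hf : f ∈ V) (i : Fin n) :
    X i * f ∈ mulVars V :=
  le_iSup (fun i => V.map (LinearMap.mulLeft K (X i))) i ⟨f, hf, rfl⟩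

lemma W_le {ι : Type v} (P : ι → Fin n → K) (j : ℕ) : W P j ≤ homogeneousSubmodule (Fin n) K j := inf_le_left

lemma mulVars_W_le {ι : Type v} (P : ι → Fin n → K) (j : ℕ) : mulVars (W P j) ≤ W P (j + 1) := by
  refine le_inf (mulVars_le (W_le P j)) (le_iInf fun a => iSup_le fun i => Submodule.map_le_iff_le_comap.2 fun f hf => ?_)
  simp [LinearMap.mem_ker, (mem_W.1 hf).2 a]

/-- the part of degree `j` generated in lower degrees -/
noncomputable def prev {ι : Type v} (P : ι → Fin n → K) : ℕ → Submodule K (MvPolynomial (Fin n) K)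
  | 0 => ⊥
  | j + 1 => mulVars (W P j)

lemma prev_le {ι : Type v} (P : ι → Fin n → K) (j : ℕ) : prev P j ≤ W P j := by
  cases j with
  | zero => exact bot_le
  | succ j => exact mulVars_W_le P j

/-- number of new generators in degree `j` -/
noncomputable def newGens {ι : Type v} (P : ι → Fin n → K) (j : ℕ) : ℕ :=
  finrank K (W P j) - finrank K (prev P j)

instance {ι : Type v} (P : ι → Fin n → K) (j : ℕ) : FiniteDimensional K (W P j) :=
  Submodule.finiteDimensional_of_le (W_le P j)

/-! ### two variables -/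

lemma dvd_X_pow_all {j : ℕ} {f : MvPolynomial (Fin 2) K} (hf : f.IsHomogeneous j)
    (h : ∀ m : ℕ, X 0 ^ m ∣ f) : f = 0 := by
  by_contra hne
  obtain ⟨g, hg⟩ := h (j + 1)
  have hg0 : g ≠ 0 := fun e => hne (by rw [hg, e, mul_zero])
  have h1 : f.totalDegree = j := hf.totalDegree hne
  rw [hg, totalDegree_mul_of_isDomain (pow_ne_zero _ (X_ne_zero _)) hg0, totalDegree_X_pow] at h1
  omega

lemma growth {j : ℕ} {V : Submodule K (MvPolynomial (Fin 2) K)}
    (hV : V ≤ homogeneousSubmodule (Fin 2) K j) (hne : V ≠ ⊥) :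
    finrank K V + 1 ≤ finrank K (mulVars V) := by
  have hfd : FiniteDimensional K V := Submodule.finiteDimensional_of_le hV
  have hfd2 : FiniteDimensional K (mulVars V) := Submodule.finiteDimensional_of_le (mulVars_le hV)
  have hlt : V.map (LinearMap.mulLeft K (X 0)) < mulVars V := by
    refine lt_of_le_of_ne (le_iSup (fun i => V.map (LinearMap.mulLeft K (X i))) 0) fun e => hne ?_
    have hy : ∀ v ∈ V, ∃ w ∈ V, X 0 * w = X 1 * v := by
      intro v hv
      have := mul_mem_mulVars hv (1 : Fin 2)
      rw [← e] at this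
      exact this
    have hall : ∀ m : ℕ, ∀ v ∈ V, (X 0 : MvPolynomial (Fin 2) K) ^ m ∣ v := by
      intro m
      induction m with
      | zero => simp
      | succ m ih =>
        intro v hv
        obtain ⟨w, hw, hwv⟩ := hy v hv
        have h1 : (X 0 : MvPolynomial (Fin 2) K) ^ (m + 1) ∣ X 1 * v := by
          rw [← hwv, pow_succ']
          exact mul_dvd_mul_left _ (ih w hw)
        have hp : Prime (X 0 : MvPolynomial (Fin 2) K) := X_prime
        refine hp.pow_dvd_of_dvd_mul_left _ ?_ h1
        rw [X_dvd_X]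
        decide
    rw [Submodule.eq_bot_iff]
    exact fun v hv => dvd_X_pow_all (hV hv) fun m => hall m v hv
  have := Submodule.finrank_lt_finrank_of_lt hlt
  rw [← LinearEquiv.finrank_eq (Submodule.equivMapOfInjective (LinearMap.mulLeft K (X 0))
    (fun a b h => mul_left_cancel₀ (X_ne_zero (0 : Fin 2)) h) V)] at this
  omega

lemma finrank_homogeneous_two_le (j : ℕ) : finrank K (homogeneousSubmodule (Fin 2) K j) ≤ j + 1 := by
  classical
  let s : Finset (MvPolynomial (Fin 2) K) := (Finset.range (j + 1)).image fun a => X 0 ^ a * X 1 ^ (j - a)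
  have h : homogeneousSubmodule (Fin 2) K j ≤ Submodule.span K (s : Set (MvPolynomial (Fin 2) K)) := by
    intro f hf
    rw [f.as_sum]
    refine Submodule.sum_mem _ fun d hd => ?_
    have hdeg : d.degree = j := by
      by_contra hne
      exact (mem_support_iff.1 hd) ((mem_homogeneousSubmodule _ _ |>.1 hf).coeff_eq_zero hne)
    have hd2 : d 0 + d 1 = j := by
      rw [← hdeg, Finsupp.degree_eq_sum, Fin.sum_univ_two]
    have : monomial d (coeff d f) = coeff d f • (X 0 ^ d 0 * X 1 ^ (j - d 0) : MvPolynomial (Fin 2) K) := by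
      rw [monomial_eq, Finsupp.prod_fintype _ _ (fun i => pow_zero _), Fin.prod_univ_two,
        show j - d 0 = d 1 by omega, smul_eq_C_mul]
    rw [this]
    exact Submodule.smul_mem _ _ (Submodule.subset_span (Finset.mem_coe.2 (Finset.mem_image.2 ⟨d 0, by simp; omega, rfl⟩)))
  calc finrank K (homogeneousSubmodule (Fin 2) K j) ≤ finrank K (Submodule.span K (s : Set (MvPolynomial (Fin 2) K))) :=
        Submodule.finrank_mono h
    _ ≤ s.card := finrank_span_finset_le_card s
    _ ≤ j + 1 := le_trans Finset.card_image_le (by simp)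

/-! ### reduction modulo a linear form with no zero at the points -/

lemma exists_linear {ι : Type v} [Finite ι] [Infinite K] (P : ι → Fin 3 → K) (hP : ∀ i, P i ≠ 0) :
    ∃ c : Fin 3 → K, c ≠ 0 ∧ ∀ i, ∑ t, c t * P i t ≠ 0 := by
  let p : Option ι → Submodule K (Fin 3 → K) := fun o =>
    match o with
    | none => ⊥
    | some i => LinearMap.ker (∑ t, P i t • (LinearMap.proj t : (Fin 3 → K) →ₗ[K] K))
  obtain ⟨c, hc⟩ := Submodule.exists_forall_notMem_of_forall_ne_top p (by
    rintro (_ | i) htop
    · exact bot_ne_top htop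
    · apply hP i
      funext t
      have : (Pi.single t 1 : Fin 3 → K) ∈ p (some i) := by rw [htop]; trivial
      simpa [p, LinearMap.mem_ker, Pi.single_apply] using this)
  refine ⟨c, fun h => hc none (by subst h; exact Submodule.zero_mem _), fun i h => hc (some i) ?_⟩
  simpa [p, LinearMap.mem_ker, mul_comm] using h

variable {ι : Type v} (P : ι → Fin 3 → K)

lemma exists_section (c : Fin 3 → K) (hc : c ≠ 0) :
    ∃ φ : MvPolynomial (Fin 3) K →ₐ[K] MvPolynomial (Fin 2) K,
      (∀ t, (φ (X t)).IsHomogeneous 1) ∧ (∀ a, ∃ t, φ (X t) = X a) ∧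
      ∀ f, φ f = 0 ↔ (∑ t, C (c t) * X t) ∣ f := by
  obtain ⟨t0, ht0⟩ : ∃ t, c t ≠ 0 := Function.ne_iff.1 hc
  let ψ : MvPolynomial (Fin 2) K →ₐ[K] MvPolynomial (Fin 3) K := rename t0.succAbove
  let φ : MvPolynomial (Fin 3) K →ₐ[K] MvPolynomial (Fin 2) K :=
    aeval (Fin.insertNth t0 (- (C (c t0)⁻¹ * ∑ a, C (c (t0.succAbove a)) * X a)) X)
  have hX : ∀ a, φ (X (t0.succAbove a)) = X a := fun a => by simp [φ]
  have hX0 : φ (X t0) = - (C (c t0)⁻¹ * ∑ a, C (c (t0.succAbove a)) * X a) := by simp [φ]
  have hl : φ (∑ t, C (c t) * X t) = 0 := by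
    rw [Fin.sum_univ_succAbove _ t0]
    simp only [map_add, map_sum, map_mul, hX, hX0, algHom_C, algebraMap_eq]
    rw [mul_neg, ← mul_assoc, ← C_mul, mul_inv_cancel₀ ht0, C_1, one_mul, neg_add_cancel]
  refine ⟨φ, ?_, ?_, ?_⟩
  · intro t
    rcases Fin.eq_self_or_eq_succAbove t0 t with rfl | ⟨a, rfl⟩
    · rw [hX0]
      exact ((IsHomogeneous.sum _ _ 1 fun a _ => (isHomogeneous_X K a).C_mul _).C_mul _).neg
    · rw [hX]; exact isHomogeneous_X K a
  · exact fun a => ⟨t0.succAbove a, hX a⟩
  · intro f
    constructor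
    · intro hf
      let J : Ideal (MvPolynomial (Fin 3) K) := Ideal.span {∑ t, C (c t) * X t}
      have key : ((Ideal.Quotient.mkₐ K J).comp (ψ.comp φ)) = Ideal.Quotient.mkₐ K J := by
        refine algHom_ext fun t => ?_
        rcases Fin.eq_self_or_eq_succAbove t0 t with rfl | ⟨a, rfl⟩
        · simp only [AlgHom.comp_apply, hX0, Ideal.Quotient.mkₐ_eq_mk]
          rw [Ideal.Quotient.eq, Ideal.mem_span_singleton]
          refine ⟨- C (c t)⁻¹, ?_⟩
          rw [Fin.sum_univ_succAbove _ t]
          simp only [ψ, map_neg, map_mul, map_sum, rename_C, rename_X]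
          have : (C (c t)⁻¹ : MvPolynomial (Fin 3) K) * C (c t) = 1 := by
            rw [← C_mul, inv_mul_cancel₀ ht0, C_1]
          linear_combination (X t : MvPolynomial (Fin 3) K) * this
        · simp [ψ, hX]
      have := congrArg (fun F : MvPolynomial (Fin 3) K →ₐ[K] _ => F f) key
      simp only [AlgHom.comp_apply, hf, map_zero, Ideal.Quotient.mkₐ_eq_mk] at this
      exact Ideal.mem_span_singleton.1 (Ideal.Quotient.eq_zero_iff_mem.1 this.symm)
    · rintro ⟨g, rfl⟩
      rw [map_mul, hl, zero_mul]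

lemma homogeneous_of_mul {j : ℕ} {l g : MvPolynomial (Fin 3) K} (hl : l.IsHomogeneous 1) (hl0 : l ≠ 0)
    (h : (l * g).IsHomogeneous (j + 1)) : g.IsHomogeneous j := by
  have hg : g = homogeneousComponent j g := by
    have e : l * g = ∑ i ∈ Finset.range (g.totalDegree + 1), l * homogeneousComponent i g := by
      rw [← Finset.mul_sum, sum_homogeneousComponent]
    have e2 := congrArg (homogeneousComponent (j + 1)) e
    rw [homogeneousComponent_eq_self h, map_sum] at e2
    simp only [homogeneousComponent_of_mem (hl.mul (homogeneousComponent_isHomogeneous _ g)),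
      show ∀ i, (j + 1 = 1 + i) ↔ (i = j) from fun i => by omega, Finset.sum_ite_eq'] at e2
    split_ifs at e2 with hj
    · exact mul_left_cancel₀ hl0 e2
    · have hg0 : g = 0 := by
        rcases mul_eq_zero.1 e2 with h | h
        · exact absurd h hl0
        · exact h
      simp [hg0]
  rw [hg]
  exact homogeneousComponent_isHomogeneous _ _

theorem sum_newGens_le [Finite ι] [Infinite K] (hP : ∀ i, P i ≠ 0) (d : ℕ)
    (hd : W P d ≠ ⊥) (N : ℕ) : ∑ j ∈ Finset.range N, newGens P j ≤ d + 1 := by
  classical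
  obtain ⟨c, hc0, hc⟩ := exists_linear P hP
  obtain ⟨φ, hφ1, hφs, hφk⟩ := exists_section c hc0
  set l : MvPolynomial (Fin 3) K := ∑ t, C (c t) * X t with hldef
  have hl : l.IsHomogeneous 1 := IsHomogeneous.sum _ _ 1 fun t _ => (isHomogeneous_X K t).C_mul _
  have hle : ∀ i, eval (P i) l = ∑ t, c t * P i t := fun i => by simp [hldef]
  have hl0 : l ≠ 0 := by
    intro e
    apply hc0
    funext t
    have := congrArg (eval (Pi.single t 1)) e
    simpa [hldef, Pi.single_apply] using this
  -- injectivity in the bottom, kernel in higher degrees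
  have hker0 : W P 0 ⊓ LinearMap.ker φ.toLinearMap = ⊥ := by
    rw [Submodule.eq_bot_iff]
    intro f hf
    obtain ⟨hf1, hf2⟩ := Submodule.mem_inf.1 hf
    have hf1 := (mem_W.1 hf1).1
    obtain ⟨a, rfl⟩ : ∃ a, f = C a := ⟨coeff 0 f, by
      conv_lhs => rw [← homogeneousComponent_eq_self hf1, homogeneousComponent_zero]⟩
    simpa using hf2
  have hker : ∀ j, W P (j + 1) ⊓ LinearMap.ker φ.toLinearMap = (W P j).map (LinearMap.mulLeft K l) := by
    intro j
    refine le_antisymm ?_ ?_
    · intro f hf
      obtain ⟨hf1, hf2⟩ := Submodule.mem_inf.1 hf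
      obtain ⟨g, rfl⟩ := (hφk f).1 hf2
      obtain ⟨hf1, hfz⟩ := mem_W.1 hf1
      refine ⟨g, mem_W.2 ⟨homogeneous_of_mul hl hl0 hf1, fun i => ?_⟩, rfl⟩
      have := hfz i
      rw [map_mul, hle] at this
      exact (mul_eq_zero.1 this).resolve_left (hc i)
    · rintro _ ⟨g, hg, rfl⟩
      refine ⟨mem_W.2 ⟨?_, fun i => ?_⟩, (hφk _).2 ⟨g, rfl⟩⟩
      · simpa [add_comm 1 j] using hl.mul (mem_W.1 hg).1
      · simp [(mem_W.1 hg).2 i]
  have hlmem : ∀ j, (W P j).map (LinearMap.mulLeft K l) ≤ mulVars (W P j) := by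
    rintro j _ ⟨g, hg, rfl⟩
    rw [LinearMap.mulLeft_apply, hldef, Finset.sum_mul]
    refine Submodule.sum_mem _ fun t _ => ?_
    rw [mul_assoc, ← smul_eq_C_mul]
    exact Submodule.smul_mem _ _ (mul_mem_mulVars hg t)
  -- image degrees
  have himg : ∀ j, (W P j).map φ.toLinearMap ≤ homogeneousSubmodule (Fin 2) K j := by
    rintro j _ ⟨f, hf, rfl⟩
    have e : φ = aeval (fun t => φ (X t)) := algHom_ext fun t => by simp
    rw [AlgHom.toLinearMap_apply, e]
    simpa [mem_homogeneousSubmodule] using (mem_W.1 hf).1.aeval (n := 1) _ hφ1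
  have hmv : ∀ V : Submodule K (MvPolynomial (Fin 3) K), mulVars (V.map φ.toLinearMap) ≤ (mulVars V).map φ.toLinearMap := by
    intro V
    refine iSup_le fun a => ?_
    rintro _ ⟨_, ⟨f, hf, rfl⟩, rfl⟩
    obtain ⟨t, ht⟩ := hφs a
    exact ⟨X t * f, mul_mem_mulVars hf t, by simp [ht]⟩
  let c' : ℕ → ℕ := fun j => finrank K ((W P j).map φ.toLinearMap)
  have hrk : ∀ U : Submodule K (MvPolynomial (Fin 3) K), FiniteDimensional K U →
      finrank K U = finrank K (U.map φ.toLinearMap) + finrank K (U ⊓ LinearMap.ker φ.toLinearMap : Submodule K _) := by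
    intro U _
    have h := LinearMap.finrank_range_add_finrank_ker (φ.toLinearMap.domRestrict U)
    rw [LinearMap.range_domRestrict, LinearMap.ker_domRestrict] at h
    rw [← h, (Submodule.comapSubtypeEquivOfLe (inf_le_left : U ⊓ LinearMap.ker φ.toLinearMap ≤ U)).symm.finrank_eq,
      Submodule.comap_inf, Submodule.comap_subtype_self, top_inf_eq]
  have hmap : ∀ j, finrank K ((W P j).map (LinearMap.mulLeft K l)) = finrank K (W P j) := fun j =>
    (Submodule.equivMapOfInjective (LinearMap.mulLeft K l) (fun a b h => mul_left_cancel₀ hl0 h) (W P j)).finrank_eq.symm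
  have e0 : newGens P 0 = c' 0 := by
    show finrank K (W P 0) - finrank K (⊥ : Submodule K (MvPolynomial (Fin 3) K)) = _
    rw [finrank_bot, Nat.sub_zero]
    simp only [c']
    rw [hrk _ inferInstance, hker0, finrank_bot, add_zero]
  have esucc : ∀ j, newGens P (j + 1) = c' (j + 1) - finrank K ((mulVars (W P j)).map φ.toLinearMap) ∧
      finrank K (mulVars ((W P j).map φ.toLinearMap)) ≤ finrank K ((mulVars (W P j)).map φ.toLinearMap) ∧
      finrank K ((mulVars (W P j)).map φ.toLinearMap) ≤ c' (j + 1) := by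
    intro j
    haveI : FiniteDimensional K (mulVars (W P j)) := Submodule.finiteDimensional_of_le (mulVars_le (W_le P j))
    refine ⟨?_, Submodule.finrank_mono (hmv _), Submodule.finrank_mono (Submodule.map_mono (mulVars_W_le P j))⟩
    have hk2 : mulVars (W P j) ⊓ LinearMap.ker φ.toLinearMap = (W P j).map (LinearMap.mulLeft K l) :=
      le_antisymm ((inf_le_inf_right _ (mulVars_W_le P j)).trans (hker j).le)
        (le_inf (hlmem j) ((hker j).ge.trans inf_le_right))
    show finrank K (W P (j + 1)) - finrank K (mulVars (W P j)) = c' (j + 1) - _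
    simp only [c']
    rw [hrk (W P (j + 1)) inferInstance, hker, hrk (mulVars (W P j)) inferInstance, hk2]
    omega
  have hc'le : ∀ j, c' j ≤ j + 1 := fun j => (Submodule.finrank_mono (himg j)).trans (finrank_homogeneous_two_le j)
  have hgrow : ∀ j, 0 < c' j → c' j + 1 ≤ finrank K (mulVars ((W P j).map φ.toLinearMap)) := by
    intro j hj
    refine growth (himg j) fun e => ?_
    simp only [c'] at hj
    rw [e, finrank_bot] at hj
    omega
  have hex : ∃ j, W P j ≠ ⊥ := ⟨d, hd⟩
  have hαd : Nat.find hex ≤ d := Nat.find_min' hex hd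
  set α := Nat.find hex with hα
  have hbelow : ∀ j < α, c' j = 0 ∧ newGens P j = 0 := by
    intro j hj
    have h0 : W P j = ⊥ := not_not.1 (Nat.find_min hex hj)
    have hz : finrank K (W P j) = 0 := by rw [h0, finrank_bot]
    refine ⟨?_, by rw [newGens, hz, Nat.zero_sub]⟩
    simp only [c']
    rw [h0, Submodule.map_bot, finrank_bot]
  have hαpos : 0 < c' α := by
    have hne := Nat.find_spec hex
    rw [← hα] at hne
    have hbot : W P α ⊓ LinearMap.ker φ.toLinearMap = ⊥ := by
      rcases Nat.eq_zero_or_pos α with h | h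
      · rw [h]; exact hker0
      · obtain ⟨a, ha⟩ : ∃ a, α = a + 1 := ⟨α - 1, by omega⟩
        rw [ha, hker, not_not.1 (Nat.find_min hex (show a < α by omega)), Submodule.map_bot]
    have := hrk (W P α) inferInstance
    rw [hbot, finrank_bot, add_zero] at this
    rw [show c' α = finrank K (W P α) from this.symm]
    exact Nat.pos_of_ne_zero fun h => hne (Submodule.finrank_eq_zero.1 h)
  have main : ∀ N, α < N → ∑ j ∈ Finset.range N, newGens P j + (N - 1) ≤ c' (N - 1) + α ∧ 0 < c' (N - 1) := by
    intro N hN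
    induction N with
    | zero => omega
    | succ N ih =>
      rw [Finset.sum_range_succ, Nat.add_sub_cancel]
      rcases Nat.lt_or_eq_of_le (Nat.le_of_lt_succ hN) with h | h
      · obtain ⟨m, rfl⟩ : ∃ m, N = m + 1 := ⟨N - 1, by omega⟩
        have ih := ih (by omega)
        rw [Nat.add_sub_cancel] at ih
        obtain ⟨h1, h2, h3⟩ := esucc m
        have := hgrow m ih.2
        omega
      · subst h
        have hz : ∑ j ∈ Finset.range α, newGens P j = 0 :=
          Finset.sum_eq_zero fun j hj => (hbelow j (Finset.mem_range.1 hj)).2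
        refine ⟨?_, hαpos⟩
        rw [hz]
        rcases Nat.eq_zero_or_pos α with h | h
        · rw [h, e0]; omega
        · obtain ⟨a, ha⟩ : ∃ a, α = a + 1 := ⟨α - 1, by omega⟩
          have := (esucc a).1
          rw [← ha] at this
          omega
  rcases Nat.lt_or_ge α N with h | h
  · have := (main N h).1
    have := hc'le (N - 1)
    omega
  · have : ∑ j ∈ Finset.range N, newGens P j = 0 :=
      Finset.sum_eq_zero fun j hj => (hbelow j (lt_of_lt_of_le (Finset.mem_range.1 hj) h)).2
    omega

/-! ### extension of scalars -/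

section BaseChange

variable {k : Type u} [Field k] [Algebra k K]

/-- `K`-span of the image -/
noncomputable def ext (V : Submodule k (MvPolynomial (Fin n) k)) : Submodule K (MvPolynomial (Fin n) K) :=
  Submodule.span K (MvPolynomial.map (algebraMap k K) '' (V : Set (MvPolynomial (Fin n) k)))

/-- coefficientwise application of a linear functional -/
noncomputable def coordPoly (a : K →ₗ[k] k) : MvPolynomial (Fin n) K →ₗ[k] MvPolynomial (Fin n) k :=
  Finsupp.mapRange.linearMap a ∘ₗ (AddMonoidAlgebra.coeffLinearEquiv (R := k)).toLinearMap |>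
    fun F => (AddMonoidAlgebra.coeffLinearEquiv (R := k)).symm.toLinearMap ∘ₗ F

lemma coeff_coordPoly (a : K →ₗ[k] k) (f : MvPolynomial (Fin n) K) (d : Fin n →₀ ℕ) :
    coeff d (coordPoly a f) = a (coeff d f) := rfl

lemma coordPoly_C_mul_map (a : K →ₗ[k] k) (x : K) (g : MvPolynomial (Fin n) k) :
    coordPoly a (C x * map (algebraMap k K) g) = C (a x) * g := by
  ext d
  rw [coeff_coordPoly, coeff_C_mul, coeff_C_mul, coeff_map, mul_comm x, ← Algebra.smul_def, map_smul, smul_eq_mul, mul_comm]

theorem finrank_ext (V : Submodule k (MvPolynomial (Fin n) k)) [FiniteDimensional k V] :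
    finrank K (ext (K := K) V) = finrank k V := by
  classical
  let b := Module.finBasis k V
  let w : Fin (finrank k V) → MvPolynomial (Fin n) K := fun i => map (algebraMap k K) (b i : MvPolynomial (Fin n) k)
  have hind : LinearIndependent K w := by
    rw [Fintype.linearIndependent_iff]
    intro x hx i
    by_contra hne
    obtain ⟨a, ha⟩ : ∃ a : K →ₗ[k] k, a (x i) ≠ 0 := by
      by_contra hall
      push_neg at hall
      exact hne ((Module.forall_dual_apply_eq_zero_iff k (x i)).1 hall)
    have h0 : coordPoly a (∑ t, x t • w t) = 0 := by rw [hx, map_zero]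
    simp only [map_sum, w, smul_eq_C_mul, coordPoly_C_mul_map] at h0
    have hb : ∑ t, a (x t) • b t = 0 := Subtype.ext (by simpa [smul_eq_C_mul] using h0)
    exact ha (Fintype.linearIndependent_iff.1 b.linearIndependent _ hb i)
  have hspan : ext (K := K) V = Submodule.span K (Set.range w) := by
    refine le_antisymm (Submodule.span_le.2 ?_) (Submodule.span_mono ?_)
    · rintro _ ⟨f, hf, rfl⟩
      have e : f = ∑ t, b.repr ⟨f, hf⟩ t • (b t : MvPolynomial (Fin n) k) := by
        have h := congrArg (V.subtype) (b.sum_repr ⟨f, hf⟩)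
        simp only [map_sum, map_smul, Submodule.subtype_apply] at h
        exact h.symm
      rw [e, map_sum]
      refine Submodule.sum_mem _ fun t _ => ?_
      rw [smul_eq_C_mul, map_mul, map_C, ← smul_eq_C_mul]
      exact Submodule.smul_mem _ _ (Submodule.subset_span ⟨t, rfl⟩)
    · rintro _ ⟨t, rfl⟩
      exact ⟨_, (b t).2, rfl⟩
  rw [hspan, finrank_span_eq_card hind, Fintype.card_fin]

variable (Q : ι → Fin n → k)

lemma ext_W (j : ℕ) : ext (K := K) (W Q j) = W (fun i => algebraMap k K ∘ Q i) j := by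
  classical
  refine le_antisymm (Submodule.span_le.2 ?_) ?_
  · rintro _ ⟨f, hf, rfl⟩
    refine mem_W.2 ⟨(mem_W.1 hf).1.map _, fun i => ?_⟩
    rw [eval_map, ← eval₂_comp, (mem_W.1 hf).2 i, map_zero]
  · intro f hf
    obtain ⟨b⟩ : Nonempty (Basis (Basis.ofVectorSpaceIndex k K) k K) := ⟨Basis.ofVectorSpace k K⟩
    obtain ⟨hh, hz⟩ := mem_W.1 hf
    have hev : ∀ (a : K →ₗ[k] k) (i : ι) (g : MvPolynomial (Fin n) K),
        eval (Q i) (coordPoly a g) = a (eval (algebraMap k K ∘ Q i) g) := by
      intro a i g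
      induction g using MvPolynomial.induction_on' with
      | monomial d c =>
        have e : coordPoly a (monomial d c) = monomial d (a c) := by
          ext d'
          rw [coeff_coordPoly, coeff_monomial, coeff_monomial]
          split_ifs <;> simp
        rw [e, eval_monomial, eval_monomial]
        simp only [Function.comp_apply, ← map_pow, ← map_finsuppProd]
        rw [mul_comm c, ← Algebra.smul_def, map_smul, smul_eq_mul, mul_comm]
      | add p q hp hq => simp only [map_add, hp, hq]
    let S := f.support.biUnion fun d => (b.repr (coeff d f)).support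
    have e : f = ∑ s ∈ S, C (b s) * map (algebraMap k K) (coordPoly (b.coord s) f) := by
      ext d
      simp only [coeff_sum, coeff_C_mul, coeff_map, coeff_coordPoly, Basis.coord_apply]
      conv_lhs => rw [← b.linearCombination_repr (coeff d f)]
      rw [Finsupp.linearCombination_apply, Finsupp.sum_of_support_subset (b.repr (coeff d f)) (s := S) ?_ (fun i a => a • b i) (fun s _ => zero_smul k (b s))]
      · exact Finset.sum_congr rfl fun s _ => by rw [Algebra.smul_def, mul_comm]
      · intro s hs
        refine Finset.mem_biUnion.2 ⟨d, mem_support_iff.2 fun h0 => ?_, hs⟩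
        rw [h0, map_zero] at hs
        simp at hs
    rw [e]
    refine Submodule.sum_mem _ fun s _ => ?_
    rw [← smul_eq_C_mul]
    refine Submodule.smul_mem _ _ (Submodule.subset_span ⟨_, mem_W.2 ⟨?_, fun i => ?_⟩, rfl⟩)
    · intro d hd
      rw [coeff_coordPoly] at hd
      exact hh fun h0 => hd (by rw [h0, map_zero])
    · rw [hev, hz i, map_zero]

lemma ext_mulVars (V : Submodule k (MvPolynomial (Fin n) k)) :
    ext (K := K) (mulVars V) = mulVars (ext (K := K) V) := by
  refine le_antisymm (Submodule.span_le.2 ?_) (iSup_le fun i => ?_)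
  · rintro _ ⟨f, hf, rfl⟩
    refine Submodule.iSup_induction _ (motive := fun f => map (algebraMap k K) f ∈ mulVars (ext (K := K) V)) hf ?_
      (by rw [map_zero]; exact Submodule.zero_mem _) (fun x y hx hy => by rw [map_add]; exact Submodule.add_mem _ hx hy)
    rintro i _ ⟨g, hg, rfl⟩
    rw [LinearMap.mulLeft_apply, map_mul, map_X]
    exact mul_mem_mulVars (V := ext (K := K) V) (Submodule.subset_span ⟨g, hg, rfl⟩) i
  · rw [ext, Submodule.map_span, Submodule.span_le]
    rintro _ ⟨_, ⟨g, hg, rfl⟩, rfl⟩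
    refine Submodule.subset_span (show _ ∈ MvPolynomial.map (algebraMap k K) '' ((mulVars V : Submodule k _) : Set (MvPolynomial (Fin n) k)) from ⟨X i * g, mul_mem_mulVars hg i, by simp⟩)

theorem newGens_baseChange (j : ℕ) : newGens (fun i => algebraMap k K ∘ Q i) j = newGens Q j := by
  haveI : FiniteDimensional k (prev Q j) := Submodule.finiteDimensional_of_le ((prev_le Q j).trans (W_le Q j))
  have h : prev (fun i => algebraMap k K ∘ Q i) j = ext (K := K) (prev Q j) := by
    cases j with
    | zero => simp [prev, ext]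
    | succ j => simp only [prev]; rw [ext_mulVars, ext_W]
  rw [newGens, newGens, h, ← ext_W (K := K) Q j, finrank_ext, finrank_ext]

end BaseChange

/-- generators in degrees `< N` -/
theorem exists_generators (Q : ι → Fin 3 → K) (N : ℕ) :
    ∃ G : Finset (MvPolynomial (Fin 3) K), G.card ≤ ∑ j ∈ Finset.range N, newGens Q j ∧
      (∀ g ∈ G, ∃ j, g ∈ W Q j) ∧
      ∀ j < N, ∀ f ∈ W Q j, f ∈ Ideal.span (G : Set (MvPolynomial (Fin 3) K)) := by
  classical
  induction N with
  | zero => exact ⟨∅, by simp, by simp, fun j h => absurd h (Nat.not_lt_zero j)⟩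
  | succ N ih =>
    obtain ⟨G, hG1, hG2, hG3⟩ := ih
    obtain ⟨C0, hC0⟩ := ((prev Q N).comap (W Q N).subtype).exists_isCompl
    have hrk := Submodule.finrank_add_eq_of_isCompl hC0
    rw [(Submodule.comapSubtypeEquivOfLe (prev_le Q N)).finrank_eq] at hrk
    haveI : Module.Free K C0 := Module.Free.of_divisionRing K C0
    let b := Module.finBasis K C0
    let G' : Finset (MvPolynomial (Fin 3) K) := Finset.univ.image fun t => ((b t : W Q N) : MvPolynomial (Fin 3) K)
    have hG' : G'.card ≤ newGens Q N :=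
      Finset.card_image_le.trans (by rw [Finset.card_univ, Fintype.card_fin, newGens]; omega)
    refine ⟨G ∪ G', ?_, ?_, ?_⟩
    · rw [Finset.sum_range_succ]
      exact (Finset.card_union_le _ _).trans (add_le_add hG1 hG')
    · intro g hg
      rcases Finset.mem_union.1 hg with h | h
      · exact hG2 g h
      · obtain ⟨t, -, rfl⟩ := Finset.mem_image.1 h
        exact ⟨N, (b t : W Q N).2⟩
    · intro j hj f hf
      have hmono : Ideal.span (G : Set (MvPolynomial (Fin 3) K)) ≤ Ideal.span ((G ∪ G' : Finset _) : Set _) :=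
        Ideal.span_mono (by simp)
      rcases Nat.lt_or_eq_of_le (Nat.le_of_lt_succ hj) with h | h
      · exact hmono (hG3 j h f hf)
      · subst h
        have hprev : ∀ g ∈ prev Q j, g ∈ Ideal.span ((G ∪ G' : Finset _) : Set (MvPolynomial (Fin 3) K)) := by
          intro g hg
          cases j with
          | zero => rw [(Submodule.mem_bot K).1 hg]; exact Ideal.zero_mem _
          | succ m =>
            have : mulVars (W Q m) ≤ (Ideal.span ((G ∪ G' : Finset _) : Set (MvPolynomial (Fin 3) K))).restrictScalars K := by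
              refine iSup_le fun i => ?_
              rintro _ ⟨g, hg, rfl⟩
              exact Ideal.mul_mem_left _ _ (hmono (hG3 m (Nat.lt_succ_self m) g hg))
            exact this hg
        obtain ⟨u, hu, v, hv, huv⟩ := Submodule.mem_sup.1 (show (⟨f, hf⟩ : W Q j) ∈ (prev Q j).comap (W Q j).subtype ⊔ C0 by
          rw [hC0.sup_eq_top]; trivial)
        have hf' : f = (u : MvPolynomial (Fin 3) K) + v := (congrArg Subtype.val huv).symm
        rw [hf']
        refine Ideal.add_mem _ (hprev _ hu) ?_
        have hv' := congrArg (fun x : C0 => ((x : W Q j) : MvPolynomial (Fin 3) K)) (b.sum_repr ⟨v, hv⟩)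
        simp only [Submodule.coe_sum, Submodule.coe_smul] at hv'
        rw [← hv']
        refine Ideal.sum_mem _ fun t _ => ?_
        rw [smul_eq_C_mul]
        exact Ideal.mul_mem_left _ _ (Ideal.subset_span (Finset.mem_coe.2 (Finset.mem_union_right _ (Finset.mem_image_of_mem _ (Finset.mem_univ t)))))

theorem spanFinrank_le (Z : Finset (Fin 3 → K)) (hZ : ∀ p ∈ Z, p ≠ 0)
    (I : Ideal (MvPolynomial (Fin 3) K))
    (hI : ∀ f : MvPolynomial (Fin 3) K, f ∈ I ↔ ∀ p ∈ Z, ∀ j : ℕ, eval p (homogeneousComponent j f) = 0)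
    (d : ℕ) (hf : ∃ f ∈ I, f.IsHomogeneous d ∧ f ≠ 0) :
    Submodule.spanFinrank I ≤ d + 1 := by
  classical
  let Q : Z → Fin 3 → K := fun p => p.1
  have hWI : ∀ j, ∀ g ∈ W Q j, g ∈ I := by
    intro j g hg
    obtain ⟨h1, h2⟩ := mem_W.1 hg
    refine (hI g).2 fun p hp i => ?_
    rw [homogeneousComponent_of_mem h1]
    split_ifs
    · exact h2 ⟨p, hp⟩
    · exact map_zero _
  have hIW : ∀ g ∈ I, ∀ j, homogeneousComponent j g ∈ W Q j := fun g hg j =>
    mem_W.2 ⟨homogeneousComponent_isHomogeneous _ _, fun p => (hI g).1 hg p.1 p.2 j⟩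
  obtain ⟨f, hfI, hfd, hf0⟩ := hf
  have hfW : f ∈ W Q d := by
    have := hIW f hfI d
    rwa [homogeneousComponent_eq_self hfd] at this
  let L := AlgebraicClosure K
  let P : Z → Fin 3 → L := fun p => algebraMap K L ∘ Q p
  have hP : ∀ p, P p ≠ 0 := by
    intro p h
    apply hZ p.1 p.2
    funext t
    exact (algebraMap K L).injective (by simpa [P, Q] using congrFun h t)
  have hWd : W P d ≠ ⊥ := by
    intro h
    have hne : finrank K (W Q d) ≠ 0 := by
      rw [Ne, Submodule.finrank_eq_zero]
      exact fun h' => hf0 ((Submodule.mem_bot K).1 (h' ▸ hfW))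
    apply hne
    rw [← finrank_ext (K := L) (W Q d), ext_W, show W (fun i => algebraMap K L ∘ Q i) d = ⊥ from h, finrank_bot]
  obtain ⟨s, hs⟩ := (IsNoetherian.noetherian I : I.FG)
  let N := s.sup totalDegree + 1
  obtain ⟨G, hG1, hG2, hG3⟩ := exists_generators Q N
  have hbound : ∑ j ∈ Finset.range N, newGens Q j ≤ d + 1 := by
    rw [← Finset.sum_congr rfl fun j _ => newGens_baseChange (K := L) Q j]
    exact sum_newGens_le P hP d hWd N
  have hspan : I = Submodule.span (MvPolynomial (Fin 3) K) (G : Set (MvPolynomial (Fin 3) K)) := by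
    refine le_antisymm ?_ (Submodule.span_le.2 fun g hg => ?_)
    · rw [← hs, Submodule.span_le]
      intro g hg
      rw [← sum_homogeneousComponent g]
      refine Submodule.sum_mem _ fun j hj => hG3 j ?_ _ (hIW g (hs ▸ Submodule.subset_span hg) j)
      have : g.totalDegree ≤ s.sup totalDegree := Finset.le_sup (Finset.mem_coe.1 hg)
      rw [Finset.mem_range] at hj
      omega
    · obtain ⟨j, hj⟩ := hG2 g hg
      exact hWI j g hj
  rw [hspan]
  refine le_trans (Submodule.spanFinrank_span_le_ncard_of_finite G.finite_toSet) ?_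
  rw [Set.ncard_coe_finset]
  exact hG1.trans hbound

end Groth.Agent.Lead.PointsGens
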