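import Mathlib

/-! Elementary facts on `Proj` of a graded algebra. -/

set_option autoImplicit false

universe u

open CategoryTheory AlgebraicGeometry

namespace Groth.Agent.Lead.ProjL

variable {R A : Type u} [CommRing R] [CommRing A] [Algebra R A] (𝒜 : ℕ → Submodule R A) [GradedAlgebra 𝒜]

theorem mem_irr {i : ℕ} (hi : 0 < i) {s : A} (hs : s ∈ 𝒜 i) : s ∈ (HomogeneousIdeal.irrelevant 𝒜).toIdeal :=
  HomogeneousIdeal.mem_irrelevant_of_mem 𝒜 hi hs

theorem not_mem_of_component {p : HomogeneousIdeal 𝒜} {f : A} {j : ℕ}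
    (h : (DirectSum.decompose 𝒜 f j : A) ∉ p.toIdeal) : f ∉ p.toIdeal :=
  fun hf => h (p.isHomogeneous j hf)

theorem exists_component {p : HomogeneousIdeal 𝒜} {f : A} (hf : f ∉ p.toIdeal) :
    ∃ j, (DirectSum.decompose 𝒜 f j : A) ∉ p.toIdeal := by
  classical
  by_contra h
  push Not at h
  refine hf ?_
  rw [← DirectSum.sum_support_decompose 𝒜 f]
  exact Ideal.sum_mem _ fun j _ => h j

/-- a homogeneous prime below a prime avoiding a homogeneous element of positive degree -/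
theorem exists_point_le (Q : Ideal A) [Q.IsPrime] {i : ℕ} (hi : 0 < i) {s : A} (hs : s ∈ 𝒜 i) (hsQ : s ∉ Q) :
    ∃ p : ProjectiveSpectrum 𝒜, p.asHomogeneousIdeal.toIdeal ≤ Q ∧ s ∉ p.asHomogeneousIdeal.toIdeal ∧
      ∀ (j : ℕ) (t : A), t ∈ 𝒜 j → t ∈ Q → t ∈ p.asHomogeneousIdeal.toIdeal :=
  ⟨⟨Q.homogeneousCore 𝒜, Ideal.IsPrime.homogeneousCore ‹_›,
      fun h => hsQ (Ideal.toIdeal_homogeneousCore_le 𝒜 Q (h (mem_irr 𝒜 hi hs)))⟩,
    Ideal.toIdeal_homogeneousCore_le 𝒜 Q, fun h => hsQ (Ideal.toIdeal_homogeneousCore_le 𝒜 Q h),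
    fun j t ht htQ => Ideal.mem_homogeneousCore_of_homogeneous_of_mem ⟨j, ht⟩ htQ⟩

theorem exists_pos_component {f : A} (hf : f ∈ (HomogeneousIdeal.irrelevant 𝒜).toIdeal) (hn : ¬ IsNilpotent f) :
    ∃ i, 0 < i ∧ ¬ IsNilpotent (DirectSum.decompose 𝒜 f i : A) := by
  classical
  by_contra h
  push Not at h
  refine hn ?_
  rw [← DirectSum.sum_support_decompose 𝒜 f]
  refine isNilpotent_sum fun i _ => ?_
  rcases Nat.eq_zero_or_pos i with rfl | hi
  · have : (DirectSum.decompose 𝒜 f 0 : A) = 0 := by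
      rw [← GradedRing.proj_apply]; exact (HomogeneousIdeal.mem_irrelevant_iff _ _).mp hf
    rw [this]; exact IsNilpotent.zero
  · exact h i hi

theorem exists_point_not_mem {f : A} (hf : f ∈ (HomogeneousIdeal.irrelevant 𝒜).toIdeal) (hn : ¬ IsNilpotent f) :
    ∃ p : ProjectiveSpectrum 𝒜, f ∉ p.asHomogeneousIdeal.toIdeal := by
  obtain ⟨i, hi, hni⟩ := exists_pos_component 𝒜 hf hn
  obtain ⟨Q, hQ, hsQ⟩ : ∃ Q : Ideal A, Q.IsPrime ∧ (DirectSum.decompose 𝒜 f i : A) ∉ Q := by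
    by_contra h
    push Not at h
    exact hni (nilpotent_iff_mem_prime.mpr h)
  obtain ⟨p, -, hp, -⟩ := exists_point_le 𝒜 Q hi (DirectSum.decompose 𝒜 f i).2 hsQ
  exact ⟨p, not_mem_of_component 𝒜 hp⟩

theorem isEmpty_iff : IsEmpty (Proj 𝒜) ↔ ∀ f ∈ (HomogeneousIdeal.irrelevant 𝒜).toIdeal, IsNilpotent f := by
  constructor
  · intro h f hf
    by_contra hn
    obtain ⟨p, -⟩ := exists_point_not_mem 𝒜 hf hn
    exact h.false p
  · intro h
    refine ⟨fun p => ?_⟩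
    exact p.not_irrelevant_le fun f hf => p.isPrime.radical.le (Ideal.radical_mono bot_le (h f hf))

/-- neighbourhood by a homogeneous element of positive degree -/
theorem exists_pos_nhd (p : ProjectiveSpectrum 𝒜) {r : A} (hr : r ∉ p.asHomogeneousIdeal.toIdeal) :
    ∃ (i : ℕ) (s : A), 0 < i ∧ s ∈ 𝒜 i ∧ s ∉ p.asHomogeneousIdeal.toIdeal ∧
      ∀ q : ProjectiveSpectrum 𝒜, s ∉ q.asHomogeneousIdeal.toIdeal → r ∉ q.asHomogeneousIdeal.toIdeal := by
  obtain ⟨e, he, hep⟩ : ∃ e ∈ (HomogeneousIdeal.irrelevant 𝒜).toIdeal, e ∉ p.asHomogeneousIdeal.toIdeal := by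
    by_contra h
    push Not at h
    exact p.not_irrelevant_le h
  obtain ⟨j, hj⟩ := exists_component 𝒜 hep
  have hj0 : 0 < j := Nat.pos_of_ne_zero fun h0 => by
    subst h0
    refine hj ?_
    rw [← GradedRing.proj_apply, (HomogeneousIdeal.mem_irrelevant_iff _ _).mp he]
    exact zero_mem _
  obtain ⟨k, hk⟩ := exists_component 𝒜 hr
  refine ⟨j + k, _, Nat.add_pos_left hj0 k,
    SetLike.mul_mem_graded (DirectSum.decompose 𝒜 e j).2 (DirectSum.decompose 𝒜 r k).2,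
    fun h => (p.isPrime.mem_or_mem h).elim hj hk, fun q hq => not_mem_of_component 𝒜 fun h => hq (Ideal.mul_mem_left _ _ h)⟩

theorem isReduced (hred : ∀ f ∈ (HomogeneousIdeal.irrelevant 𝒜).toIdeal, IsNilpotent f → f = 0) :
    AlgebraicGeometry.IsReduced (Proj 𝒜) := by
  haveI : ∀ d, AlgebraicGeometry.IsReduced ((Proj.affineOpenCover 𝒜).openCover.X d) := by
    rintro ⟨⟨i, hi⟩, ⟨s, hs⟩⟩
    haveI : _root_.IsReduced (HomogeneousLocalization.Away 𝒜 s) := ⟨fun x ⟨k, hk⟩ => by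
      obtain ⟨n, a, ha, rfl⟩ := HomogeneousLocalization.Away.mk_surjective 𝒜 hs x
      have h0 := congrArg HomogeneousLocalization.val hk
      rw [HomogeneousLocalization.val_pow, HomogeneousLocalization.Away.val_mk, HomogeneousLocalization.val_zero,
        Localization.mk_pow, Localization.mk_eq_mk', IsLocalization.mk'_eq_zero_iff] at h0
      obtain ⟨⟨_, m, rfl⟩, hm⟩ := h0
      have hsa : s * a = 0 := by
        refine hred _ (Ideal.mul_mem_right _ _ (mem_irr 𝒜 hi hs)) ⟨k + m, ?_⟩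
        calc (s * a) ^ (k + m) = s ^ k * a ^ m * (s ^ m * a ^ k) := by ring
          _ = 0 := by
            have : s ^ m * a ^ k = 0 := hm
            rw [this, mul_zero]
      apply HomogeneousLocalization.val_injective
      rw [HomogeneousLocalization.Away.val_mk, HomogeneousLocalization.val_zero, Localization.mk_eq_mk',
        IsLocalization.mk'_eq_zero_iff]
      exact ⟨⟨s, 1, pow_one s⟩, hsa⟩⟩
    exact inferInstanceAs (AlgebraicGeometry.IsReduced (Spec (CommRingCat.of (HomogeneousLocalization.Away 𝒜 s))))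
  exact AlgebraicGeometry.IsReduced.of_openCover _ (Proj.affineOpenCover 𝒜).openCover

theorem isIrreducible_univ (h : ∃ f ∈ (HomogeneousIdeal.irrelevant 𝒜).toIdeal, ¬ IsNilpotent f)
    (hd : ∀ f ∈ (HomogeneousIdeal.irrelevant 𝒜).toIdeal, ∀ g ∈ (HomogeneousIdeal.irrelevant 𝒜).toIdeal,
      IsNilpotent (f * g) → IsNilpotent f ∨ IsNilpotent g) : IrreducibleSpace (ProjectiveSpectrum 𝒜) := by
  haveI : Nonempty (ProjectiveSpectrum 𝒜) := by
    obtain ⟨f, hf, hn⟩ := h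
    exact ⟨(exists_point_not_mem 𝒜 hf hn).choose⟩
  haveI : PreirreducibleSpace (ProjectiveSpectrum 𝒜) := ⟨by
    rintro U V hU hV ⟨p, -, hp⟩ ⟨q, -, hq⟩
    obtain ⟨_, ⟨r, rfl⟩, hpr, hrU⟩ := (ProjectiveSpectrum.isTopologicalBasis_basic_opens 𝒜).exists_subset_of_mem_open hp hU
    obtain ⟨_, ⟨r', rfl⟩, hqr, hrV⟩ := (ProjectiveSpectrum.isTopologicalBasis_basic_opens 𝒜).exists_subset_of_mem_open hq hV
    obtain ⟨i, s, hi, hs, hsp, hsr⟩ := exists_pos_nhd 𝒜 p hpr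
    obtain ⟨j, t, hj, ht, htq, htr⟩ := exists_pos_nhd 𝒜 q hqr
    have hst : ¬ IsNilpotent (s * t) := fun hn => by
      rcases hd s (mem_irr 𝒜 hi hs) t (mem_irr 𝒜 hj ht) hn with ⟨m, hm⟩ | ⟨m, hm⟩
      · exact hsp (p.isPrime.mem_of_pow_mem m (hm ▸ zero_mem _))
      · exact htq (q.isPrime.mem_of_pow_mem m (hm ▸ zero_mem _))
    obtain ⟨z, hz⟩ := exists_point_not_mem 𝒜 (Ideal.mul_mem_right _ _ (mem_irr 𝒜 hi hs)) hst
    exact ⟨z, Set.mem_univ _, hrU (hsr z fun h => hz (Ideal.mul_mem_right _ _ h)),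
      hrV (htr z fun h => hz (Ideal.mul_mem_left _ _ h))⟩⟩
  exact ⟨inferInstance⟩

variable {B : Type u} [CommRing B] [Algebra R B] (ℬ : ℕ → Submodule R B) [GradedAlgebra ℬ]
    (φ : 𝒜 →+*ᵍ ℬ) (hφ : HomogeneousIdeal.irrelevant ℬ ≤ (HomogeneousIdeal.irrelevant 𝒜).map φ)

theorem map_of_away (P : MorphismProperty Scheme.{u}) [P.RespectsIso] [IsZariskiLocalAtTarget P]
    (h : ∀ (i : ℕ) (_ : 0 < i) (s : A), s ∈ 𝒜 i →
      P (Spec.map (CommRingCat.ofHom (HomogeneousLocalization.Away.map φ s)))) :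
    P (Proj.map φ hφ) := by
  refine IsZariskiLocalAtTarget.of_openCover (P := P) (Proj.affineOpenCover 𝒜).openCover fun d => ?_
  obtain ⟨⟨i, hi⟩, ⟨s, hs⟩⟩ := d
  have w := Proj.awayι_comp_map φ hφ hi s hs
  have hsq : CategoryTheory.IsPullback (Spec.map (CommRingCat.ofHom (HomogeneousLocalization.Away.map φ s)))
      (Proj.awayι ℬ (φ s) (φ.map_mem hs) hi) (Proj.awayι 𝒜 s hs hi) (Proj.map φ hφ) := by
    refine IsOpenImmersion.isPullback _ _ _ _ w ?_
    rw [Proj.opensRange_awayι, Proj.opensRange_awayι]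
    rfl
  show P (CategoryTheory.Limits.pullback.snd (Proj.map φ hφ) (Proj.awayι 𝒜 s hs hi))
  rw [← hsq.flip.isoPullback_inv_snd, MorphismProperty.cancel_left_of_respectsIso P]
  exact h i hi s hs

theorem away_map_surjective (hsurj : Function.Surjective φ) {i : ℕ} {s : A} (hs : s ∈ 𝒜 i) :
    Function.Surjective (HomogeneousLocalization.Away.map φ s) := by
  intro y
  obtain ⟨n, b, hb, rfl⟩ := HomogeneousLocalization.Away.mk_surjective ℬ (φ.map_mem hs) y
  obtain ⟨a, rfl⟩ := hsurj b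
  refine ⟨HomogeneousLocalization.Away.mk 𝒜 hs n (DirectSum.decompose 𝒜 a (n • i)) (SetLike.coe_mem _), ?_⟩
  rw [HomogeneousLocalization.Away.map_mk]
  apply HomogeneousLocalization.val_injective
  rw [HomogeneousLocalization.Away.val_mk, HomogeneousLocalization.Away.val_mk, GradedRingHom.map_directSumDecompose,
    DirectSum.decompose_of_mem_same ℬ hb]
  rfl

theorem isClosedImmersion (hsurj : Function.Surjective φ) : IsClosedImmersion (Proj.map φ hφ) :=
  map_of_away 𝒜 ℬ φ hφ @IsClosedImmersion fun _ _ _ hs =>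
    IsClosedImmersion.spec_of_surjective _ (away_map_surjective 𝒜 ℬ φ hsurj hs)

theorem denseRange (hker : ∀ a : A, φ a = 0 → IsNilpotent a) : DenseRange (Proj.map φ hφ).base := by
  intro p
  rw [mem_closure_iff]
  intro U hU hpU
  obtain ⟨_, ⟨r, rfl⟩, hpr, hrU⟩ := (ProjectiveSpectrum.isTopologicalBasis_basic_opens 𝒜).exists_subset_of_mem_open hpU hU
  obtain ⟨i, s, hi, hs, hsp, hsr⟩ := exists_pos_nhd 𝒜 p hpr
  have hn : ¬ IsNilpotent (φ s) := fun ⟨n, hn⟩ => by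
    rw [← map_pow] at hn
    obtain ⟨m, hm⟩ := hker _ hn
    rw [← pow_mul] at hm
    exact hsp (p.isPrime.mem_of_pow_mem (n * m) (hm ▸ zero_mem _))
  obtain ⟨z, hz⟩ := exists_point_not_mem ℬ (mem_irr ℬ hi (φ.map_mem hs)) hn
  exact ⟨(Proj.map φ hφ).base z, hrU (hsr _ hz), z, rfl⟩

end Groth.Agent.Lead.ProjL
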