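import Mathlib.RingTheory.MvPowerSeries.Substitution
import Mathlib.RingTheory.MvPowerSeries.Inverse
import Mathlib.RingTheory.PowerSeries.Substitution
import Mathlib.Tactic.LinearCombination
import Mathlib.Tactic.Abel
import Mathlib.Tactic.Ring
import Mathlib.Data.Finsupp.Interval
import Mathlib.Data.Finsupp.Weight

/-! Substitutions `X i ↦ X i * v i` with unit power series `v i` are automorphisms. -/

namespace Groth.Agent.Lead.PsSubst

open MvPowerSeries

variable {σ : Type*} [Fintype σ] [DecidableEq σ] {R : Type*} [CommRing R]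

lemma hasSubst_mul_unit (v : σ → MvPowerSeries σ R) : HasSubst (fun i => X i * v i) :=
  hasSubst_of_constantCoeff_zero (fun i => by simp)

lemma prod_X_mul (v : σ → MvPowerSeries σ R) (e : σ →₀ ℕ) :
    (e.prod fun i n => (X i * v i) ^ n) = monomial e 1 * (e.prod fun i n => v i ^ n) := by
  rw [monomial_one_eq]
  simp only [mul_pow]
  exact Finsupp.prod_mul

lemma coeff_subst_mul_unit (v : σ → MvPowerSeries σ R) (f : MvPowerSeries σ R) (d : σ →₀ ℕ) :
    coeff d (subst (fun i => X i * v i) f) =
      ∑ e ∈ Finset.Iic d, coeff e f * coeff (d - e) (e.prod fun i n => v i ^ n) := by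
  rw [coeff_subst (hasSubst_mul_unit v)]
  rw [finsum_eq_sum_of_support_subset (s := Finset.Iic d)]
  · refine Finset.sum_congr rfl fun e he => ?_
    rw [Finset.mem_Iic] at he
    rw [prod_X_mul, coeff_monomial_mul, if_pos he, one_mul, smul_eq_mul]
  · intro e he
    rw [Function.mem_support] at he
    rw [Finset.coe_Iic, Set.mem_Iic]
    by_contra h
    apply he
    rw [prod_X_mul, coeff_monomial_mul, if_neg h, smul_zero]

/-- the inverse, defined coefficient by coefficient -/
noncomputable def invFun (v : σ → MvPowerSeries σ R) (g : MvPowerSeries σ R) : (σ →₀ ℕ) → R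
  | d => Ring.inverse (constantCoeff (d.prod fun i n => v i ^ n)) *
      (coeff d g - ∑ e ∈ ((Finset.Iic d).erase d).attach,
        invFun v g e.1 * coeff (d - e.1) (e.1.prod fun i n => v i ^ n))
termination_by d => d.degree
decreasing_by
  have h1 := Finset.mem_erase.1 e.2
  have h2 := Finset.mem_Iic.1 h1.2
  obtain ⟨c, hc'⟩ := exists_add_of_le h2
  have : c ≠ 0 := fun h => h1.1 ((hc'.trans (by rw [h, add_zero])).symm)
  have hc : c.degree ≠ 0 := fun h => this ((Finsupp.degree_eq_zero_iff c).1 h)
  rw [congrArg Finsupp.degree hc', map_add]; omega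

/-- the inverse power series -/
noncomputable def invPS (v : σ → MvPowerSeries σ R) (g : MvPowerSeries σ R) : MvPowerSeries σ R :=
  fun d => invFun v g d

lemma coeff_invPS (v : σ → MvPowerSeries σ R) (g : MvPowerSeries σ R) (d : σ →₀ ℕ) :
    coeff d (invPS v g) = invFun v g d := rfl

lemma isUnit_diag (v : σ → MvPowerSeries σ R) (hv : ∀ i, IsUnit (constantCoeff (v i)))
    (d : σ →₀ ℕ) : IsUnit (constantCoeff (d.prod fun i n => v i ^ n)) := by
  rw [map_finsuppProd]
  exact IsUnit.prod_iff.2 fun i _ => by simpa using (hv i).pow (d i)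

theorem bijective_subst_mul_unit (v : σ → MvPowerSeries σ R)
    (hv : ∀ i, IsUnit (constantCoeff (v i))) :
    Function.Bijective (subst (R := R) (fun i => X i * v i)) := by
  constructor
  · intro f g hfg
    ext d
    induction d using (measure Finsupp.degree).wf.induction with
    | _ d ih =>
      have h := congrArg (coeff d) hfg
      simp only [coeff_subst_mul_unit] at h
      rw [← Finset.sum_erase_add _ _ (Finset.mem_Iic.2 (le_refl d)),
        ← Finset.sum_erase_add _ _ (Finset.mem_Iic.2 (le_refl d))] at h
      rw [Finset.sum_congr rfl (g := fun e => coeff e g * coeff (d - e) (e.prod fun i n => v i ^ n))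
        (fun e he => by
          have h1 := Finset.mem_erase.1 he
          obtain ⟨c, rfl⟩ := exists_add_of_le (Finset.mem_Iic.1 h1.2)
          have : c ≠ 0 := fun h => h1.1 (by simp [h])
          have hc : c.degree ≠ 0 := fun h => this ((Finsupp.degree_eq_zero_iff c).1 h)
          rw [ih e (by show e.degree < (e + c).degree; rw [map_add]; omega)])] at h
      have h := add_left_cancel h
      rw [tsub_self, coeff_zero_eq_constantCoeff_apply] at h
      exact (isUnit_diag v hv d).mul_right_cancel h
  · intro g
    refine ⟨invPS v g, ?_⟩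
    ext d
    rw [coeff_subst_mul_unit, ← Finset.sum_erase_add _ _ (Finset.mem_Iic.2 (le_refl d))]
    simp only [coeff_invPS]
    rw [invFun, Finset.sum_attach ((Finset.Iic d).erase d)
      (fun e => invFun v g e * coeff (d - e) (e.prod fun i n => v i ^ n))]
    rw [tsub_self, coeff_zero_eq_constantCoeff_apply,
      mul_comm (Ring.inverse _), mul_assoc, Ring.inverse_mul_cancel _ (isUnit_diag v hv d), mul_one]
    abel

/-- A cube root of `1 + w` when `3` is invertible and `w` has no constant term. -/
theorem exists_cube_eq_one_add (h3 : IsUnit (3 : R)) {w : MvPowerSeries σ R}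
    (hw : constantCoeff w = 0) :
    ∃ r : MvPowerSeries σ R, IsUnit (constantCoeff r) ∧ r ^ 3 = 1 + w := by
  set P : PowerSeries R := 3 * PowerSeries.X + 3 * PowerSeries.X ^ 2 + PowerSeries.X ^ 3 with hP
  have hc : PowerSeries.constantCoeff P = 0 := by simp [hP]
  have h1 : PowerSeries.coeff 1 P = 3 := by
    rw [hP, show (3 : PowerSeries R) = PowerSeries.C (3 : R) from (map_ofNat _ 3).symm]
    simp [PowerSeries.coeff_X_pow]
  letI : Invertible (PowerSeries.coeff 1 P) := h1 ▸ h3.invertible
  set g := PowerSeries.substInv P with hg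
  have hg0 : PowerSeries.HasSubst g :=
    PowerSeries.HasSubst.of_constantCoeff_zero (PowerSeries.constantCoeff_substInv P)
  have hinv : P.subst g = PowerSeries.X := PowerSeries.subst_substInv_right P hc
  have hw' : PowerSeries.HasSubst w := PowerSeries.HasSubst.of_constantCoeff_zero hw
  have hcube : (1 + g) ^ 3 = 1 + PowerSeries.X := by
    rw [← hinv, hP, show (3 : PowerSeries R) = PowerSeries.C (3 : R) from (map_ofNat _ 3).symm]
    simp only [PowerSeries.subst_add hg0, PowerSeries.subst_mul hg0, PowerSeries.subst_pow hg0,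
      PowerSeries.subst_X hg0, PowerSeries.subst_C]
    rw [show (MvPowerSeries.C (3 : R) : PowerSeries R) = 3 from map_ofNat _ 3]
    ring
  have key := congrArg (PowerSeries.substAlgHom hw') hcube
  simp only [map_pow, map_add, map_one, PowerSeries.substAlgHom_X] at key
  refine ⟨_, ?_, key⟩
  have h0 : constantCoeff (PowerSeries.substAlgHom hw' g) = 0 := by
    rw [PowerSeries.coe_substAlgHom]
    exact PowerSeries.constantCoeff_subst_eq_zero hw g (PowerSeries.constantCoeff_substInv P)
  rw [map_add, map_one, h0, add_zero]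
  exact isUnit_one

end Groth.Agent.Lead.PsSubst
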