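import Mathlib.Analysis.SpecialFunctions.Complex.Log
import Mathlib.Analysis.SpecialFunctions.Trigonometric.Basic
import Mathlib.LinearAlgebra.Vandermonde
import Mathlib.Algebra.Field.GeomSum
import Mathlib.Data.Fin.Tuple.Sort
import Mathlib.GroupTheory.Perm.Fin
import Mathlib.Algebra.BigOperators.Ring.Finset
import Mathlib.Tactic.LinearCombination
import Mathlib.Tactic.FieldSimp
import Mathlib.Tactic.Linarith
import Mathlib.Algebra.BigOperators.Field
import Mathlib.Tactic.Positivity
import Mathlib.Tactic.Ring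
import Mathlib.Tactic.NormNum

/-! Vanishing of two-point Verlinde numbers: orthogonality of alternants at roots of unity. -/

namespace Groth.Agent.Lead.Verlinde

open Finset

/-- `x ↦ exp (2πi x)` -/
noncomputable def E (x : ℝ) : ℂ := Complex.exp (2 * Real.pi * Complex.I * x)

lemma E_add (x y : ℝ) : E (x + y) = E x * E y := by
  rw [E, E, E, ← Complex.exp_add]; push_cast; ring_nf

lemma E_zero : E 0 = 1 := by simp [E]

lemma E_ne_zero (x : ℝ) : E x ≠ 0 := Complex.exp_ne_zero _

lemma E_int (n : ℤ) : E n = 1 := by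
  rw [E, Complex.exp_eq_one_iff]; exact ⟨n, by push_cast; ring⟩

lemma E_eq_one {x : ℝ} : E x = 1 ↔ ∃ n : ℤ, x = n := by
  refine ⟨fun h => ?_, fun ⟨n, hn⟩ => hn ▸ E_int n⟩
  obtain ⟨n, hn⟩ := Complex.exp_eq_one_iff.1 h
  refine ⟨n, ?_⟩
  have h2 : (2 * Real.pi * Complex.I : ℂ) ≠ 0 := by simp [Real.pi_ne_zero]
  have : (x : ℂ) = (n : ℂ) := mul_left_cancel₀ h2 (by rw [hn]; ring)
  exact_mod_cast this

lemma E_sum {ι : Type*} (s : Finset ι) (f : ι → ℝ) : E (∑ i ∈ s, f i) = ∏ i ∈ s, E (f i) := by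
  classical
  induction s using Finset.induction with
  | empty => simp [E_zero]
  | insert a s ha ih => rw [Finset.sum_insert ha, Finset.prod_insert ha, E_add, ih]

lemma E_nat_mul (n : ℕ) (x : ℝ) : E (n * x) = E x ^ n := by
  rw [E, E, ← Complex.exp_nat_mul]; push_cast; ring_nf

variable {r : ℕ} (N : ℕ) (a b : Fin r → ℕ)

/-- total weight -/
def M : ℕ := (∑ i, a i) + ∑ i, b i

/-- alternant -/
noncomputable def alt (c : Fin r → ℕ) (v : Fin r → ℝ) : Matrix (Fin r) (Fin r) ℂ :=
  Matrix.of fun i j => E ((c i : ℝ) * v j / N)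

/-- the summand -/
noncomputable def G (v : Fin r → ℝ) : ℂ :=
  E (-((M a b : ℝ) * ∑ j, v j) / ((r : ℝ) * N)) * (alt N a v).det * (alt N b v).det

lemma G_perm (v : Fin r → ℝ) (π : Equiv.Perm (Fin r)) : G N a b (v ∘ π) = G N a b v := by
  have h : ∀ c : Fin r → ℕ, alt N c (v ∘ π) = (alt N c v).submatrix id π := fun c => rfl
  have hs : (((Equiv.Perm.sign π : ℤˣ) : ℤ) : ℂ) * (((Equiv.Perm.sign π : ℤˣ) : ℤ) : ℂ) = 1 := by
    rcases Int.units_eq_one_or (Equiv.Perm.sign π) with h | h <;> simp [h]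
  rw [G, G, h, h, Matrix.det_permute', Matrix.det_permute']
  simp only [Function.comp_apply, Equiv.sum_comp π v]
  linear_combination (E (-((M a b : ℝ) * ∑ j, v j) / ((r : ℝ) * N)) * (alt N a v).det * (alt N b v).det) * hs

lemma G_eq_zero (v : Fin r → ℝ) {i j : Fin r} (hij : i ≠ j) (h : v i = v j) : G N a b v = 0 := by
  have : (alt N a v).det = 0 := Matrix.det_zero_of_column_eq hij fun k => by simp [alt, h]
  simp [G, this]

lemma alt_add (c : Fin r → ℕ) (v : Fin r → ℝ) (t : ℝ) :
    (alt N c fun j => v j + t).det = E ((∑ i, c i : ℕ) * t / N) * (alt N c v).det := by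
  have : alt N c (fun j => v j + t) =
      Matrix.of fun i j => E ((c i : ℝ) * t / N) * alt N c v i j := by
    ext i j
    simp only [alt, Matrix.of_apply]
    rw [← E_add]; ring_nf
  rw [this, Matrix.det_mul_column, ← E_sum, Nat.cast_sum, Finset.sum_mul, Finset.sum_div]

lemma G_add (v : Fin r → ℝ) (t : ℝ) (hr : 0 < r) (hN : 0 < N) :
    G N a b (fun j => v j + t) = G N a b v := by
  have hr' : (r : ℝ) ≠ 0 := Nat.cast_ne_zero.2 hr.ne'
  have hN' : (N : ℝ) ≠ 0 := Nat.cast_ne_zero.2 hN.ne'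
  simp only [G, alt_add, Finset.sum_add_distrib, Finset.sum_const, Finset.card_univ, Fintype.card_fin,
    nsmul_eq_mul]
  have : E (-((M a b : ℝ) * (∑ j, v j + r * t)) / ((r : ℝ) * N)) * E ((∑ i, a i : ℕ) * t / N) *
      E ((∑ i, b i : ℕ) * t / N) = E (-((M a b : ℝ) * ∑ j, v j) / ((r : ℝ) * N)) := by
    rw [← E_add, ← E_add]; congr 1
    simp only [M, Nat.cast_add]; field_simp; ring
  linear_combination ((alt N a v).det * (alt N b v).det) * this

lemma G_wrap (v : Fin r → ℝ) (j₀ : Fin r) (hN : 0 < N) :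
    G N a b (fun j => v j + if j = j₀ then (N : ℝ) else 0) = E (-(M a b : ℝ) / r) * G N a b v := by
  have hN' : (N : ℝ) ≠ 0 := Nat.cast_ne_zero.2 hN.ne'
  have h : ∀ c : Fin r → ℕ, alt N c (fun j => v j + if j = j₀ then (N : ℝ) else 0) = alt N c v := by
    intro c; ext i j
    simp only [alt, Matrix.of_apply]
    split
    · rw [mul_add, add_div, E_add, mul_div_assoc (c i : ℝ) (N : ℝ), div_self hN', mul_one,
        show ((c i : ℝ)) = ((c i : ℤ) : ℝ) by simp, E_int, mul_one]
    · simp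
  simp only [G, h, Finset.sum_add_distrib, Finset.sum_ite_eq', Finset.mem_univ, if_true]
  rw [mul_add, neg_add, add_div, E_add]
  have : -((M a b : ℝ) * N) / ((r : ℝ) * N) = -(M a b : ℝ) / r := by
    rw [← neg_mul, mul_div_mul_right _ _ hN']
  rw [this]; ring

/-- index set -/
def J (r N : ℕ) : Finset (Fin r → Fin N) :=
  (Finset.univ : Finset (Fin r → Fin N)).filter
    (fun v : Fin r → Fin N => StrictAnti v ∧ ∀ i : Fin r, (i : ℕ) = r - 1 → (v i : ℕ) = 0)

/-- real vector of an index -/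
def toR {N : ℕ} (v : Fin r → Fin N) : Fin r → ℝ := fun j => ((v j : ℕ) : ℝ)

lemma sum_eq_zero_of_not_dvd (hr : 2 ≤ r) (hω : E (-(M a b : ℝ) / r) ≠ 1) :
    ∑ v ∈ J r N, G N a b (toR v) = 0 := by
  obtain ⟨n, rfl⟩ : ∃ n, r = n + 2 := ⟨r - 2, by omega⟩
  let s : Fin (n + 2) := ⟨n, by omega⟩
  have hlast : ∀ v ∈ J (n + 2) N, (v (Fin.last (n + 1)) : ℕ) = 0 := fun v hv =>
    (Finset.mem_filter.1 hv).2.2 _ (by simp)
  have hspos : ∀ v ∈ J (n + 2) N, 0 < (v s : ℕ) := fun v hv => by
    have h := (Finset.mem_filter.1 hv).2.1 (show s < Fin.last (n + 1) from by simp [s, Fin.lt_def])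
    have := hlast v hv
    have h' : (v (Fin.last (n + 1)) : ℕ) < v s := h
    omega
  let R : (Fin (n + 2) → Fin N) → (Fin (n + 2) → Fin N) := fun v i =>
    if h : i = 0 ∧ 0 < (v s : ℕ) then ⟨N - v s, by omega⟩
    else ⟨(v ((finRotate (n + 2)).symm i) : ℕ) - v s, by
      have := (v ((finRotate (n + 2)).symm i)).isLt; omega⟩
  have hrot : ∀ i : Fin (n + 2), i ≠ 0 → (((finRotate (n + 2)).symm i : Fin (n + 2)) : ℕ) = i - 1 := by
    intro i hi
    obtain ⟨j, hj⟩ : ∃ j, (finRotate (n + 2)).symm i = j := ⟨_, rfl⟩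
    rw [hj]
    have hij : finRotate (n + 2) j = i := by rw [← hj, Equiv.apply_symm_apply]
    have hne : j ≠ Fin.last (n + 1) := fun h => hi (by rw [← hij, h, finRotate_last])
    have := coe_finRotate_of_ne_last hne
    rw [hij] at this
    omega
  have hrot0 : (finRotate (n + 2)).symm (0 : Fin (n + 2)) = Fin.last (n + 1) := by
    rw [Equiv.symm_apply_eq, finRotate_last]
  have hle : ∀ v ∈ J (n + 2) N, ∀ i : Fin (n + 2), (i : ℕ) ≤ n → (v s : ℕ) ≤ v i := fun v hv i hi =>
    (Finset.mem_filter.1 hv).2.1.antitone (show i ≤ s from hi)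
  have hR0 : ∀ v ∈ J (n + 2) N, (R v 0 : ℕ) = N - v s := fun v hv => by simp [R, hspos v hv]
  have hRi : ∀ v, ∀ i : Fin (n + 2), i ≠ 0 →
      (R v i : ℕ) = (v ((finRotate (n + 2)).symm i) : ℕ) - v s := fun v i hi => by simp [R, hi]
  have hmaps : ∀ v ∈ J (n + 2) N, R v ∈ J (n + 2) N := by
    intro v hv
    have hanti := (Finset.mem_filter.1 hv).2.1
    refine Finset.mem_filter.2 ⟨Finset.mem_univ _, fun i j hij => ?_, fun i hi => ?_⟩
    · have hj : j ≠ 0 := fun h => by subst h; exact absurd hij (by simp)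
      show (R v j : ℕ) < R v i
      rw [hRi v j hj]
      have hjlt := j.isLt
      have h1 := hle v hv ((finRotate (n + 2)).symm j) (by rw [hrot j hj]; omega)
      by_cases hi : i = 0
      · subst hi; rw [hR0 v hv]
        have := (v ((finRotate (n + 2)).symm j)).isLt
        omega
      · rw [hRi v i hi]
        have h2 : (finRotate (n + 2)).symm i < (finRotate (n + 2)).symm j := by
          rw [Fin.lt_def, hrot i hi, hrot j hj]
          have : (i : ℕ) < j := hij
          have : (i : ℕ) ≠ 0 := fun h => hi (Fin.ext h)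
          omega
        have h3 : (v ((finRotate (n + 2)).symm j) : ℕ) < v ((finRotate (n + 2)).symm i) := hanti h2
        omega
    · have hi0 : i ≠ 0 := fun h => by subst h; simp at hi
      rw [hRi v i hi0, show (finRotate (n + 2)).symm i = s from Fin.ext (by rw [hrot i hi0]; simp [s]; omega)]
      omega
  have hinj : Set.InjOn R (J (n + 2) N : Set (Fin (n + 2) → Fin N)) := by
    intro v hv w hw h
    have hv' : v ∈ J (n + 2) N := hv
    have hw' : w ∈ J (n + 2) N := hw
    have h0 : (R v 0 : ℕ) = R w 0 := by rw [h]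
    rw [hR0 v hv', hR0 w hw'] at h0
    have h1 := (v s).isLt
    have h2 := (w s).isLt
    funext i
    apply Fin.ext
    obtain ⟨j, rfl⟩ := (finRotate (n + 2)).symm.surjective i
    by_cases hj : j = 0
    · subst hj; rw [hrot0, hlast v hv', hlast w hw']
    · have h3 : (R v j : ℕ) = R w j := by rw [h]
      rw [hRi v j hj, hRi w j hj] at h3
      have hjn : ((finRotate (n + 2)).symm j : ℕ) ≤ n := by
        have := j.isLt; rw [hrot j hj]; omega
      have := hle v hv' _ hjn
      have := hle w hw' _ hjn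
      omega
  have hkey : ∀ v ∈ J (n + 2) N, G N a b (toR (R v)) = E (-(M a b : ℝ) / (n + 2 : ℕ)) * G N a b (toR v) := by
    intro v hv
    have hNpos : 0 < N := by have := (v s).isLt; omega
    have e : toR (R v) = fun j => ((toR v ∘ (finRotate (n + 2)).symm) j +
        if j = 0 then (N : ℝ) else 0) + (-((v s : ℕ) : ℝ)) := by
      funext j
      simp only [toR, Function.comp_apply]
      by_cases hj : j = 0
      · subst hj
        rw [hR0 v hv, hrot0, hlast v hv, if_pos rfl, Nat.cast_sub (v s).isLt.le]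
        simp; ring
      · rw [hRi v j hj, if_neg hj, Nat.cast_sub (hle v hv _ (by have := j.isLt; rw [hrot j hj]; omega))]
        ring
    rw [e, G_add N a b _ _ (by omega) hNpos, G_wrap N a b _ _ hNpos, G_perm]
  have hsum : ∑ v ∈ J (n + 2) N, G N a b (toR (R v)) = ∑ v ∈ J (n + 2) N, G N a b (toR v) :=
    Finset.sum_nbij R hmaps hinj (Finset.surjOn_of_injOn_of_card_le R hmaps hinj le_rfl) fun _ _ => rfl
  rw [Finset.sum_congr rfl hkey, ← Finset.mul_sum] at hsum
  by_contra h0
  exact hω (mul_right_cancel₀ h0 (hsum.trans (one_mul _).symm))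

lemma G_expand (hN : 0 < N) {q : ℕ} (hq : M a b = r * q) (hr : 0 < r) (v : Fin r → ℝ) :
    G N a b v = ∑ σ : Equiv.Perm (Fin r), ∑ τ : Equiv.Perm (Fin r),
      ((Equiv.Perm.sign σ : ℤ) : ℂ) * ((Equiv.Perm.sign τ : ℤ) : ℂ) *
        ∏ j, E ((((a (σ j) : ℤ) + b (τ j) - q : ℤ) : ℝ) * v j / N) := by
  have hr' : (r : ℝ) ≠ 0 := Nat.cast_ne_zero.2 hr.ne'
  have hN' : (N : ℝ) ≠ 0 := Nat.cast_ne_zero.2 hN.ne'
  have h1 : E (-((M a b : ℝ) * ∑ j, v j) / ((r : ℝ) * N)) = ∏ j, E (-((q : ℝ) * v j) / N) := by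
    rw [← E_sum, hq]; congr 1
    rw [← Finset.sum_div, Finset.sum_neg_distrib, ← Finset.mul_sum]
    push_cast; field_simp
  rw [G, h1, Matrix.det_apply', Matrix.det_apply', mul_assoc, Finset.sum_mul, Finset.mul_sum]
  refine Finset.sum_congr rfl fun σ _ => ?_
  rw [Finset.mul_sum, Finset.mul_sum]
  refine Finset.sum_congr rfl fun τ _ => ?_
  have : ∀ j, E ((((a (σ j) : ℤ) + b (τ j) - q : ℤ) : ℝ) * v j / N) =
      E (-((q : ℝ) * v j) / N) * E ((a (σ j) : ℝ) * v j / N) * E ((b (τ j) : ℝ) * v j / N) := fun j => by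
    rw [← E_add, ← E_add]; congr 1; push_cast; ring
  simp only [this, Finset.prod_mul_distrib, alt, Matrix.of_apply]
  ring

lemma G_periodic (hN : 0 < N) {q : ℕ} (hq : M a b = r * q) (hr : 0 < r) (v w : Fin r → ℕ)
    (h : ∀ j, v j % N = w j % N) :
    G N a b (fun j => (v j : ℝ)) = G N a b (fun j => (w j : ℝ)) := by
  have hN' : (N : ℝ) ≠ 0 := Nat.cast_ne_zero.2 hN.ne'
  rw [G_expand N a b hN hq hr, G_expand N a b hN hq hr]
  refine Finset.sum_congr rfl fun σ _ => Finset.sum_congr rfl fun τ _ => ?_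
  congr 1
  refine Finset.prod_congr rfl fun j _ => ?_
  have hd : (N : ℤ) ∣ (v j : ℤ) - w j :=
    Int.ModEq.dvd (by exact_mod_cast (h j).symm : (w j : ℤ) ≡ v j [ZMOD N])
  obtain ⟨m, hm⟩ := hd
  generalize ((a (σ j) : ℤ) + b (τ j) - q) = c
  have : (c : ℝ) * v j / N = (c : ℝ) * w j / N + ((c * m : ℤ) : ℝ) := by
    have : (v j : ℝ) = w j + N * m := by
      have : ((v j : ℤ) : ℝ) = ((w j + N * m : ℤ) : ℝ) := by rw [← hm]; simp
      simpa using this
    rw [this]; push_cast; field_simp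
  rw [this, E_add, E_int, mul_one]

lemma sum_all_eq_zero (hN : 0 < N) {q : ℕ} (hq : M a b = r * q) (hr : 0 < r)
    (hno : ∀ σ τ : Equiv.Perm (Fin r), ∃ j, ¬ (N : ℤ) ∣ (a (σ j) : ℤ) + b (τ j) - q) :
    ∑ v : Fin r → Fin N, G N a b (toR v) = 0 := by
  simp only [G_expand N a b hN hq hr]
  rw [Finset.sum_comm]
  refine Finset.sum_eq_zero fun σ _ => ?_
  rw [Finset.sum_comm]
  refine Finset.sum_eq_zero fun τ _ => ?_
  rw [← Finset.mul_sum]
  refine mul_eq_zero.2 (Or.inr ?_)
  obtain ⟨j, hj⟩ := hno σ τ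
  have := (Finset.prod_univ_sum (fun _ : Fin r => (Finset.univ : Finset (Fin N)))
    (fun i (x : Fin N) => E ((((a (σ i) : ℤ) + b (τ i) - q : ℤ) : ℝ) * ((x : ℕ) : ℝ) / N))).symm
  rw [Fintype.piFinset_univ] at this
  refine this.trans (Finset.prod_eq_zero (Finset.mem_univ j) ?_)
  generalize hc : ((a (σ j) : ℤ) + b (τ j) - q) = c at hj
  have hN' : (N : ℝ) ≠ 0 := Nat.cast_ne_zero.2 hN.ne'
  have hx : E ((c : ℝ) / N) ≠ 1 := by
    rw [Ne, E_eq_one]
    rintro ⟨m, hm⟩
    apply hj
    refine ⟨m, ?_⟩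
    have : (c : ℝ) = ((N * m : ℤ) : ℝ) := by
      push_cast; rw [div_eq_iff hN'] at hm; rw [hm]; ring
    exact_mod_cast this
  have hpow : ∀ x : ℕ, E ((c : ℝ) * (x : ℝ) / N) = E ((c : ℝ) / N) ^ x := fun x => by
    rw [← E_nat_mul]; ring_nf
  simp only [hpow]
  rw [Fin.sum_univ_eq_sum_range (fun x => E ((c : ℝ) / N) ^ x), geom_sum_eq hx, ← hpow N,
    mul_div_assoc, div_self hN', mul_one, E_int, sub_self, zero_div]

lemma sum_eq_zero_of_dvd (hr : 0 < r) (hN : 0 < N) {q : ℕ} (hq : M a b = r * q)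
    (hno : ∀ σ τ : Equiv.Perm (Fin r), ∃ j, ¬ (N : ℤ) ∣ (a (σ j) : ℤ) + b (τ j) - q) :
    ∑ v ∈ J r N, G N a b (toR v) = 0 := by
  classical
  haveI : NeZero N := ⟨hN.ne'⟩
  set F : (Fin r → Fin N) → ℂ := fun v => G N a b (toR v) with hF
  have hall : ∑ v, F v = 0 := sum_all_eq_zero N a b hN hq hr hno
  have hshift : ∀ (t : Fin N) v, F (fun j => v j + t) = F v := fun t v => by
    simp only [hF]
    show G N a b (fun j => (((v j + t : Fin N) : ℕ) : ℝ)) = G N a b (fun j => ((v j : ℕ) : ℝ))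
    rw [G_periodic N a b hN hq hr (fun j => ((v j + t : Fin N) : ℕ)) (fun j => (v j : ℕ) + (t : ℕ))
      (fun j => by rw [Fin.val_add, Nat.mod_mod])]
    simp only [Nat.cast_add]
    exact G_add N a b _ _ hr hN
  have hfix : ∀ j : Fin r, ∑ v ∈ univ.filter (fun v : Fin r → Fin N => v j = 0), F v = 0 := by
    intro j
    have h1 : ∀ t : Fin N, ∑ v ∈ univ.filter (fun v : Fin r → Fin N => v j = t), F v =
        ∑ v ∈ univ.filter (fun v : Fin r → Fin N => v j = 0), F v := by
      intro t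
      refine Finset.sum_nbij' (fun v i => v i + (-t)) (fun v i => v i + t) ?_ ?_ ?_ ?_ ?_
      · intro v hv; simp only [coe_filter, mem_filter, mem_univ, true_and, Set.mem_setOf_eq] at hv ⊢
        simp [hv]
      · intro v hv; simp only [coe_filter, mem_filter, mem_univ, true_and, Set.mem_setOf_eq] at hv ⊢
        simp [hv]
      · intro v _; funext i; simp
      · intro v _; funext i; simp
      · intro v _; exact (hshift (-t) v).symm
    have h2 := Finset.sum_fiberwise (Finset.univ : Finset (Fin r → Fin N)) (fun v => v j) F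
    simp only [h1, Finset.sum_const, Finset.card_univ, Fintype.card_fin, hall] at h2
    rcases smul_eq_zero.1 h2 with h | h
    · exact absurd h hN.ne'
    · exact h
  set U : Finset (Fin r → Fin N) :=
    univ.filter (fun v => Function.Injective v ∧ ∃ j, v j = 0) with hU
  have hU0 : ∑ v ∈ U, F v = 0 := by
    have h : ∑ j : Fin r, ∑ v ∈ univ.filter (fun v : Fin r → Fin N => v j = 0), F v = 0 :=
      Finset.sum_eq_zero fun j _ => hfix j
    rw [← h]
    simp only [Finset.sum_filter]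
    rw [Finset.sum_comm, hU, Finset.sum_filter]
    refine Finset.sum_congr rfl fun v _ => ?_
    by_cases hv : Function.Injective v
    · by_cases hj : ∃ j, v j = 0
      · obtain ⟨j, hj⟩ := hj
        rw [if_pos ⟨hv, j, hj⟩, Finset.sum_eq_single j (fun i _ hij => if_neg fun h' => hij (hv (h'.trans hj.symm)))
          (fun h => absurd (Finset.mem_univ j) h), if_pos hj]
      · rw [if_neg (fun h => hj h.2), Finset.sum_eq_zero fun i _ => if_neg fun h' => hj ⟨i, h'⟩]
    · rw [if_neg (fun h => hv h.1)]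
      obtain ⟨i, j, hij, hne⟩ := Function.not_injective_iff.1 hv
      have : F v = 0 := G_eq_zero N a b _ hne (by simp [toR, hij])
      simp [this]
  -- sort
  let last : Fin r := ⟨r - 1, by omega⟩
  have hbij : ∑ p ∈ (Finset.univ : Finset (Equiv.Perm (Fin r))) ×ˢ J r N, F (p.2 ∘ p.1) = ∑ v ∈ U, F v := by
    refine Finset.sum_nbij (fun p => p.2 ∘ p.1) ?_ ?_ ?_ fun _ _ => rfl
    · rintro ⟨π, w⟩ hp
      obtain ⟨-, hw⟩ := Finset.mem_product.1 hp
      obtain ⟨-, ha, h0⟩ := Finset.mem_filter.1 hw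
      exact Finset.mem_filter.2 ⟨Finset.mem_univ _, ha.injective.comp π.injective,
        π.symm last, by simp only [Function.comp_apply, Equiv.apply_symm_apply]; exact Fin.ext (h0 last rfl)⟩
    · rintro ⟨π, w⟩ hp ⟨π', w'⟩ hp' h
      simp only at h
      have hp := (Finset.mem_product.1 hp).2
      have hp' := (Finset.mem_product.1 hp').2
      obtain ⟨-, ha, -⟩ := Finset.mem_filter.1 hp
      obtain ⟨-, ha', -⟩ := Finset.mem_filter.1 hp'
      have hr' : Set.range (fun i : Fin r => w i.rev) = Set.range (fun i : Fin r => w' i.rev) := by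
        have := congrArg Set.range h
        rw [π.surjective.range_comp, π'.surjective.range_comp] at this
        rw [show (fun i : Fin r => w i.rev) = w ∘ Fin.rev from rfl,
          show (fun i : Fin r => w' i.rev) = w' ∘ Fin.rev from rfl,
          Fin.rev_surjective.range_comp, Fin.rev_surjective.range_comp, this]
      have hm : StrictMono (fun i : Fin r => w i.rev) := fun (i j : Fin r) hij => ha (Fin.rev_lt_rev.2 hij)
      have hm' : StrictMono (fun i : Fin r => w' i.rev) := fun (i j : Fin r) hij => ha' (Fin.rev_lt_rev.2 hij)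
      have hww : w = w' := by
        have := (hm.range_inj hm').1 hr'
        funext i
        simpa using congrFun this i.rev
      subst hww
      exact Prod.ext (Equiv.ext fun i => ha.injective (congrFun h i)) rfl
    · intro v hv
      obtain ⟨-, hinj, j, hj⟩ := Finset.mem_filter.1 (Finset.mem_coe.1 hv)
      let σ := Tuple.sort v
      have hmono : StrictMono (v ∘ σ) :=
        (Tuple.monotone_sort v).strictMono_of_injective (hinj.comp σ.injective)
      let w := fun i : Fin r => v (σ i.rev)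
      have hw : StrictAnti w := fun (i j : Fin r) hij => hmono (Fin.rev_lt_rev.2 hij)
      refine ⟨((Fin.revPerm.symm.trans σ).symm, w), ?_, ?_⟩
      · refine Finset.mem_coe.2 (Finset.mem_product.2 ⟨Finset.mem_univ _,
          Finset.mem_filter.2 ⟨Finset.mem_univ _, hw, fun i hi => ?_⟩⟩)
        have h1 : w i ≤ w ((σ.symm j).rev) := hw.antitone (Fin.le_def.2 (by have := (σ.symm j).rev.isLt; omega))
        have h2 : w ((σ.symm j).rev) = 0 := by simp [w, hj]
        rw [h2] at h1
        exact Nat.le_zero.1 h1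
      · funext i; simp [w, Equiv.trans]
  rw [Finset.sum_product] at hbij
  have hperm : ∀ (π : Equiv.Perm (Fin r)) (w : Fin r → Fin N), F (w ∘ π) = F w := fun π w =>
    G_perm N a b (toR w) π
  simp only [hperm, Finset.sum_const, hU0] at hbij
  rcases smul_eq_zero.1 hbij with h | h
  · exact absurd h (Finset.card_ne_zero.2 Finset.univ_nonempty)
  · exact h

lemma all_eq (hN : 0 < N) (ha : ∀ i, a i < N) (hb : ∀ i, b i < N) {q : ℕ} (hq : M a b = r * q)
    (hb' : StrictAnti b) (ha' : StrictAnti a) (σ τ : Equiv.Perm (Fin r))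
    (h : ∀ j, (N : ℤ) ∣ (a (σ j) : ℤ) + b (τ j) - q) :
    ∀ i : Fin r, a i + b i.rev = q := by
  choose m hm using h
  have hsum : ∑ j, ((a (σ j) : ℤ) + b (τ j) - q) = 0 := by
    rw [Finset.sum_sub_distrib, Finset.sum_add_distrib, Equiv.sum_comp σ (fun i => (a i : ℤ)),
      Equiv.sum_comp τ (fun i => (b i : ℤ))]
    have : ((M a b : ℕ) : ℤ) = ((r * q : ℕ) : ℤ) := by rw [hq]
    simp [M] at this ⊢
    linarith
  simp only [hm, ← Finset.mul_sum] at hsum
  have hm0 : ∑ j, m j = 0 := (mul_eq_zero.1 hsum).resolve_left (by exact_mod_cast hN.ne')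
  have hd : ∀ i j, m i ≤ m j + 1 := fun i j => by
    by_contra hlt
    have h2 : (N : ℤ) * (m j + 2) ≤ N * m i :=
      mul_le_mul_of_nonneg_left (by omega) (by positivity)
    have := ha (σ i); have := hb (τ i); have := hm i; have := hm j
    rw [mul_add] at h2
    omega
  have hz : ∀ j, m j = 0 := fun j => by
    rcases lt_trichotomy (m j) 0 with h | h | h
    · exfalso
      have := Finset.sum_lt_sum (s := univ) (f := m) (g := fun _ => (0 : ℤ))
        (fun i _ => by have := hd i j; omega) ⟨j, Finset.mem_univ j, h⟩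
      simp [hm0] at this
    · exact h
    · exfalso
      have := Finset.sum_lt_sum (s := univ) (g := m) (f := fun _ => (0 : ℤ))
        (fun i _ => by have := hd j i; omega) ⟨j, Finset.mem_univ j, h⟩
      simp [hm0] at this
  intro i
  set π := σ.symm.trans τ with hπ
  have he : ∀ i, a i + b (π i) = q := fun i => by
    have := hm (σ.symm i)
    rw [hz, mul_zero, Equiv.apply_symm_apply] at this
    have e : π i = τ (σ.symm i) := rfl
    rw [e]; omega
  have hmono : StrictMono (fun i : Fin r => π i.rev) := by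
    intro i j hij
    have h1 := ha' (Fin.rev_lt_rev.2 hij)
    show π i.rev < π j.rev
    refine hb'.lt_iff_gt.1 ?_
    have := he i.rev; have := he j.rev
    omega
  have hid : (fun i : Fin r => π i.rev) = id := by
    refine (hmono.range_inj strictMono_id).1 ?_
    rw [Set.range_id]
    exact (π.surjective.comp Fin.rev_surjective).range_eq
  have e : π i = i.rev := by simpa using congrFun hid i.rev
  rw [← e]; exact he i

lemma sum_eq_zero (hr : 2 ≤ r) (hN : 0 < N) (ha : ∀ i, a i < N) (hb : ∀ i, b i < N)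
    (ha' : StrictAnti a) (hb' : StrictAnti b) (hne : ¬ ∃ q, ∀ i : Fin r, a i + b i.rev = q) :
    ∑ v ∈ J r N, G N a b (toR v) = 0 := by
  by_cases hω : E (-(M a b : ℝ) / r) = 1
  · obtain ⟨n, hn⟩ := E_eq_one.1 hω
    have hr' : (r : ℝ) ≠ 0 := Nat.cast_ne_zero.2 (by omega)
    rw [div_eq_iff hr'] at hn
    have hz : ((M a b : ℤ)) = (r : ℤ) * (-n) := by
      have h' : (((M a b : ℤ)) : ℝ) = (((r : ℤ) * (-n) : ℤ) : ℝ) := by push_cast; linarith
      exact_mod_cast h'
    have hn' : (0 : ℤ) ≤ -n := by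
      by_contra h
      have : (r : ℤ) * (-n) < 0 := mul_neg_of_pos_of_neg (by omega) (by omega)
      omega
    obtain ⟨q, hq'⟩ := Int.eq_ofNat_of_zero_le hn'
    have hq : M a b = r * q := by rw [hq'] at hz; exact_mod_cast hz
    refine sum_eq_zero_of_dvd N a b (by omega) hN hq fun σ τ => ?_
    by_contra h
    simp only [not_exists, not_not] at h
    exact hne ⟨q, all_eq N a b hN ha hb hq hb' ha' σ τ h⟩
  · exact sum_eq_zero_of_not_dvd N a b hr hω

lemma prod_pairs (z : Fin r → ℂ) :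
    ∏ p ∈ (univ : Finset (Fin r × Fin r)).filter (fun p => p.1 < p.2), z p.1 * z p.2 =
      ∏ i, z i ^ (r - 1) := by
  rw [Finset.prod_mul_distrib]
  have h2 : ∏ p ∈ (univ : Finset (Fin r × Fin r)).filter (fun p => p.1 < p.2), z p.2 =
      ∏ p ∈ (univ : Finset (Fin r × Fin r)).filter (fun p => p.2 < p.1), z p.1 := by
    refine Finset.prod_nbij' Prod.swap Prod.swap ?_ ?_ ?_ ?_ ?_ <;> simp
  rw [h2, ← Finset.prod_union (Finset.disjoint_filter.2 fun p _ h h' => lt_asymm h h'),
    ← Finset.filter_or]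
  rw [Finset.prod_filter, ← Finset.univ_product_univ, Finset.prod_product]
  refine Finset.prod_congr rfl fun i _ => ?_
  dsimp only
  rw [← Finset.prod_filter, Finset.prod_const]
  congr 1
  rw [show (univ : Finset (Fin r)).filter (fun j => i < j ∨ j < i) = univ.erase i by
    ext j; simp [lt_or_lt_iff_ne, eq_comm]]
  simp [Finset.card_erase_of_mem]

lemma two_sin_sq (x y : ℝ) :
    ((((2 : ℝ) * Real.sin (Real.pi * (x - y))) ^ 2 : ℝ) : ℂ) = -((E x - E y) ^ 2) / (E x * E y) := by
  have h1 : E x = E ((x + y) / 2) * E ((x - y) / 2) := by rw [← E_add]; ring_nf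
  have h2 : E y = E ((x + y) / 2) * E (-((x - y) / 2)) := by rw [← E_add]; ring_nf
  have h3 : E ((x - y) / 2) * E (-((x - y) / 2)) = 1 := by rw [← E_add, add_neg_cancel, E_zero]
  have h4 : E x * E y = E ((x + y) / 2) ^ 2 := by rw [h1, h2]; linear_combination E ((x + y) / 2) ^ 2 * h3
  rw [h4, h1, h2, ← mul_sub, mul_pow (E ((x + y) / 2)), neg_mul_eq_mul_neg,
    mul_div_cancel_left₀ _ (pow_ne_zero _ (E_ne_zero _))]
  have e1 : E ((x - y) / 2) = Complex.exp (((Real.pi * (x - y) : ℝ) : ℂ) * Complex.I) := by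
    rw [E]; push_cast; ring_nf
  have e2 : E (-((x - y) / 2)) = Complex.exp (-((Real.pi * (x - y) : ℝ) : ℂ) * Complex.I) := by
    rw [E]; push_cast; ring_nf
  rw [e1, e2, Complex.ofReal_pow, Complex.ofReal_mul, Complex.ofReal_sin, Complex.sin]
  push_cast
  linear_combination ((Complex.exp (-(↑Real.pi * (↑x - ↑y)) * Complex.I) -
    Complex.exp (↑Real.pi * (↑x - ↑y) * Complex.I)) ^ 2) * Complex.I_sq

lemma det_delta_sq (z : Fin r → ℂ) :
    (Matrix.of fun i j : Fin r => z j ^ (r - 1 - (i : ℕ))).det ^ 2 =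
      ∏ p ∈ (univ : Finset (Fin r × Fin r)).filter (fun p => p.1 < p.2), (z p.1 - z p.2) ^ 2 := by
  have h : (Matrix.of fun i j : Fin r => z j ^ (r - 1 - (i : ℕ))) =
      (Matrix.vandermonde z).transpose.submatrix Fin.revPerm id := by
    ext i j
    simp only [Matrix.submatrix_apply, id_eq, Matrix.transpose_apply, Matrix.vandermonde_apply,
      Matrix.of_apply, Fin.revPerm_apply, Fin.val_rev]
    congr 1
    have := i.isLt; omega
  rw [h, Matrix.det_permute, Matrix.det_transpose, Matrix.det_vandermonde, mul_pow, ← Int.cast_pow,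
    ← Units.val_pow_eq_pow_val, Int.units_sq]
  simp only [Units.val_one, Int.cast_one, one_mul, ← Finset.prod_pow]
  rw [Finset.prod_filter, ← Finset.univ_product_univ, Finset.prod_product]
  refine Finset.prod_congr rfl fun i _ => ?_
  rw [← Finset.prod_filter]
  refine Finset.prod_congr ?_ fun j _ => by ring
  ext j; simp

/-- number of pairs -/
def C2 (r : ℕ) : ℕ := ((univ : Finset (Fin r × Fin r)).filter (fun p => p.1 < p.2)).card

end Groth.Agent.Lead.Verlinde
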